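/-
Transvections in an absolutely irreducible subgroup of SL(3): conjugation, spanning, partners.
-/
import Cfsg.Agent.Lib.Geo.SL3.Basic
import Cfsg.Agent.S0199

set_option autoImplicit false

namespace CfsgLib.Geo.SL3.Trans

open Matrix CfsgLib.Geo.Roots
open scoped commutatorElement

variable {F : Type*} [Field F] {L : Subgroup (Matrix.GeneralLinearGroup (Fin 3) F)}

/-- A non-trivial root. -/
structure NRoot (L : Subgroup (Matrix.GeneralLinearGroup (Fin 3) F)) (φ u : Fin 3 → F) : Prop where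
  root : Root L φ u
  axis_ne : φ ≠ 0
  centre_ne : u ≠ 0

theorem exists_nroot (h : ¬ NoTransvection L) : ∃ φ u, NRoot L φ u := by
  simp only [NoTransvection, not_forall, not_or] at h
  obtain ⟨φ, u, h1, h2, h3⟩ := h
  exact ⟨φ, u, h1, h2, h3⟩

/-- The two transvections generate a special linear group. -/
structure Partner (φ u ψ v : Fin 3 → F) : Prop where
  left : φ ⬝ᵥ v ≠ 0
  right : ψ ⬝ᵥ u ≠ 0

theorem Partner.symm {φ u ψ v : Fin 3 → F} (h : Partner φ u ψ v) : Partner ψ v φ u := ⟨h.right, h.left⟩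

theorem dot_conj (g : Matrix.GeneralLinearGroup (Fin 3) F) (φ v : Fin 3 → F) :
    (φ ᵥ* ((g⁻¹ : Matrix.GeneralLinearGroup (Fin 3) F) : Matrix (Fin 3) (Fin 3) F)) ⬝ᵥ
      ((g : Matrix (Fin 3) (Fin 3) F) *ᵥ v) = φ ⬝ᵥ v := by
  rw [← Matrix.dotProduct_mulVec, Matrix.mulVec_mulVec, Units.inv_mul, Matrix.one_mulVec]

theorem mulVec_ne_zero (g : Matrix.GeneralLinearGroup (Fin 3) F) {v : Fin 3 → F} (hv : v ≠ 0) :
    (g : Matrix (Fin 3) (Fin 3) F) *ᵥ v ≠ 0 := fun h => hv (by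
  have := congrArg (fun w => ((g⁻¹ : Matrix.GeneralLinearGroup (Fin 3) F) : Matrix (Fin 3) (Fin 3) F) *ᵥ w) h
  simpa [Matrix.mulVec_mulVec] using this)

theorem vecMul_ne_zero (g : Matrix.GeneralLinearGroup (Fin 3) F) {v : Fin 3 → F} (hv : v ≠ 0) :
    v ᵥ* (g : Matrix (Fin 3) (Fin 3) F) ≠ 0 := fun h => hv (by
  have := congrArg (fun w => w ᵥ* ((g⁻¹ : Matrix.GeneralLinearGroup (Fin 3) F) : Matrix (Fin 3) (Fin 3) F)) h
  simpa [Matrix.vecMul_vecMul] using this)

theorem NRoot.conj {φ u : Fin 3 → F} (h : NRoot L φ u) {g : Matrix.GeneralLinearGroup (Fin 3) F} (hg : g ∈ L) :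
    NRoot L (φ ᵥ* ((g⁻¹ : Matrix.GeneralLinearGroup (Fin 3) F) : Matrix (Fin 3) (Fin 3) F))
      ((g : Matrix (Fin 3) (Fin 3) F) *ᵥ u) :=
  ⟨h.root.conj hg, vecMul_ne_zero _ h.axis_ne, mulVec_ne_zero _ h.centre_ne⟩

/-- Conjugate roots. -/
def IsConjRoot (L : Subgroup (Matrix.GeneralLinearGroup (Fin 3) F)) (φ u ψ v : Fin 3 → F) : Prop :=
  ∃ g ∈ L, φ ᵥ* ((g⁻¹ : Matrix.GeneralLinearGroup (Fin 3) F) : Matrix (Fin 3) (Fin 3) F) = ψ ∧
    (g : Matrix (Fin 3) (Fin 3) F) *ᵥ u = v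

theorem IsConjRoot.refl (φ u : Fin 3 → F) : IsConjRoot L φ u φ u := ⟨1, L.one_mem, by simp, by simp⟩

theorem IsConjRoot.nroot {φ u ψ v : Fin 3 → F} (h : IsConjRoot L φ u ψ v) (hr : NRoot L φ u) : NRoot L ψ v := by
  obtain ⟨g, hg, rfl, rfl⟩ := h
  exact hr.conj hg

theorem IsConjRoot.trans_conj {φ u ψ v : Fin 3 → F} (h : IsConjRoot L φ u ψ v)
    {g : Matrix.GeneralLinearGroup (Fin 3) F} (hg : g ∈ L) :
    IsConjRoot L φ u (ψ ᵥ* ((g⁻¹ : Matrix.GeneralLinearGroup (Fin 3) F) : Matrix (Fin 3) (Fin 3) F))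
      ((g : Matrix (Fin 3) (Fin 3) F) *ᵥ v) := by
  obtain ⟨a, ha, rfl, rfl⟩ := h
  refine ⟨g * a, L.mul_mem hg ha, ?_, ?_⟩
  · rw [_root_.mul_inv_rev, Units.val_mul, Matrix.vecMul_vecMul]
  · rw [Units.val_mul, Matrix.mulVec_mulVec]

/-- Some member of an invariant set of vectors is moved by a given functional. -/
theorem exists_dot_ne_left (hL : IsCore L) {P : (Fin 3 → F) → Prop}
    (hP : ∀ g ∈ L, ∀ u, P u → P ((g : Matrix (Fin 3) (Fin 3) F) *ᵥ u)) (h0 : ∃ u, P u ∧ u ≠ 0)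
    {φ : Fin 3 → F} (hφ : φ ≠ 0) : ∃ u, P u ∧ φ ⬝ᵥ u ≠ 0 := by
  by_contra! hc
  have key : Submodule.span F {u | P u} = ⊥ ∨ Submodule.span F {u | P u} = ⊤ := by
    refine hL.absIrred.1 _ ?_
    rintro _ ⟨g, hg, rfl⟩
    rw [Submodule.map_span]
    refine Submodule.span_le.2 ?_
    rintro _ ⟨u, hu, rfl⟩
    exact Submodule.subset_span (by simpa using hP g hg u hu)
  rcases key with h | h
  · obtain ⟨u, hu, hu0⟩ := h0
    exact hu0 ((Submodule.mem_bot F).1 (h ▸ Submodule.subset_span hu))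
  · refine hφ (eq_of_dot fun x => ?_)
    have hx : x ∈ Submodule.span F {u | P u} := h ▸ Submodule.mem_top
    induction hx using Submodule.span_induction with
    | mem y hy => rw [hc y hy, zero_dotProduct]
    | zero => simp
    | add y z _ _ hy hz => simp [dotProduct_add, hy, hz]
    | smul c y _ hy => simp [dotProduct_smul, hy]

/-- Some member of an invariant set of functionals moves a given vector. -/
theorem exists_dot_ne_right (hL : IsCore L) {P : (Fin 3 → F) → Prop}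
    (hP : ∀ g ∈ L, ∀ φ, P φ →
      P (φ ᵥ* ((g⁻¹ : Matrix.GeneralLinearGroup (Fin 3) F) : Matrix (Fin 3) (Fin 3) F)))
    (h0 : ∃ φ, P φ ∧ φ ≠ 0) {u : Fin 3 → F} (hu : u ≠ 0) : ∃ φ, P φ ∧ φ ⬝ᵥ u ≠ 0 := by
  by_contra! hc
  let W : Submodule F (Fin 3 → F) :=
    { carrier := {x | ∀ φ, P φ → φ ⬝ᵥ x = 0}
      zero_mem' := fun φ _ => dotProduct_zero φ
      add_mem' := fun {x y} hx hy φ hφ => by rw [dotProduct_add, hx φ hφ, hy φ hφ, add_zero]
      smul_mem' := fun c x hx φ hφ => by rw [dotProduct_smul, hx φ hφ, smul_zero] }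
  have key : W = ⊥ ∨ W = ⊤ := by
    refine hL.absIrred.1 _ ?_
    rintro _ ⟨g, hg, rfl⟩ _ ⟨x, hx, rfl⟩ φ hφ
    show φ ⬝ᵥ Matrix.toLin' (g : Matrix (Fin 3) (Fin 3) F) x = 0
    rw [Matrix.toLin'_apply, Matrix.dotProduct_mulVec]
    have := hx _ (hP g⁻¹ (L.inv_mem hg) φ hφ)
    rwa [inv_inv] at this
  rcases key with h | h
  · exact hu ((Submodule.mem_bot F).1 (h ▸ (show u ∈ W from hc)))
  · obtain ⟨φ, hφ, hφ0⟩ := h0
    exact hφ0 (eq_of_dot fun x => by
      rw [(show x ∈ W from h ▸ Submodule.mem_top) φ hφ, zero_dotProduct])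

theorem transvection_not_scalar {φ u : Fin 3 → F} (hφ : φ ≠ 0) (hu : u ≠ 0) (h : φ ⬝ᵥ u = 0) :
    transvectionGL φ u h ∉ Cfsg.Geo.scalars (Fin 3) F := by
  intro hm
  obtain ⟨c, hc⟩ := (Cfsg.Geo.mem_scalars_iff _).1 hm
  have e : ∀ x : Fin 3 → F, x + (φ ⬝ᵥ x) • u = (c : F) • x := fun x => by
    rw [← transvectionGL_mulVec φ u h x, hc, Matrix.smul_mulVec, Matrix.one_mulVec]
  have e1 := e u
  rw [h, zero_smul, add_zero] at e1
  have hc1 : (c : F) = 1 := smul_left_injective F hu (by simpa using e1.symm)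
  refine hφ (eq_of_dot fun x => ?_)
  have e2 := e x
  rw [hc1, one_smul, add_eq_left, smul_eq_zero] at e2
  rw [e2.resolve_right hu, zero_dotProduct]

/-- A non-scalar element generates the group under an invariant subgroup. -/
theorem le_of_invariant (hL : IsCore L) {N : Subgroup (Matrix.GeneralLinearGroup (Fin 3) F)}
    (hN : ∀ g ∈ L, ∀ x ∈ L, x ∈ N → g * x * g⁻¹ ∈ N) {x : Matrix.GeneralLinearGroup (Fin 3) F}
    (hx : x ∈ L) (hxN : x ∈ N) (hxs : x ∉ Cfsg.Geo.scalars (Fin 3) F) : L ≤ N := by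
  set Z := (Cfsg.Geo.scalars (Fin 3) F).subgroupOf L
  haveI : (N.subgroupOf L).Normal := ⟨fun a ha g => hN _ g.2 _ a.2 ha⟩
  have hmap : ((N.subgroupOf L).map (QuotientGroup.mk' Z)).Normal :=
    Subgroup.Normal.map inferInstance _ (QuotientGroup.mk'_surjective Z)
  haveI := hL.simple
  rcases Subgroup.Normal.eq_bot_or_eq_top hmap with h | h
  · have : QuotientGroup.mk' Z ⟨x, hx⟩ ∈ (N.subgroupOf L).map (QuotientGroup.mk' Z) :=
      Subgroup.mem_map_of_mem _ hxN
    rw [h, Subgroup.mem_bot, QuotientGroup.mk'_apply, QuotientGroup.eq_one_iff] at this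
    exact absurd this hxs
  · have dec : ∀ a ∈ L, ∃ n ∈ N, ∃ z ∈ Cfsg.Geo.scalars (Fin 3) F, a = n * z := fun a ha => by
      obtain ⟨n, hn, hna⟩ := (h.ge (Subgroup.mem_top (QuotientGroup.mk' Z ⟨a, ha⟩)))
      rw [QuotientGroup.mk'_apply, QuotientGroup.mk'_apply, QuotientGroup.eq] at hna
      exact ⟨n, hn, (n : Matrix.GeneralLinearGroup (Fin 3) F)⁻¹ * a, hna, by rw [mul_inv_cancel_left]⟩
    have hz : ∀ z ∈ Cfsg.Geo.scalars (Fin 3) F, ∀ g : Matrix.GeneralLinearGroup (Fin 3) F, Commute z g := by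
      intro z hz g
      obtain ⟨c, hc⟩ := (Cfsg.Geo.mem_scalars_iff z).1 hz
      exact Units.ext (by simp [hc])
    intro a ha
    rw [← hL.perfect] at ha
    refine Subgroup.commutator_le.2 (fun b hb c hc => ?_) ha
    obtain ⟨n, hn, z, hz1, rfl⟩ := dec b hb
    obtain ⟨m, hm, w, hw1, rfl⟩ := dec c hc
    have e : ⁅n * z, m * w⁆ = ⁅n, m⁆ := by
      simp only [commutatorElement_def, _root_.mul_inv_rev]
      calc n * z * (m * w) * (z⁻¹ * n⁻¹) * (w⁻¹ * m⁻¹)
          = n * (z * (m * w) * z⁻¹) * n⁻¹ * w⁻¹ * m⁻¹ := by group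
        _ = n * (m * w) * n⁻¹ * w⁻¹ * m⁻¹ := by rw [(hz z hz1 _).eq, mul_inv_cancel_right]
        _ = n * m * (w * n⁻¹ * w⁻¹) * m⁻¹ := by group
        _ = n * m * n⁻¹ * m⁻¹ := by rw [(hz w hw1 _).eq, mul_inv_cancel_right]
    rw [e]
    exact N.mul_mem (N.mul_mem (N.mul_mem hn hm) (N.inv_mem hn)) (N.inv_mem hm)

/-- The group is generated by its transvections. -/
theorem le_of_roots (hL : IsCore L) (hT : ¬ NoTransvection L) {N : Subgroup (Matrix.GeneralLinearGroup (Fin 3) F)}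
    (h : ∀ φ u, NRoot L φ u → Root N φ u) : L ≤ N := by
  let S : Set (Matrix.GeneralLinearGroup (Fin 3) F) :=
    {t | ∃ φ u, NRoot L φ u ∧ ∃ e : φ ⬝ᵥ u = 0, t = transvectionGL φ u e}
  refine le_trans ?_ ((Subgroup.closure_le N).2 ?_ : Subgroup.closure S ≤ N)
  · obtain ⟨φ, u, hr⟩ := exists_nroot hT
    obtain ⟨e, hm⟩ := id hr.root
    refine le_of_invariant hL (fun g hg x _ hx => ?_) hm (Subgroup.subset_closure ⟨φ, u, hr, e, rfl⟩)
      (transvection_not_scalar hr.axis_ne hr.centre_ne e)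
    have hinv : Subgroup.closure S ≤ (Subgroup.closure S).comap (MulAut.conj g).toMonoidHom := by
      refine (Subgroup.closure_le _).2 ?_
      rintro _ ⟨ψ, v, hv, e', rfl⟩
      refine Subgroup.subset_closure ⟨_, _, hv.conj hg, by rw [dot_conj, e'], ?_⟩
      refine ext_mulVec fun y => ?_
      show ((g * transvectionGL ψ v e' * g⁻¹ : Matrix.GeneralLinearGroup (Fin 3) F) :
        Matrix (Fin 3) (Fin 3) F) *ᵥ y = _
      rw [Units.val_mul, Units.val_mul, ← Matrix.mulVec_mulVec, ← Matrix.mulVec_mulVec,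
        transvectionGL_mulVec, transvectionGL_mulVec, Matrix.mulVec_add, Matrix.mulVec_smul,
        Matrix.dotProduct_mulVec, Matrix.mulVec_mulVec, Units.mul_inv, Matrix.one_mulVec]
    exact hinv hx
  · rintro _ ⟨φ, u, hr, e, rfl⟩
    exact (h φ u hr).2

/-- Two transvections with one vanishing cross product lie in a finite `p`-group. -/
theorem isPGroup_pair [Finite F] (p : ℕ) [Fact p.Prime] [CharP F p]
    {g h : Matrix.GeneralLinearGroup (Fin 3) F}
    (gg : ((g : Matrix (Fin 3) (Fin 3) F) - 1) * ((g : Matrix (Fin 3) (Fin 3) F) - 1) = 0)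
    (hh : ((h : Matrix (Fin 3) (Fin 3) F) - 1) * ((h : Matrix (Fin 3) (Fin 3) F) - 1) = 0)
    (gh : ((g : Matrix (Fin 3) (Fin 3) F) - 1) * ((h : Matrix (Fin 3) (Fin 3) F) - 1) = 0) :
    IsPGroup p (Subgroup.closure ({g, h} : Set (Matrix.GeneralLinearGroup (Fin 3) F))) := by
  set N := (g : Matrix (Fin 3) (Fin 3) F) - 1
  set M := (h : Matrix (Fin 3) (Fin 3) F) - 1
  let A : Submodule F (Matrix (Fin 3) (Fin 3) F) := Submodule.span F {N, M, M * N}
  have hMN : ∀ X ∈ A, ∀ Y ∈ A, X * Y ∈ Submodule.span F ({M * N} : Set (Matrix (Fin 3) (Fin 3) F)) := by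
    intro X hX Y hY
    obtain ⟨a, b, c, rfl⟩ := Submodule.mem_span_triple.1 hX
    obtain ⟨a', b', c', rfl⟩ := Submodule.mem_span_triple.1 hY
    have h1 : N * (M * N) = 0 := by rw [← mul_assoc, gh, zero_mul]
    have h2 : M * (M * N) = 0 := by rw [← mul_assoc, hh, zero_mul]
    have h3 : M * N * N = 0 := by rw [mul_assoc, gg, mul_zero]
    have h4 : M * N * M = 0 := by rw [mul_assoc, gh, mul_zero]
    have h5 : M * N * (M * N) = 0 := by rw [← mul_assoc, h4, zero_mul]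
    refine Submodule.mem_span_singleton.2 ⟨b * a', ?_⟩
    simp only [add_mul, mul_add, Matrix.smul_mul, Matrix.mul_smul, gg, hh, gh, h1, h2, h3, h4, h5, smul_zero,
      add_zero, zero_add, smul_smul, mul_comm b a']
  have hcube : ∀ X ∈ A, X * X * X = 0 := by
    intro X hX
    obtain ⟨r, hr⟩ := Submodule.mem_span_singleton.1 (hMN X hX X hX)
    obtain ⟨a, b, c, rfl⟩ := Submodule.mem_span_triple.1 hX
    rw [← hr]
    have h3 : M * N * N = 0 := by rw [mul_assoc, gg, mul_zero]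
    have h4 : M * N * M = 0 := by rw [mul_assoc, gh, mul_zero]
    simp only [mul_add, Matrix.smul_mul, Matrix.mul_smul, ← mul_assoc, h3, h4, zero_mul, smul_zero, add_zero]
  have hsub : ∀ X ∈ A, ∀ Y ∈ A, X * Y ∈ A := fun X hX Y hY =>
    Submodule.span_mono (by simp) (hMN X hX Y hY)
  let U : Subgroup (Matrix.GeneralLinearGroup (Fin 3) F) :=
    { carrier := {w | (w : Matrix (Fin 3) (Fin 3) F) - 1 ∈ A}
      one_mem' := by simp
      mul_mem' := fun {x y} hx hy => by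
        show ((x * y : Matrix.GeneralLinearGroup (Fin 3) F) : Matrix (Fin 3) (Fin 3) F) - 1 ∈ A
        have e : ((x * y : Matrix.GeneralLinearGroup (Fin 3) F) : Matrix (Fin 3) (Fin 3) F) - 1 =
            ((x : Matrix (Fin 3) (Fin 3) F) - 1) + ((y : Matrix (Fin 3) (Fin 3) F) - 1) +
              ((x : Matrix (Fin 3) (Fin 3) F) - 1) * ((y : Matrix (Fin 3) (Fin 3) F) - 1) := by
          rw [Units.val_mul]; noncomm_ring
        rw [e]
        exact A.add_mem (A.add_mem hx hy) (hsub _ hx _ hy)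
      inv_mem' := fun {x} hx => by
        show ((x⁻¹ : Matrix.GeneralLinearGroup (Fin 3) F) : Matrix (Fin 3) (Fin 3) F) - 1 ∈ A
        set X := (x : Matrix (Fin 3) (Fin 3) F) - 1 with hX
        have e : ((x⁻¹ : Matrix.GeneralLinearGroup (Fin 3) F) : Matrix (Fin 3) (Fin 3) F) = 1 - X + X * X := by
          refine Units.inv_eq_of_mul_eq_one_right ?_
          rw [show (x : Matrix (Fin 3) (Fin 3) F) = 1 + X by rw [hX]; abel]
          calc (1 + X) * (1 - X + X * X) = 1 + X * X * X := by noncomm_ring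
            _ = 1 := by rw [hcube X hx, add_zero]
        rw [e, show (1 : Matrix (Fin 3) (Fin 3) F) - X + X * X - 1 = X * X - X by abel]
        exact A.sub_mem (hsub _ hx _ hx) hx }
  have hU : IsPGroup p U := by
    intro w
    refine ⟨2, Subtype.ext (Units.ext ?_)⟩
    rw [SubgroupClass.coe_pow, Units.val_pow_eq_pow_val]
    set X := ((w : Matrix.GeneralLinearGroup (Fin 3) F) : Matrix (Fin 3) (Fin 3) F) - 1 with hX
    haveI : CharP (Matrix (Fin 3) (Fin 3) F) p := inferInstance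
    rw [show ((w : Matrix.GeneralLinearGroup (Fin 3) F) : Matrix (Fin 3) (Fin 3) F) = 1 + X by rw [hX]; abel,
      add_pow_char_pow_of_commute p 2 (Commute.one_left X), one_pow]
    have h3 : 3 ≤ p ^ 2 := le_trans (by norm_num) (Nat.pow_le_pow_left (Fact.out : p.Prime).two_le 2)
    obtain ⟨m, hm⟩ := Nat.exists_eq_add_of_le h3
    rw [hm, pow_add, pow_succ, pow_succ, pow_one, hcube X w.2, zero_mul, add_zero]
    rfl
  refine hU.to_le ((Subgroup.closure_le U).2 ?_)
  rintro w (rfl | rfl)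
  · exact Submodule.subset_span (by simp [N])
  · exact Submodule.subset_span (by simp [M])

theorem transvection_sub_one_mul {φ u ψ v : Fin 3 → F} (e : φ ⬝ᵥ u = 0) (e' : ψ ⬝ᵥ v = 0) :
    ((transvectionGL φ u e : Matrix.GeneralLinearGroup (Fin 3) F) : Matrix (Fin 3) (Fin 3) F) - 1 =
      Matrix.vecMulVec u φ ∧
    Matrix.vecMulVec u φ * Matrix.vecMulVec v ψ = (φ ⬝ᵥ v) • Matrix.vecMulVec u ψ := by
  refine ⟨?_, ?_⟩
  · show 1 + Matrix.vecMulVec u φ - 1 = _
    abel
  · rw [Matrix.vecMulVec_mul_vecMulVec, Matrix.vecMulVec_smul]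

set_option maxHeartbeats 800000 in
/-- Every root has a partner among its conjugates. -/
theorem exists_partner_conj [Finite F] (hL : IsCore L) {φ u : Fin 3 → F} (hr : NRoot L φ u) :
    ∃ ψ v, IsConjRoot L φ u ψ v ∧ Partner φ u ψ v := by
  classical
  obtain ⟨p, hchar⟩ := CharP.exists F
  haveI : Fact p.Prime := ⟨CharP.char_is_prime F p⟩
  by_contra hc
  push Not at hc
  obtain ⟨e, hm⟩ := id hr.root
  let T : L := ⟨transvectionGL φ u e, hm⟩
  let t := transvectionGL φ u e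
  have sq : ∀ {ψ v : Fin 3 → F} (e' : ψ ⬝ᵥ v = 0),
      (((transvectionGL ψ v e' : Matrix.GeneralLinearGroup (Fin 3) F) : Matrix (Fin 3) (Fin 3) F) - 1) *
      (((transvectionGL ψ v e' : Matrix.GeneralLinearGroup (Fin 3) F) : Matrix (Fin 3) (Fin 3) F) - 1) = 0 := by
    intro ψ v e'
    obtain ⟨h1, h2⟩ := transvection_sub_one_mul (φ := ψ) (u := v) (ψ := ψ) (v := v) e' e'
    rw [h1, h2, e', zero_smul]
  have hpair : ∀ g : L, IsPGroup p
      (Subgroup.closure ({(T : Matrix.GeneralLinearGroup (Fin 3) F),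
        (g : Matrix.GeneralLinearGroup (Fin 3) F) * T * (g : Matrix.GeneralLinearGroup (Fin 3) F)⁻¹} :
        Set (Matrix.GeneralLinearGroup (Fin 3) F))) := by
    intro g
    obtain ⟨e', -⟩ := (hr.conj g.2).root
    have hconj : (g : Matrix.GeneralLinearGroup (Fin 3) F) * T * (g : Matrix.GeneralLinearGroup (Fin 3) F)⁻¹ =
        transvectionGL _ _ e' := by
      refine ext_mulVec fun y => ?_
      rw [Units.val_mul, Units.val_mul, ← Matrix.mulVec_mulVec, ← Matrix.mulVec_mulVec,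
        transvectionGL_mulVec, transvectionGL_mulVec, Matrix.mulVec_add, Matrix.mulVec_smul,
        Matrix.dotProduct_mulVec, Matrix.mulVec_mulVec, Units.mul_inv, Matrix.one_mulVec]
    rw [hconj]
    by_cases h1 : φ ⬝ᵥ ((g : Matrix.GeneralLinearGroup (Fin 3) F) : Matrix (Fin 3) (Fin 3) F) *ᵥ u = 0
    · refine isPGroup_pair p (sq e) (sq e') ?_
      rw [(transvection_sub_one_mul e e').1, (transvection_sub_one_mul e' e).1,
        (transvection_sub_one_mul e e').2, h1, zero_smul]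
    · have h2 : (φ ᵥ* (((g : Matrix.GeneralLinearGroup (Fin 3) F)⁻¹ : Matrix.GeneralLinearGroup (Fin 3) F) :
          Matrix (Fin 3) (Fin 3) F)) ⬝ᵥ u = 0 := by
        by_contra h2
        exact hc _ _ ⟨_, g.2, rfl, rfl⟩ ⟨h1, h2⟩
      rw [Set.pair_comm]
      refine isPGroup_pair p (sq e') (sq e) ?_
      rw [(transvection_sub_one_mul e e').1, (transvection_sub_one_mul e' e).1,
        (transvection_sub_one_mul e' e).2, h2, zero_smul]
  have hjoin : ∀ g : L, IsPGroup p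
      ↥(Subgroup.zpowers T ⊔ (Subgroup.zpowers T).map (MulAut.conj g).toMonoidHom) := by
    intro g x
    have hle : (Subgroup.zpowers T ⊔ (Subgroup.zpowers T).map (MulAut.conj g).toMonoidHom).map L.subtype ≤
        Subgroup.closure ({(T : Matrix.GeneralLinearGroup (Fin 3) F),
        (g : Matrix.GeneralLinearGroup (Fin 3) F) * T * (g : Matrix.GeneralLinearGroup (Fin 3) F)⁻¹} :
          Set (Matrix.GeneralLinearGroup (Fin 3) F)) := by
      rw [Subgroup.map_sup, MonoidHom.map_zpowers, MonoidHom.map_zpowers, MonoidHom.map_zpowers, sup_le_iff,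
        Subgroup.zpowers_le, Subgroup.zpowers_le]
      exact ⟨Subgroup.subset_closure (Or.inl rfl), Subgroup.subset_closure (Or.inr rfl)⟩
    obtain ⟨k, hk⟩ := hpair g ⟨_, hle (Subgroup.mem_map_of_mem L.subtype x.2)⟩
    refine ⟨k, Subtype.ext (Subtype.ext ?_)⟩
    have h1 := congrArg Subtype.val hk
    rw [SubgroupClass.coe_pow, OneMemClass.coe_one] at h1
    rw [SubgroupClass.coe_pow, SubgroupClass.coe_pow, OneMemClass.coe_one, OneMemClass.coe_one]
    exact h1
  obtain ⟨N, hNn, hNp, hTN⟩ :=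
    Cfsg.Agent.S0199.result (G := L) (p := p) (Subgroup.zpowers T) ((hjoin 1).to_le le_sup_left) hjoin
  have hT1 : transvectionGL φ u e ∈ N.map L.subtype :=
    Subgroup.mem_map.2 ⟨T, hTN (Subgroup.mem_zpowers T), L.subtype_apply T⟩
  have hinv : ∀ g ∈ L, ∀ x ∈ L, x ∈ N.map L.subtype → g * x * g⁻¹ ∈ N.map L.subtype := by
    intro g hg x _ hxN
    obtain ⟨n, hn, rfl⟩ := Subgroup.mem_map.1 hxN
    have hc := hNn.conj_mem n hn (⟨g, hg⟩ : L)
    have hc' := Subgroup.mem_map_of_mem L.subtype hc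
    rw [map_mul, map_mul, map_inv] at hc'
    exact hc'
  have hle := le_of_invariant hL hinv hm hT1 (transvection_not_scalar hr.axis_ne hr.centre_ne e)
  have hp : IsPGroup p L := by
    intro x
    obtain ⟨n, hn, hx⟩ := Subgroup.mem_map.1 (hle x.2)
    obtain ⟨k, hk⟩ := hNp ⟨n, hn⟩
    have : n = x := Subtype.ext hx
    subst this
    exact ⟨k, congrArg Subtype.val hk⟩
  haveI : Group.IsNilpotent L := hp.isNilpotent
  haveI : Group.IsSolvable L := IsNilpotent.to_isSolvable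
  haveI : Nontrivial L := ⟨T, 1, fun h => transvection_not_scalar hr.axis_ne hr.centre_ne e (by
    show (T : Matrix.GeneralLinearGroup (Fin 3) F) ∈ _
    rw [h]; exact one_mem _)⟩
  refine (IsSolvable.commutator_lt_top_of_nontrivial L).ne (Subgroup.map_injective L.subtype_injective ?_)
  rw [Subgroup.map_subtype_commutator, hL.perfect, ← MonoidHom.range_eq_map, Subgroup.range_subtype]

end CfsgLib.Geo.SL3.Trans
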