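/-
Any two roots have partner conjugates; changes of basis.
-/
import Cfsg.Agent.Lib.Geo.SL3.Trans.Base

set_option autoImplicit false

namespace CfsgLib.Geo.SL3.Trans

open Matrix CfsgLib.Geo.Roots

variable {F : Type*} [Field F] {L : Subgroup (Matrix.GeneralLinearGroup (Fin 3) F)}

/-- The vectors of a partner pair and a common zero of the functionals are independent. -/
theorem combination_eq_zero {φ u ψ v w : Fin 3 → F} (hp : Partner φ u ψ v) (hu : φ ⬝ᵥ u = 0) (hv : ψ ⬝ᵥ v = 0)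
    (h1 : φ ⬝ᵥ w = 0) (h2 : ψ ⬝ᵥ w = 0) (hw : w ≠ 0) {a b c : F} (h : a • u + b • v + c • w = 0) :
    a = 0 ∧ b = 0 ∧ c = 0 := by
  have e1 := congrArg (fun x => φ ⬝ᵥ x) h
  have e2 := congrArg (fun x => ψ ⬝ᵥ x) h
  simp only [dotProduct_add, dotProduct_smul, hu, h1, smul_eq_mul, mul_zero, zero_add, add_zero,
    dotProduct_zero] at e1
  simp only [dotProduct_add, dotProduct_smul, hv, h2, smul_eq_mul, mul_zero, add_zero, dotProduct_zero] at e2
  have hb := (mul_eq_zero.1 e1).resolve_right hp.left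
  have ha := (mul_eq_zero.1 e2).resolve_right hp.right
  rw [ha, hb, zero_smul, zero_smul, zero_add, zero_add, smul_eq_zero] at h
  exact ⟨ha, hb, h.resolve_right hw⟩

/-- The matrix with the given columns. -/
def colMat (u v w : Fin 3 → F) : Matrix (Fin 3) (Fin 3) F :=
  !![u 0, v 0, w 0; u 1, v 1, w 1; u 2, v 2, w 2]

theorem colMat_mulVec (u v w x : Fin 3 → F) : colMat u v w *ᵥ x = x 0 • u + x 1 • v + x 2 • w := by
  ext i
  fin_cases i <;> simp [colMat, Matrix.mulVec, dotProduct, Fin.sum_univ_succ] <;> ring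

/-- The basis attached to a partner pair. -/
theorem exists_frame {φ u ψ v w : Fin 3 → F} (hp : Partner φ u ψ v) (hu : φ ⬝ᵥ u = 0) (hv : ψ ⬝ᵥ v = 0)
    (h1 : φ ⬝ᵥ w = 0) (h2 : ψ ⬝ᵥ w = 0) (hw : w ≠ 0) :
    ∃ C : Matrix.GeneralLinearGroup (Fin 3) F, (C : Matrix (Fin 3) (Fin 3) F) = colMat u v w := by
  have hdet : (colMat u v w).det ≠ 0 := by
    intro h
    obtain ⟨x, hx0, hx⟩ := Matrix.exists_mulVec_eq_zero_iff.2 h
    rw [colMat_mulVec] at hx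
    obtain ⟨a, b, c⟩ := combination_eq_zero hp hu hv h1 h2 hw hx
    exact hx0 (funext fun i => by fin_cases i <;> assumption)
  exact ⟨Matrix.GeneralLinearGroup.mkOfDetNeZero _ hdet, rfl⟩

/-- A common zero of two functionals. -/
theorem exists_common_zero (φ ψ : Fin 3 → F) : ∃ w : Fin 3 → F, w ≠ 0 ∧ φ ⬝ᵥ w = 0 ∧ ψ ⬝ᵥ w = 0 := by
  let f : (Fin 3 → F) →ₗ[F] F × F :=
    { toFun := fun x => (φ ⬝ᵥ x, ψ ⬝ᵥ x)
      map_add' := fun x y => by simp [dotProduct_add]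
      map_smul' := fun c x => by simp [dotProduct_smul] }
  have h : ¬ Function.Injective f := fun hf => by
    have := LinearMap.finrank_le_finrank_of_injective hf
    simp at this
  rw [← LinearMap.ker_eq_bot] at h
  obtain ⟨w, hw, hw0⟩ := (Submodule.ne_bot_iff _).1 h
  exact ⟨w, hw0, congrArg Prod.fst hw, congrArg Prod.snd hw⟩

/-- A functional killing the three vectors of a frame is zero. -/
theorem eq_zero_of_frame {φ u ψ v w χ : Fin 3 → F} (hp : Partner φ u ψ v) (hu : φ ⬝ᵥ u = 0) (hv : ψ ⬝ᵥ v = 0)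
    (h1 : φ ⬝ᵥ w = 0) (h2 : ψ ⬝ᵥ w = 0) (hw : w ≠ 0) (a : χ ⬝ᵥ u = 0) (b : χ ⬝ᵥ v = 0) (c : χ ⬝ᵥ w = 0) :
    χ = 0 := by
  obtain ⟨C, hC⟩ := exists_frame hp hu hv h1 h2 hw
  refine eq_of_dot fun x => ?_
  have e : x = (C : Matrix (Fin 3) (Fin 3) F) *ᵥ
      (((C⁻¹ : Matrix.GeneralLinearGroup (Fin 3) F) : Matrix (Fin 3) (Fin 3) F) *ᵥ x) := by
    rw [Matrix.mulVec_mulVec, Units.mul_inv, Matrix.one_mulVec]
  rw [e, hC, colMat_mulVec]
  simp [dotProduct_add, dotProduct_smul, a, b, c]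

theorem transvection_inv_mulVec {φ u : Fin 3 → F} (e : φ ⬝ᵥ u = 0) (x : Fin 3 → F) :
    ((transvectionGL φ u e)⁻¹ : Matrix.GeneralLinearGroup (Fin 3) F).1 *ᵥ x = x - (φ ⬝ᵥ x) • u := by
  show ((1 : Matrix (Fin 3) (Fin 3) F) - Matrix.vecMulVec u φ) *ᵥ x = _
  rw [Matrix.sub_mulVec, Matrix.one_mulVec, Matrix.vecMulVec_mulVec]
  congr 1
  ext i
  simp [mul_comm]

theorem vecMul_transvection_inv {φ u : Fin 3 → F} (e : φ ⬝ᵥ u = 0) (χ : Fin 3 → F) :
    χ ᵥ* ((transvectionGL φ u e)⁻¹ : Matrix.GeneralLinearGroup (Fin 3) F).1 = χ - (χ ⬝ᵥ u) • φ :=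
  eq_of_dot fun x => by
    rw [← Matrix.dotProduct_mulVec, transvection_inv_mulVec e, dotProduct_sub, dotProduct_smul,
      sub_dotProduct, smul_dotProduct, smul_eq_mul, smul_eq_mul, mul_comm]

/-- The conjugate of a root by another. -/
theorem IsConjRoot.trans_root {φ u χ c ψ v : Fin 3 → F} (h : IsConjRoot L φ u χ c) (hr : Root L ψ v) :
    IsConjRoot L φ u (χ - (χ ⬝ᵥ v) • ψ) (c + (ψ ⬝ᵥ c) • v) := by
  obtain ⟨e, hm⟩ := hr
  simpa only [transvectionGL_mulVec, vecMul_transvection_inv] using h.trans_conj hm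

/-- Any two roots: some conjugate of the second is a partner of the first. -/
theorem exists_partner_of [Finite F] (hL : IsCore L) {φ u χ c : Fin 3 → F} (hr : NRoot L φ u)
    (hr' : NRoot L χ c) : ∃ χ' c', IsConjRoot L χ c χ' c' ∧ Partner φ u χ' c' := by
  classical
  obtain ⟨ψ, v, ⟨g, hg, hgψ, hgv⟩, hp⟩ := exists_partner_conj hL hr
  have hr2 : NRoot L ψ v := IsConjRoot.nroot ⟨g, hg, hgψ, hgv⟩ hr
  by_contra hfail
  push Not at hfail
  have base : ∀ χ' c', IsConjRoot L χ c χ' c' → φ ⬝ᵥ c' = 0 ∨ χ' ⬝ᵥ u = 0 := by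
    intro χ' c' h
    by_contra! h'
    exact hfail χ' c' h ⟨h'.1, h'.2⟩
  have tr : ∀ (α a : Fin 3 → F), IsConjRoot L φ u α a → ∀ χ' c', IsConjRoot L χ c χ' c' →
      α ⬝ᵥ c' = 0 ∨ χ' ⬝ᵥ a = 0 := by
    rintro α a ⟨m, hm, rfl, rfl⟩ χ' c' h
    have := base _ _ (h.trans_conj (L.inv_mem hm))
    rw [inv_inv] at this
    rwa [Matrix.dotProduct_mulVec, ← Matrix.dotProduct_mulVec χ'] at this
  obtain ⟨w, hw0, hw1, hw2⟩ := exists_common_zero φ ψ
  have hu := hr.root.dot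
  have hv := hr2.root.dot
  have key : ∀ χ' c', IsConjRoot L χ c χ' c' →
      (φ ⬝ᵥ c' = 0 ∧ ψ ⬝ᵥ c' = 0) ∨ (χ' ⬝ᵥ u = 0 ∧ χ' ⬝ᵥ v = 0) := by
    intro χ' c' h
    have h1 := base _ _ h
    have h2 := tr ψ v ⟨g, hg, hgψ, hgv⟩ _ _ h
    have h3 := tr _ _ ((IsConjRoot.refl φ u).trans_root hr2.root) _ _ h
    simp only [sub_dotProduct, smul_dotProduct, dotProduct_add, dotProduct_smul, smul_eq_mul] at h3
    have hl := hp.left
    have hR := hp.right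
    rcases h1 with a | a <;> rcases h2 with b | b
    · exact Or.inl ⟨a, b⟩
    · rcases h3 with d | d
      · rw [a, zero_sub, neg_eq_zero, mul_eq_zero] at d
        exact Or.inl ⟨a, d.resolve_left hl⟩
      · rw [b, mul_zero, add_zero] at d
        exact Or.inr ⟨d, b⟩
    · rcases h3 with d | d
      · rw [b, mul_zero, sub_zero] at d
        exact Or.inl ⟨d, b⟩
      · rw [a, zero_add, mul_eq_zero] at d
        exact Or.inr ⟨a, d.resolve_left hR⟩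
    · exact Or.inr ⟨a, b⟩
  have hne : ∀ χ' c', IsConjRoot L χ c χ' c' →
      ¬ ((φ ⬝ᵥ c' = 0 ∧ ψ ⬝ᵥ c' = 0) ∧ (χ' ⬝ᵥ u = 0 ∧ χ' ⬝ᵥ v = 0)) := by
    rintro χ' c' h ⟨⟨a, b⟩, a', b'⟩
    have hn := h.nroot hr'
    exact hn.axis_ne (eq_zero_of_frame hp hu hv a b hn.centre_ne a' b' hn.root.dot)
  obtain ⟨χ₀, ⟨c₀, hc₀⟩, hA⟩ := exists_dot_ne_right hL (P := fun α => ∃ a, IsConjRoot L χ c α a)
    (fun m hm α ⟨a, ha⟩ => ⟨_, ha.trans_conj hm⟩) ⟨χ, ⟨c, IsConjRoot.refl χ c⟩, hr'.axis_ne⟩ hr.centre_ne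
  obtain ⟨c₁, ⟨χ₁, hc₁⟩, hB⟩ := exists_dot_ne_left hL (P := fun a => ∃ α, IsConjRoot L χ c α a)
    (fun m hm a ⟨α, ha⟩ => ⟨_, ha.trans_conj hm⟩) ⟨c, ⟨χ, IsConjRoot.refl χ c⟩, hr'.centre_ne⟩ hr.axis_ne
  have hA' := (key _ _ hc₀).resolve_right (fun h => hA h.1)
  have hB' := (key _ _ hc₁).resolve_left (fun h => hB h.1)
  rcases key _ _ (hc₁.trans_root (hc₀.nroot hr').root) with ⟨d, -⟩ | ⟨d, d'⟩
  · rw [dotProduct_add, dotProduct_smul, hA'.1, smul_zero, add_zero] at d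
    exact hB d
  · rw [sub_dotProduct, smul_dotProduct, hB'.1, zero_sub, neg_eq_zero, smul_eq_zero] at d
    rw [sub_dotProduct, smul_dotProduct, hB'.2, zero_sub, neg_eq_zero, smul_eq_zero] at d'
    have hn : χ₁ ⬝ᵥ c₀ ≠ 0 := fun h => (hc₁.nroot hr').axis_ne
      (eq_zero_of_frame hp hu hv hA'.1 hA'.2 (hc₀.nroot hr').centre_ne hB'.1 hB'.2 h)
    exact hne _ _ hc₀ ⟨hA', d.resolve_left hn, d'.resolve_left hn⟩

/-- The conjugate of a subgroup by a change of basis. -/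
def conjL (B : Matrix.GeneralLinearGroup (Fin 3) F) (L : Subgroup (Matrix.GeneralLinearGroup (Fin 3) F)) :
    Subgroup (Matrix.GeneralLinearGroup (Fin 3) F) :=
  L.map (MulAut.conj B).toMonoidHom

theorem mem_conjL {B g : Matrix.GeneralLinearGroup (Fin 3) F} : g ∈ conjL B L ↔ B⁻¹ * g * B ∈ L := by
  simp only [conjL, Subgroup.mem_map, MulEquiv.coe_toMonoidHom, MulAut.conj_apply]
  constructor
  · rintro ⟨x, hx, rfl⟩
    simpa [mul_assoc] using hx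
  · intro h
    exact ⟨_, h, by group⟩

theorem conjL_conjL (B : Matrix.GeneralLinearGroup (Fin 3) F) : conjL B⁻¹ (conjL B L) = L := by
  ext g
  rw [mem_conjL, mem_conjL, inv_inv, show B⁻¹ * (B * g * B⁻¹) * B = g by group]

theorem root_conjL_of {B : Matrix.GeneralLinearGroup (Fin 3) F} {φ u : Fin 3 → F} (h : Root L φ u) :
    Root (conjL B L) (φ ᵥ* ((B⁻¹ : Matrix.GeneralLinearGroup (Fin 3) F) : Matrix (Fin 3) (Fin 3) F))
      ((B : Matrix (Fin 3) (Fin 3) F) *ᵥ u) := by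
  obtain ⟨e, m⟩ := h
  refine ⟨by rw [dot_conj, e], ?_⟩
  rw [mem_conjL]
  convert m using 1
  rw [mul_assoc, inv_mul_eq_iff_eq_mul]
  refine ext_mulVec fun x => ?_
  rw [Units.val_mul, Units.val_mul, ← Matrix.mulVec_mulVec, ← Matrix.mulVec_mulVec, transvectionGL_mulVec,
    transvectionGL_mulVec, Matrix.mulVec_add, Matrix.mulVec_smul, ← Matrix.dotProduct_mulVec,
    Matrix.mulVec_mulVec, Units.inv_mul, Matrix.one_mulVec]

theorem root_conjL {B : Matrix.GeneralLinearGroup (Fin 3) F} {φ u : Fin 3 → F} :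
    Root (conjL B L) φ u ↔
      Root L (φ ᵥ* (B : Matrix (Fin 3) (Fin 3) F))
        (((B⁻¹ : Matrix.GeneralLinearGroup (Fin 3) F) : Matrix (Fin 3) (Fin 3) F) *ᵥ u) := by
  constructor
  · intro h
    have := root_conjL_of (B := B⁻¹) h
    rwa [conjL_conjL, inv_inv] at this
  · intro h
    have := root_conjL_of (B := B) h
    rwa [Matrix.vecMul_vecMul, Matrix.mulVec_mulVec, Units.mul_inv, Matrix.vecMul_one, Matrix.one_mulVec] at this

theorem nroot_conjL {B : Matrix.GeneralLinearGroup (Fin 3) F} {φ u : Fin 3 → F} :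
    NRoot (conjL B L) φ u ↔
      NRoot L (φ ᵥ* (B : Matrix (Fin 3) (Fin 3) F))
        (((B⁻¹ : Matrix.GeneralLinearGroup (Fin 3) F) : Matrix (Fin 3) (Fin 3) F) *ᵥ u) := by
  constructor
  · intro h
    exact ⟨root_conjL.1 h.root, vecMul_ne_zero _ h.axis_ne, mulVec_ne_zero _ h.centre_ne⟩
  · intro h
    exact ⟨root_conjL.2 h.root, fun e => h.axis_ne (by rw [e, Matrix.zero_vecMul]),
      fun e => h.centre_ne (by rw [e, Matrix.mulVec_zero])⟩

end CfsgLib.Geo.SL3.Trans
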