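/-
The setting is invariant under a change of basis.
-/
import Cfsg.Agent.Lib.Geo.SL3.Trans.Partner

set_option autoImplicit false

namespace CfsgLib.Geo.SL3.Trans

open Matrix CfsgLib.Geo.Roots
open scoped commutatorElement

variable {F : Type*} [Field F] {L : Subgroup (Matrix.GeneralLinearGroup (Fin 3) F)}

theorem mulVec_cancel_left (B : Matrix.GeneralLinearGroup (Fin 3) F) (x : Fin 3 → F) :
    ((B⁻¹ : Matrix.GeneralLinearGroup (Fin 3) F) : Matrix (Fin 3) (Fin 3) F) *ᵥ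
      ((B : Matrix (Fin 3) (Fin 3) F) *ᵥ x) = x := by
  rw [Matrix.mulVec_mulVec, Units.inv_mul, Matrix.one_mulVec]

theorem mulVec_cancel_right (B : Matrix.GeneralLinearGroup (Fin 3) F) (x : Fin 3 → F) :
    (B : Matrix (Fin 3) (Fin 3) F) *ᵥ
      (((B⁻¹ : Matrix.GeneralLinearGroup (Fin 3) F) : Matrix (Fin 3) (Fin 3) F) *ᵥ x) = x := by
  rw [Matrix.mulVec_mulVec, Units.mul_inv, Matrix.one_mulVec]

theorem scalar_comm {z : Matrix.GeneralLinearGroup (Fin 3) F} (hz : z ∈ Cfsg.Geo.scalars (Fin 3) F)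
    (g : Matrix.GeneralLinearGroup (Fin 3) F) : Commute z g := by
  obtain ⟨c, hc⟩ := (Cfsg.Geo.mem_scalars_iff z).1 hz
  exact Units.ext (by simp [hc])

theorem conj_mem_scalars {B g : Matrix.GeneralLinearGroup (Fin 3) F} :
    B * g * B⁻¹ ∈ Cfsg.Geo.scalars (Fin 3) F ↔ g ∈ Cfsg.Geo.scalars (Fin 3) F := by
  refine ⟨fun h => ?_, fun h => ?_⟩
  · have := (Cfsg.Geo.scalars_normal (ι := Fin 3) (F := F)).conj_mem _ h B⁻¹
    rwa [show B⁻¹ * (B * g * B⁻¹) * B⁻¹⁻¹ = g by group] at this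
  · exact (Cfsg.Geo.scalars_normal (ι := Fin 3) (F := F)).conj_mem _ h B

theorem actsAbsolutelyIrreducibly_conjL (B : Matrix.GeneralLinearGroup (Fin 3) F)
    (h : Cfsg.Geo.ActsAbsolutelyIrreducibly (Cfsg.Geo.matrixSet L)) :
    Cfsg.Geo.ActsAbsolutelyIrreducibly (Cfsg.Geo.matrixSet (conjL B L)) := by
  obtain ⟨h1, h2⟩ := h
  refine ⟨fun W hW => ?_, fun M hM => ?_⟩
  · let W' := W.comap (Matrix.toLin' (B : Matrix (Fin 3) (Fin 3) F))
    have hW' : ∀ s ∈ Cfsg.Geo.matrixSet L, W'.map (Matrix.toLin' s) ≤ W' := by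
      rintro _ ⟨g, hg, rfl⟩ _ ⟨x, hx, rfl⟩
      simp only [W', Submodule.mem_comap, Matrix.toLin'_apply] at hx ⊢
      have hm : B * g * B⁻¹ ∈ conjL B L := by
        rw [mem_conjL, show B⁻¹ * (B * g * B⁻¹) * B = g by group]
        exact hg
      have := hW _ ⟨_, hm, rfl⟩ (Submodule.mem_map_of_mem hx)
      simp only [Matrix.toLin'_apply] at this
      rwa [Units.val_mul, Units.val_mul, ← Matrix.mulVec_mulVec, mulVec_cancel_left,
        ← Matrix.mulVec_mulVec] at this
    rcases h1 W' hW' with h | h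
    · refine Or.inl (eq_bot_iff.2 fun x hx => ?_)
      have : ((B⁻¹ : Matrix.GeneralLinearGroup (Fin 3) F) : Matrix (Fin 3) (Fin 3) F) *ᵥ x ∈ W' := by
        simpa only [W', Submodule.mem_comap, Matrix.toLin'_apply, mulVec_cancel_right] using hx
      rw [h, Submodule.mem_bot] at this
      rw [Submodule.mem_bot, ← mulVec_cancel_right B x, this, Matrix.mulVec_zero]
    · refine Or.inr (eq_top_iff.2 fun x _ => ?_)
      have : ((B⁻¹ : Matrix.GeneralLinearGroup (Fin 3) F) : Matrix (Fin 3) (Fin 3) F) *ᵥ x ∈ W' := by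
        rw [h]; trivial
      simpa only [W', Submodule.mem_comap, Matrix.toLin'_apply, mulVec_cancel_right] using this
  · obtain ⟨c, hc⟩ := h2 (((B⁻¹ : Matrix.GeneralLinearGroup (Fin 3) F) : Matrix (Fin 3) (Fin 3) F) * M *
        (B : Matrix (Fin 3) (Fin 3) F)) (by
      rintro _ ⟨g, hg, rfl⟩
      have hm : B * g * B⁻¹ ∈ conjL B L := by
        rw [mem_conjL, show B⁻¹ * (B * g * B⁻¹) * B = g by group]
        exact hg
      have e := congrArg (fun X => ((B⁻¹ : Matrix.GeneralLinearGroup (Fin 3) F) : Matrix (Fin 3) (Fin 3) F) * X *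
        (B : Matrix (Fin 3) (Fin 3) F)) (hM _ ⟨_, hm, rfl⟩)
      simpa [mul_assoc] using e)
    refine ⟨c, ?_⟩
    have e := congrArg (fun X => (B : Matrix (Fin 3) (Fin 3) F) * X *
      ((B⁻¹ : Matrix.GeneralLinearGroup (Fin 3) F) : Matrix (Fin 3) (Fin 3) F)) hc
    simpa [mul_assoc] using e

theorem det_conj_eq (B g : Matrix.GeneralLinearGroup (Fin 3) F) :
    Matrix.GeneralLinearGroup.det (B * g * B⁻¹) = Matrix.GeneralLinearGroup.det g := by
  rw [map_mul, map_mul, map_inv, mul_comm (Matrix.GeneralLinearGroup.det B), mul_inv_cancel_right]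

/-- The setting is invariant under a change of basis. -/
theorem _root_.CfsgLib.Geo.SL3.IsCore.conjL (hL : IsCore L) (B : Matrix.GeneralLinearGroup (Fin 3) F) : IsCore (Trans.conjL B L) := by
  let e : L ≃* Trans.conjL B L :=
    L.equivMapOfInjective (MulAut.conj B).toMonoidHom (MulAut.conj B).injective
  have hmap : ((Cfsg.Geo.scalars (Fin 3) F).subgroupOf L).map e.toMonoidHom =
      (Cfsg.Geo.scalars (Fin 3) F).subgroupOf (Trans.conjL B L) := by
    ext x
    rw [Subgroup.mem_map]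
    constructor
    · rintro ⟨y, hy, rfl⟩
      exact conj_mem_scalars.2 hy
    · intro hx
      refine ⟨e.symm x, ?_, e.apply_symm_apply x⟩
      have h2 : B * (e.symm x : Matrix.GeneralLinearGroup (Fin 3) F) * B⁻¹ = x := by
        conv_rhs => rw [← e.apply_symm_apply x]
        rfl
      exact conj_mem_scalars.1 (h2.symm ▸ hx : B * (e.symm x : Matrix.GeneralLinearGroup (Fin 3) F) * B⁻¹ ∈ _)
  let q := QuotientGroup.congr _ _ e hmap
  refine ⟨?_, ?_, actsAbsolutelyIrreducibly_conjL B hL.absIrred, ?_, ?_⟩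
  · rintro _ ⟨x, hx, rfl⟩
    show Matrix.GeneralLinearGroup.det (B * x * B⁻¹) = 1
    rw [det_conj_eq]
    exact hL.le hx
  · show ⁅Subgroup.map _ L, Subgroup.map _ L⁆ = _
    rw [← Subgroup.map_commutator, hL.perfect]
    rfl
  · haveI := hL.simple
    exact q.symm.isSimpleGroup
  · intro hc
    refine hL.nonabelian ⟨⟨fun a b => q.injective ?_⟩⟩
    rw [map_mul, map_mul]
    exact hc.is_comm.comm _ _

end CfsgLib.Geo.SL3.Trans
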