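/-
The root groups are lines over a common subfield, apart from two exceptional configurations.
-/
import Cfsg.Agent.Lib.Geo.SL3.Trans.Conj
import Cfsg.Agent.Lib.Geo.SL3.SLTwoField

set_option autoImplicit false

namespace CfsgLib.Geo.SL3.Trans

open Matrix CfsgLib.Geo.Roots CfsgLib.Classical CfsgLib.Geo.SLTwoGen
open scoped MatrixGroups

variable {F : Type*} [Field F] {L : Subgroup (Matrix.GeneralLinearGroup (Fin 3) F)}

/-- The block embedding as a map of matrices. -/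
def blockMat (g : Matrix (Fin 2) (Fin 2) F) : Matrix (Fin 3) (Fin 3) F :=
  !![g 0 0, g 0 1, 0; g 1 0, g 1 1, 0; 0, 0, 1]

theorem blockMat_mul (g h : Matrix (Fin 2) (Fin 2) F) : blockMat (g * h) = blockMat g * blockMat h := by
  ext i j
  fin_cases i <;> fin_cases j <;> simp [blockMat, Matrix.mul_apply, Fin.sum_univ_succ]

theorem blockMat_one : blockMat (1 : Matrix (Fin 2) (Fin 2) F) = 1 := by
  ext i j
  fin_cases i <;> fin_cases j <;> simp [blockMat]

/-- SL(2) acting on the first two coordinates. -/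
def block : SL(2, F) →* Matrix.GeneralLinearGroup (Fin 3) F where
  toFun g :=
    { val := blockMat g.1
      inv := blockMat (g⁻¹ : SL(2, F)).1
      val_inv := by rw [← blockMat_mul, ← Matrix.SpecialLinearGroup.coe_mul, mul_inv_cancel, Matrix.SpecialLinearGroup.coe_one, blockMat_one]
      inv_val := by rw [← blockMat_mul, ← Matrix.SpecialLinearGroup.coe_mul, inv_mul_cancel, Matrix.SpecialLinearGroup.coe_one, blockMat_one] }
  map_one' := Units.ext (by show blockMat ((1 : SL(2, F)).1) = 1; rw [Matrix.SpecialLinearGroup.coe_one, blockMat_one])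
  map_mul' g h := Units.ext (by
    show blockMat ((g * h : SL(2, F)).1) = blockMat g.1 * blockMat h.1
    rw [Matrix.SpecialLinearGroup.coe_mul, blockMat_mul])

theorem block_mulVec (g : SL(2, F)) (x : Fin 3 → F) :
    (block g : Matrix (Fin 3) (Fin 3) F) *ᵥ x = ![g.1 0 0 * x 0 + g.1 0 1 * x 1, g.1 1 0 * x 0 + g.1 1 1 * x 1, x 2] := by
  ext i
  fin_cases i <;> simp [block, blockMat, Matrix.mulVec, dotProduct, Fin.sum_univ_succ]

theorem block_up (x : F) (e : (![0, x, 0] : Fin 3 → F) ⬝ᵥ ![1, 0, 0] = 0) :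
    block (up x) = transvectionGL ![0, x, 0] ![1, 0, 0] e := by
  refine ext_mulVec fun y => ?_
  rw [block_mulVec, transvectionGL_mulVec]
  ext i
  fin_cases i <;> simp [up, dotProduct, Fin.sum_univ_succ]

theorem block_lo (x : F) (e : (![x, 0, 0] : Fin 3 → F) ⬝ᵥ ![0, 1, 0] = 0) :
    block (lo x) = transvectionGL ![x, 0, 0] ![0, 1, 0] e := by
  refine ext_mulVec fun y => ?_
  rw [block_mulVec, transvectionGL_mulVec]
  ext i
  fin_cases i <;> simp [lo, dotProduct, Fin.sum_univ_succ] <;> ring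

theorem up_mem_comap {x : F} : up x ∈ L.comap block ↔ Root L ![0, x, 0] ![1, 0, 0] := by
  have e : (![0, x, 0] : Fin 3 → F) ⬝ᵥ ![1, 0, 0] = 0 := by simp [dotProduct, Fin.sum_univ_succ]
  rw [Subgroup.mem_comap, block_up x e]
  exact ⟨fun h => ⟨e, h⟩, fun ⟨_, h⟩ => h⟩

theorem lo_mem_comap {x : F} : lo x ∈ L.comap block ↔ Root L ![x, 0, 0] ![0, 1, 0] := by
  have e : (![x, 0, 0] : Fin 3 → F) ⬝ᵥ ![0, 1, 0] = 0 := by simp [dotProduct, Fin.sum_univ_succ]
  rw [Subgroup.mem_comap, block_lo x e]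
  exact ⟨fun h => ⟨e, h⟩, fun ⟨_, h⟩ => h⟩

/-- The scalars of the root group of a root. -/
def lineSet (L : Subgroup (Matrix.GeneralLinearGroup (Fin 3) F)) (φ u : Fin 3 → F) : AddSubgroup F where
  carrier := {l | Root L (l • φ) u}
  zero_mem' := by show Root L ((0 : F) • φ) u; rw [zero_smul]; exact Root.zero u
  add_mem' := fun {a b} ha hb => by show Root L ((a + b) • φ) u; rw [add_smul]; exact ha.add hb
  neg_mem' := fun {a} ha => by show Root L ((-a) • φ) u; rw [neg_smul]; exact ha.neg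

theorem mem_lineSet {φ u : Fin 3 → F} {l : F} : l ∈ lineSet L φ u ↔ Root L (l • φ) u := Iff.rfl

theorem one_mem_lineSet {φ u : Fin 3 → F} (h : Root L φ u) : (1 : F) ∈ lineSet L φ u := by
  rwa [mem_lineSet, one_smul]

theorem IsConjRoot.lineSet_eq {φ u ψ v : Fin 3 → F} (h : IsConjRoot L φ u ψ v) :
    lineSet L ψ v = lineSet L φ u := by
  obtain ⟨g, hg, rfl, rfl⟩ := h
  ext l
  rw [mem_lineSet, mem_lineSet, ← Matrix.smul_vecMul]
  constructor
  · intro h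
    have := h.conj (L.inv_mem hg)
    rwa [inv_inv, Matrix.vecMul_vecMul, Units.inv_mul, Matrix.vecMul_one, mulVec_cancel_left] at this
  · exact fun h => h.conj hg

theorem exists_dot_coord {φ u ψ v : Fin 3 → F} (hr : NRoot L φ u) (hr' : NRoot L ψ v) (hp : Partner φ u ψ v) :
    ∃ C : Matrix.GeneralLinearGroup (Fin 3) F, (C : Matrix (Fin 3) (Fin 3) F) *ᵥ ![1, 0, 0] = u ∧
      (C : Matrix (Fin 3) (Fin 3) F) *ᵥ ![0, 1, 0] = v ∧
      φ ᵥ* (C : Matrix (Fin 3) (Fin 3) F) = ![0, φ ⬝ᵥ v, 0] ∧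
      ψ ᵥ* (C : Matrix (Fin 3) (Fin 3) F) = ![ψ ⬝ᵥ u, 0, 0] := by
  obtain ⟨w, hw, h1, h2⟩ := exists_common_zero φ ψ
  obtain ⟨C, hC⟩ := exists_frame hp hr.root.dot hr'.root.dot h1 h2 hw
  refine ⟨C, ?_, ?_, ?_, ?_⟩
  · rw [hC, colMat_mulVec]; simp
  · rw [hC, colMat_mulVec]; simp
  · refine eq_of_dot fun x => ?_
    rw [← Matrix.dotProduct_mulVec, hC, colMat_mulVec]
    simp only [dotProduct_add, dotProduct_smul, hr.root.dot, h1, smul_eq_mul]
    simp [dotProduct, Fin.sum_univ_succ]; ring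
  · refine eq_of_dot fun x => ?_
    rw [← Matrix.dotProduct_mulVec, hC, colMat_mulVec]
    simp only [dotProduct_add, dotProduct_smul, hr'.root.dot, h2, smul_eq_mul]
    simp [dotProduct, Fin.sum_univ_succ]; ring

/-- The root groups of a partner pair are lines over the same subfield. -/
theorem pair_field [Fintype F] {φ u ψ v : Fin 3 → F} (hr : NRoot L φ u) (hr' : NRoot L ψ v)
    (hp : Partner φ u ψ v)
    (htwo : (2 : F) = 0 → 4 ≤ Nat.card (lineSet L φ u) ∨ 4 ≤ Nat.card (lineSet L ψ v))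
    (hthree : (3 : F) = 0 → 3 < Nat.card (lineSet L φ u) ∨ 3 < Nat.card (lineSet L ψ v) ∨
      (φ ⬝ᵥ v * (ψ ⬝ᵥ u)) ^ 2 ≠ -1) :
    ∃ k : Subfield F, φ ⬝ᵥ v * (ψ ⬝ᵥ u) ∈ k ∧ (∀ l, Root L (l • φ) u ↔ l ∈ k) ∧
      ∀ l, Root L (l • ψ) v ↔ l ∈ k := by
  obtain ⟨C, hCu, hCv, hφ, hψ⟩ := exists_dot_coord hr hr' hp
  set L' := conjL C⁻¹ L
  set a := φ ⬝ᵥ v
  set b := ψ ⬝ᵥ u
  have htr : ∀ (χ c : Fin 3 → F),
      Root L' (χ ᵥ* (C : Matrix (Fin 3) (Fin 3) F)) c ↔ Root L χ ((C : Matrix (Fin 3) (Fin 3) F) *ᵥ c) := by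
    intro χ c
    rw [root_conjL, inv_inv, Matrix.vecMul_vecMul, Units.mul_inv, Matrix.vecMul_one]
  have hu : ∀ l, up (l * a) ∈ L'.comap block ↔ Root L (l • φ) u := fun l => by
    rw [up_mem_comap, ← hCu, ← htr, Matrix.smul_vecMul, hφ]
    simp [Matrix.smul_cons, Matrix.smul_empty]
  have hl : ∀ l, lo (l * b) ∈ L'.comap block ↔ Root L (l • ψ) v := fun l => by
    rw [lo_mem_comap, ← hCv, ← htr, Matrix.smul_vecMul, hψ]
    simp [Matrix.smul_cons, Matrix.smul_empty]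
  have ha : a ∈ upSet (L'.comap block) := by
    have := (hu 1).2 (by rw [one_smul]; exact hr.root)
    rwa [one_mul] at this
  have hb : b ∈ loSet (L'.comap block) := by
    have := (hl 1).2 (by rw [one_smul]; exact hr'.root)
    rwa [one_mul] at this
  have cu : Nat.card (upSet (L'.comap block)) = Nat.card (lineSet L φ u) := by
    refine (Nat.card_congr (Equiv.ofBijective (fun l => ⟨(l : F) * a, (hu l).2 l.2⟩) ⟨?_, ?_⟩)).symm
    · intro x y h
      exact Subtype.ext (mul_right_cancel₀ hp.left (congrArg Subtype.val h))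
    · rintro ⟨x, hx⟩
      refine ⟨⟨x / a, (hu _).1 ?_⟩, Subtype.ext (div_mul_cancel₀ x hp.left)⟩
      rwa [div_mul_cancel₀ x hp.left]
  have cl : Nat.card (loSet (L'.comap block)) = Nat.card (lineSet L ψ v) := by
    refine (Nat.card_congr (Equiv.ofBijective (fun l => ⟨(l : F) * b, (hl l).2 l.2⟩) ⟨?_, ?_⟩)).symm
    · intro x y h
      exact Subtype.ext (mul_right_cancel₀ hp.right (congrArg Subtype.val h))
    · rintro ⟨x, hx⟩
      refine ⟨⟨x / b, (hl _).1 ?_⟩, Subtype.ext (div_mul_cancel₀ x hp.right)⟩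
      rwa [div_mul_cancel₀ x hp.right]
  obtain ⟨k, hk, hku, hkl⟩ := exists_field_line ha hb hp.left hp.right (by rw [cu, cl]; exact htwo)
    (by rw [cu, cl]; exact hthree)
  refine ⟨k, hk, fun l => ?_, fun l => ?_⟩
  · rw [← hu, hku, mul_div_cancel_right₀ l hp.left]
  · rw [← hl, hkl, mul_div_cancel_right₀ l hp.right]

/-- All root groups are lines over `k` and all cross products lie in `k`. -/
structure Good (L : Subgroup (Matrix.GeneralLinearGroup (Fin 3) F)) (k : Subfield F) : Prop where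
  line : ∀ φ u, NRoot L φ u → ∀ l, Root L (l • φ) u ↔ l ∈ k
  prod : ∀ φ u ψ v, NRoot L φ u → NRoot L ψ v → φ ⬝ᵥ v * (ψ ⬝ᵥ u) ∈ k

theorem two_le_lineSet [Finite F] {φ u : Fin 3 → F} (h : Root L φ u) : 2 ≤ Nat.card (lineSet L φ u) := by
  haveI : Nontrivial (lineSet L φ u) :=
    ⟨⟨⟨1, one_mem_lineSet h⟩, 0, fun e => one_ne_zero (congrArg Subtype.val e)⟩⟩
  exact Finite.one_lt_card

theorem lineSet_two [Finite F] (h2 : (2 : F) = 0) {φ u : Fin 3 → F} (h : Root L φ u) :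
    Nat.card (lineSet L φ u) = 2 ∨ 4 ≤ Nat.card (lineSet L φ u) := by
  have hd : 2 ∣ Nat.card (lineSet L φ u) := by
    have h1 : addOrderOf (⟨1, one_mem_lineSet h⟩ : lineSet L φ u) = 2 :=
      addOrderOf_eq_prime (p := 2) (Subtype.ext (by simp [two_nsmul, ← two_mul, h2]))
        (fun e => one_ne_zero (congrArg Subtype.val e))
    rw [← h1]
    exact addOrderOf_dvd_natCard _
  have := two_le_lineSet h
  omega

theorem three_le_lineSet [Finite F] (h3 : (3 : F) = 0) {φ u : Fin 3 → F} (h : Root L φ u) :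
    3 ≤ Nat.card (lineSet L φ u) := by
  haveI : Fact (Nat.Prime 3) := ⟨Nat.prime_three⟩
  have h1 : addOrderOf (⟨1, one_mem_lineSet h⟩ : lineSet L φ u) = 3 :=
    addOrderOf_eq_prime (p := 3) (Subtype.ext (by simp [h3]))
      (fun e => one_ne_zero (congrArg Subtype.val e))
  rw [← h1]
  exact Nat.le_of_dvd Nat.card_pos (addOrderOf_dvd_natCard _)

/-- The hypotheses of the pair lemma are met everywhere: all root groups are lines over one subfield. -/
theorem good_of_pairs [Fintype F] (hL : IsCore L) (hT : ¬ NoTransvection L)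
    (h : ∀ φ u ψ v, NRoot L φ u → NRoot L ψ v → Partner φ u ψ v →
      ((2 : F) = 0 → 4 ≤ Nat.card (lineSet L φ u) ∨ 4 ≤ Nat.card (lineSet L ψ v)) ∧
      ((3 : F) = 0 → 3 < Nat.card (lineSet L φ u) ∨ 3 < Nat.card (lineSet L ψ v) ∨
        (φ ⬝ᵥ v * (ψ ⬝ᵥ u)) ^ 2 ≠ -1)) : ∃ k, Good L k := by
  obtain ⟨φ₀, u₀, h₀⟩ := exists_nroot hT
  obtain ⟨ψ₀, v₀, hc₀, hp₀⟩ := exists_partner_conj hL h₀
  obtain ⟨k, -, hk₀, -⟩ := pair_field h₀ (hc₀.nroot h₀) hp₀ (h _ _ _ _ h₀ (hc₀.nroot h₀) hp₀).1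
    (h _ _ _ _ h₀ (hc₀.nroot h₀) hp₀).2
  have hline : ∀ φ u, NRoot L φ u → ∀ l, Root L (l • φ) u ↔ l ∈ k := by
    intro φ u hr l
    obtain ⟨χ, c, hc, hp⟩ := exists_partner_of hL h₀ hr
    obtain ⟨k', -, hk1, hk2⟩ := pair_field h₀ (hc.nroot hr) hp (h _ _ _ _ h₀ (hc.nroot hr) hp).1
      (h _ _ _ _ h₀ (hc.nroot hr) hp).2
    rw [← mem_lineSet, ← hc.lineSet_eq, mem_lineSet, hk2, ← hk1, hk₀]
  refine ⟨k, hline, fun φ u ψ v hr hr' => ?_⟩
  by_cases hz : φ ⬝ᵥ v * (ψ ⬝ᵥ u) = 0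
  · rw [hz]; exact k.zero_mem
  have hp : Partner φ u ψ v := ⟨left_ne_zero_of_mul hz, right_ne_zero_of_mul hz⟩
  obtain ⟨k', hk', hk1, -⟩ := pair_field hr hr' hp (h _ _ _ _ hr hr' hp).1 (h _ _ _ _ hr hr' hp).2
  exact ((hline φ u hr _).1 ((hk1 _).2 hk'))

/-- Common subfield or one of the exceptional configurations. -/
theorem trichotomy [Fintype F] (hL : IsCore L) (hT : ¬ NoTransvection L) :
    (∃ k, Good L k) ∨
    ((3 : F) = 0 ∧ (∀ φ u, NRoot L φ u → Nat.card (lineSet L φ u) = 3) ∧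
      ∃ φ u ψ v, NRoot L φ u ∧ NRoot L ψ v ∧ (φ ⬝ᵥ v * (ψ ⬝ᵥ u)) ^ 2 = -1) ∨
    ((2 : F) = 0 ∧ ∀ φ u, NRoot L φ u → Nat.card (lineSet L φ u) = 2) := by
  classical
  have all_big : ∀ n : ℕ, (∀ φ u ψ v, NRoot L φ u → NRoot L ψ v → Partner φ u ψ v →
      n < Nat.card (lineSet L φ u) → Nat.card (lineSet L φ u) = Nat.card (lineSet L ψ v)) →
      (∃ φ u, NRoot L φ u ∧ n < Nat.card (lineSet L φ u)) → ∀ φ u, NRoot L φ u → n < Nat.card (lineSet L φ u) := by
    rintro n hn ⟨φ₁, u₁, h₁, hbig⟩ φ u hr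
    obtain ⟨χ, c, hc, hp⟩ := exists_partner_of hL h₁ hr
    rw [← hc.lineSet_eq, ← hn _ _ _ _ h₁ (hc.nroot hr) hp hbig]
    exact hbig
  by_cases h2 : (2 : F) = 0
  · have h3 : ¬ (3 : F) = 0 := fun h => one_ne_zero (α := F) (by linear_combination h - h2)
    by_cases hb : ∃ φ u, NRoot L φ u ∧ 3 < Nat.card (lineSet L φ u)
    · refine Or.inl (good_of_pairs hL hT fun φ u ψ v hr hr' _ => ⟨fun _ => Or.inl ?_, fun h => absurd h h3⟩)
      refine all_big 3 (fun α a β b ha hb' hp hbig => ?_) hb φ u hr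
      obtain ⟨k, -, k1, k2⟩ := pair_field ha hb' hp (fun _ => Or.inl hbig) (fun h => absurd h h3)
      exact congrArg (fun A : AddSubgroup F => Nat.card A)
        (AddSubgroup.ext fun l => by rw [mem_lineSet, mem_lineSet, k1, k2])
    · refine Or.inr (Or.inr ⟨h2, fun φ u hr => ?_⟩)
      rcases lineSet_two h2 hr.root with h | h
      · exact h
      · exact absurd ⟨φ, u, hr, h⟩ hb
  by_cases hall : ∀ φ u ψ v, NRoot L φ u → NRoot L ψ v → Partner φ u ψ v → (3 : F) = 0 →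
      3 < Nat.card (lineSet L φ u) ∨ 3 < Nat.card (lineSet L ψ v) ∨ (φ ⬝ᵥ v * (ψ ⬝ᵥ u)) ^ 2 ≠ -1
  · exact Or.inl (good_of_pairs hL hT fun φ u ψ v hr hr' hp => ⟨fun h => absurd h h2, hall φ u ψ v hr hr' hp⟩)
  push Not at hall
  obtain ⟨φ₀, u₀, ψ₀, v₀, h₀, h₀', hp₀, h3, hsmall, -, hex⟩ := hall
  refine Or.inr (Or.inl ⟨h3, fun φ u hr => ?_, φ₀, u₀, ψ₀, v₀, h₀, h₀', hex⟩)
  refine le_antisymm ?_ (three_le_lineSet h3 hr.root)
  by_contra hlt
  refine absurd (all_big 3 (fun α a β b ha hb hp hbig => ?_) ⟨φ, u, hr, not_le.1 hlt⟩ φ₀ u₀ h₀) (not_lt.2 hsmall)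
  obtain ⟨k, -, k1, k2⟩ := pair_field ha hb hp (fun h => absurd h h2) (fun _ => Or.inl hbig)
  exact congrArg (fun A : AddSubgroup F => Nat.card A)
    (AddSubgroup.ext fun l => by rw [mem_lineSet, mem_lineSet, k1, k2])

/-- Two axes at one centre, one of them killing the centre of a root moving the centre: the cross product
lies in the root group. -/
theorem kernel_root {φ u ψ χ v : Fin 3 → F} (h1 : Root L φ u) (h2 : Root L ψ u) (h3 : Root L χ v)
    (h : ψ ⬝ᵥ v = 0) : Root L ((φ ⬝ᵥ v * (χ ⬝ᵥ u)) • ψ) u := by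
  have h4 := h2.comm h3 h
  have h5 : (-(χ ⬝ᵥ u) • ψ) ⬝ᵥ u = 0 := by rw [smul_dotProduct, h2.dot, smul_zero]
  have h6 := h4.comm h1 h5
  rwa [smul_smul, neg_mul_neg] at h6

/-- Transvections with cross product minus one are conjugate by their product. -/
theorem braid {φ u χ v : Fin 3 → F} (h1 : Root L φ u) (h2 : Root L χ v) (h : φ ⬝ᵥ v * (χ ⬝ᵥ u) = -1) :
    IsConjRoot L φ u (-(φ ⬝ᵥ v) • χ) ((χ ⬝ᵥ u) • v) := by
  obtain ⟨e1, m1⟩ := h1
  obtain ⟨e2, m2⟩ := h2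
  refine ⟨transvectionGL φ u e1 * transvectionGL χ v e2, L.mul_mem m1 m2, ?_, ?_⟩
  · rw [_root_.mul_inv_rev, Units.val_mul, ← Matrix.vecMul_vecMul, vecMul_transvection_inv, vecMul_transvection_inv,
      sub_dotProduct, smul_dotProduct, e1, zero_sub, smul_eq_mul, h, neg_neg, one_smul]
    module
  · rw [Units.val_mul, ← Matrix.mulVec_mulVec, transvectionGL_mulVec, transvectionGL_mulVec, dotProduct_add,
      dotProduct_smul, e1, zero_add, smul_eq_mul, mul_comm (χ ⬝ᵥ u), h]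
    module

end CfsgLib.Geo.SL3.Trans
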