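/-
A centre with two axes gives a frame, and a frame gives SL(3) over the subfield.
-/
import Cfsg.Agent.Lib.Geo.SL3.Trans.Lines
import Cfsg.Agent.Lib.Classical.SLGroup

set_option autoImplicit false

namespace CfsgLib.Geo.SL3.Trans

open Matrix CfsgLib.Geo.Roots

variable {F : Type*} [Field F] {L : Subgroup (Matrix.GeneralLinearGroup (Fin 3) F)}

/-- Conjugation preserves the common field. -/
theorem Good.conjL {k : Subfield F} (hg : Good L k) (B : Matrix.GeneralLinearGroup (Fin 3) F) :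
    Good (Trans.conjL B L) k := by
  refine ⟨fun φ u hr l => ?_, fun φ u ψ v hr hr' => ?_⟩
  · rw [root_conjL, Matrix.smul_vecMul]
    exact hg.line _ _ (nroot_conjL.1 hr) l
  · have := hg.prod _ _ _ _ (nroot_conjL.1 hr) (nroot_conjL.1 hr')
    rwa [← Matrix.dotProduct_mulVec, mulVec_cancel_right, ← Matrix.dotProduct_mulVec, mulVec_cancel_right] at this

theorem not_noTransvection_conjL (hT : ¬ NoTransvection L) (B : Matrix.GeneralLinearGroup (Fin 3) F) :
    ¬ NoTransvection (conjL B L) := by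
  intro h
  obtain ⟨φ, u, hr⟩ := exists_nroot hT
  rcases h _ _ (root_conjL_of (B := B) hr.root) with e | e
  · exact vecMul_ne_zero _ hr.axis_ne e
  · exact mulVec_ne_zero _ hr.centre_ne e

/-- The root with one entry. -/
def ERoot (L : Subgroup (Matrix.GeneralLinearGroup (Fin 3) F)) (i j : Fin 3) (l : F) : Prop :=
  Root L (Pi.single j l) (Pi.single i 1)

theorem ERoot.nroot {i j : Fin 3} {l : F} (h : ERoot L i j l) (hl : l ≠ 0) :
    NRoot L (Pi.single j l) (Pi.single i 1) :=
  ⟨h, by simpa using hl, by simp⟩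

/-- The special linear group over a subfield. -/
def slRat (k : Subfield F) : Subgroup (Matrix.GeneralLinearGroup (Fin 3) F) :=
  ((Matrix.SpecialLinearGroup.toGL (n := Fin 3) (R := F)).comp (Matrix.SpecialLinearGroup.map k.subtype)).range

theorem mem_slRat {k : Subfield F} {g : Matrix.GeneralLinearGroup (Fin 3) F}
    (hd : g ∈ Cfsg.Geo.specialLinear (Fin 3) F) (hk : ∀ i j, (g : Matrix (Fin 3) (Fin 3) F) i j ∈ k) :
    g ∈ slRat k := by
  let M : Matrix (Fin 3) (Fin 3) k := Matrix.of fun i j => ⟨_, hk i j⟩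
  have hM : M.map k.subtype = (g : Matrix (Fin 3) (Fin 3) F) := rfl
  have hdet : M.det = 1 := by
    apply k.subtype.injective
    rw [map_one, RingHom.map_det, RingHom.mapMatrix_apply, hM]
    exact congrArg Units.val (show Matrix.GeneralLinearGroup.det g = 1 from hd)
  exact ⟨⟨M, hdet⟩, Units.ext hM⟩

/-- Off-diagonal entries in the subfield for all roots force the diagonal ones into it. -/
theorem diag_mem {k : Subfield F} {i j l : F} (hs : i + j + l = 0) (hij : i * j ∈ k) (hil : i * l ∈ k)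
    (hjl : j * l ∈ k) (h1 : i - j ∈ k) (h2 : i - l ∈ k) (hne : i ≠ j ∨ i ≠ l) : i ∈ k := by
  rcases hne with h | h
  · have hl : l ∈ k := by
      have := k.div_mem (k.sub_mem hil hjl) h1
      rwa [← sub_mul, mul_div_cancel_left₀ _ (sub_ne_zero.2 h)] at this
    have := k.add_mem h2 hl
    rwa [sub_add_cancel] at this
  · have hj : j ∈ k := by
      have := k.div_mem (k.sub_mem hij (mul_comm l j ▸ hjl : l * j ∈ k)) h2
      rwa [← sub_mul, mul_div_cancel_left₀ _ (sub_ne_zero.2 h)] at this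
    have := k.add_mem h1 hj
    rwa [sub_add_cancel] at this

/-- The frame generates SL(3) over the subfield, which is then everything. -/
theorem eq_slRat_of_frame [Finite F] (hL : IsCore L) (hT : ¬ NoTransvection L) {k : Subfield F} (hg : Good L k)
    (h01 : ERoot L 0 1 1) (h02 : ERoot L 0 2 1) {t : F} (ht : t ∈ k) (ht0 : t ≠ 0) (h10 : ERoot L 1 0 t) :
    L = slRat k := by
  have line : ∀ {φ u : Fin 3 → F}, NRoot L φ u → ∀ {l : F}, l ∈ k → Root L (l • φ) u :=
    fun {φ u} hr {l} hl => (hg.line _ _ hr l).2 hl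
  have eline : ∀ {i j : Fin 3} {a : F}, ERoot L i j a → a ≠ 0 → a ∈ k → ∀ l ∈ k, ERoot L i j l := by
    intro i j a h ha hak l hl
    have := line (h.nroot ha) (k.div_mem hl hak)
    rwa [← Pi.single_smul, smul_eq_mul, div_mul_cancel₀ l ha] at this
  have E01 := eline h01 one_ne_zero k.one_mem
  have E02 := eline h02 one_ne_zero k.one_mem
  have E10 := eline h10 ht0 ht
  have E12 : ∀ l ∈ k, ERoot L 1 2 l := fun l hl => by
    have h1 := E02 (-l) (k.neg_mem hl)
    have h2 := E10 1 k.one_mem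
    have h3 := Root.comm h1 h2 (by simp [dotProduct, Fin.sum_univ_succ])
    rw [ERoot]
    convert h3 using 1
    rw [← Pi.single_smul]
    simp
  have off : ∀ {χ c : Fin 3 → F}, NRoot L χ c → ∀ {i j : Fin 3}, ERoot L j i 1 → c i * χ j ∈ k := by
    intro χ c hr i j h
    have := hg.prod _ _ _ _ hr (h.nroot one_ne_zero)
    simpa [mul_comm] using this
  have hone := k.one_mem
  obtain ⟨c, ⟨χ, hr⟩, hc⟩ := exists_dot_ne_left hL (P := fun c => ∃ χ, NRoot L χ c)
    (fun g hg' c ⟨χ, h⟩ => ⟨_, h.conj hg'⟩)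
    (let ⟨φ, u, h⟩ := exists_nroot hT; ⟨u, ⟨φ, h⟩, h.centre_ne⟩)
    (φ := Pi.single 2 1) (by simp)
  simp only [single_dotProduct, one_mul] at hc
  -- normalise the centre
  obtain ⟨χ, c, hr, hc2⟩ : ∃ χ c, NRoot L χ c ∧ c 2 = 1 := by
    refine ⟨c 2 • χ, (c 2)⁻¹ • c, ⟨?_, smul_ne_zero hc hr.axis_ne, smul_ne_zero (inv_ne_zero hc) hr.centre_ne⟩,
      by simp [hc]⟩
    rw [root_smul_iff (inv_ne_zero hc), smul_smul, inv_mul_cancel₀ hc, one_smul]
    exact hr.root
  have moveRoot : ∀ {χ c φ : Fin 3 → F} {i : Fin 3}, NRoot L χ c → Root L φ (Pi.single i 1) → i ≠ 2 → c 2 = 1 →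
      ∃ c' : Fin 3 → F, NRoot L (χ - (χ i) • φ) c' ∧ c' 2 = 1 := by
    intro χ c φ i h hφ hi hc2
    refine ⟨c + (φ ⬝ᵥ c) • Pi.single i 1, ?_, ?_⟩
    · simpa using ((IsConjRoot.refl χ c).trans_root hφ).nroot h
    · simp [hc2, Ne.symm hi]
  have chi01 : ∀ {χ c : Fin 3 → F}, NRoot L χ c → c 2 = 1 → χ 0 ∈ k ∧ χ 1 ∈ k := fun hr hc2 => by
    have a := off hr (i := 2) (j := 0) (E02 1 hone)
    have b := off hr (i := 2) (j := 1) (E12 1 hone)
    rw [hc2, one_mul] at a b
    exact ⟨a, b⟩
  obtain ⟨χ, c, hr, hc2, h0⟩ : ∃ χ c, NRoot L χ c ∧ c 2 = 1 ∧ χ 0 = 0 := by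
    obtain ⟨χ, c, hr, hc2, h1⟩ : ∃ χ c, NRoot L χ c ∧ c 2 = 1 ∧ (χ 0 = 0 ∨ χ 1 ≠ 0) := by
      by_cases h : χ 0 = 0 ∨ χ 1 ≠ 0
      · exact ⟨χ, c, hr, hc2, h⟩
      push Not at h
      obtain ⟨c', h', hc'⟩ := moveRoot hr (E01 1 hone) (by decide) hc2
      exact ⟨_, c', h', hc', Or.inr (by simp [h.1, h.2])⟩
    rcases h1 with h1 | h1
    · exact ⟨χ, c, hr, hc2, h1⟩
    obtain ⟨c', h', hc'⟩ := moveRoot hr
      (E10 (χ 0 / χ 1) (k.div_mem (chi01 hr hc2).1 (chi01 hr hc2).2)) (by decide) hc2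
    exact ⟨_, c', h', hc', by simp [mul_div_cancel₀ _ h1]⟩
  have hdot : ∀ {χ c : Fin 3 → F}, NRoot L χ c → χ 0 * c 0 + χ 1 * c 1 + χ 2 * c 2 = 0 := fun h => by
    have := h.root.dot
    simpa [dotProduct, Fin.sum_univ_succ, add_assoc] using this
  have h1 : χ 1 ≠ 0 := by
    intro h1
    have := hdot hr
    rw [h0, h1, hc2, zero_mul, zero_mul, zero_add, zero_add, mul_one] at this
    exact hr.axis_ne (funext fun i => by fin_cases i <;> assumption)
  have h1k := (chi01 hr hc2).2
  have h2k : χ 2 ∈ k := by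
    have hA : Root L χ (Pi.single 0 1) := by
      have h3 := (Root.comm hr.root (E02 1 hone) (by simp [h0])).neg
      simpa [hc2] using h3
    have hB := hA.sub (E01 _ h1k)
    have he : χ - Pi.single 1 (χ 1) = χ 2 • Pi.single 2 1 := by
      funext i; fin_cases i <;> simp [h0]
    rw [he] at hB
    exact (hg.line _ _ ((E02 1 hone).nroot one_ne_zero) _).1 hB
  obtain ⟨c, hr, hc2⟩ := moveRoot hr (E12 (χ 2 / χ 1) (k.div_mem h2k h1k)) (by decide) hc2
  have he : χ - χ 1 • (Pi.single 2 (χ 2 / χ 1) : Fin 3 → F) = χ 1 • (Pi.single 1 1 : Fin 3 → F) := by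
    funext i; fin_cases i <;> simp [h0, mul_div_cancel₀ _ h1]
  rw [he] at hr
  have hc1 : c 1 = 0 := by
    have := hr.root.dot
    simpa [h1] using this
  have hc0 : c 0 ∈ k := by
    have := off hr (i := 0) (j := 1) (E10 1 hone)
    simp at this
    have := k.div_mem this h1k
    rwa [mul_div_cancel_right₀ _ h1] at this
  have E21 : ∀ l ∈ k, ERoot L 2 1 l := fun l hl => by
    have a : Root L (Pi.single 1 l) c := by
      have := line hr (k.div_mem hl h1k)
      rwa [smul_smul, div_mul_cancel₀ _ h1, ← Pi.single_smul, smul_eq_mul, mul_one] at this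
    by_cases h : c 0 = 0
    · rw [ERoot]
      convert a using 1
      funext i; fin_cases i <;> simp [h, hc1, hc2]
    · have b : Root L (Pi.single 1 l) ((-c 0) • (Pi.single 0 1 : Fin 3 → F)) := by
        rw [root_smul_iff (neg_ne_zero.2 h), ← Pi.single_smul, smul_eq_mul]
        exact E01 _ (k.mul_mem (k.neg_mem hc0) hl)
      obtain ⟨e1, m1⟩ := a
      obtain ⟨e2, m2⟩ := b
      refine ⟨by simp, ?_⟩
      convert L.mul_mem m1 m2 using 1
      refine ext_mulVec fun x => ?_
      rw [Units.val_mul, ← Matrix.mulVec_mulVec, transvectionGL_mulVec, transvectionGL_mulVec, transvectionGL_mulVec,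
        dotProduct_add, dotProduct_smul, e2, smul_zero, add_zero]
      funext i
      fin_cases i <;> simp [hc1, hc2] <;> ring
  have E20 : ∀ l ∈ k, ERoot L 2 0 l := fun l hl => by
    have h3 := Root.comm (E10 (-l) (k.neg_mem hl)) (E21 1 hone) (by simp)
    rw [ERoot]
    convert h3 using 1
    rw [← Pi.single_smul]
    simp
  have all : ∀ i j : Fin 3, i ≠ j → ∀ l ∈ k, ERoot L i j l := by
    intro i j hij
    fin_cases i <;> fin_cases j <;> first | exact absurd rfl hij | assumption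
  refine le_antisymm ?_ ?_
  · refine le_of_roots hL hT fun φ u hr => ⟨hr.root.dot, ?_⟩
    have hoff : ∀ {φ u : Fin 3 → F}, NRoot L φ u → ∀ i j, i ≠ j → u i * φ j ∈ k :=
      fun h i j hij => off h (all j i (Ne.symm hij) 1 hone)
    have hdiff : ∀ {φ u : Fin 3 → F}, NRoot L φ u → ∀ i j, i ≠ j → u i * φ i - u j * φ j ∈ k := by
      intro φ u h i j hij
      have h' := ((IsConjRoot.refl φ u).trans_root (all j i (Ne.symm hij) 1 hone)).nroot h
      have := hoff h' j i (Ne.symm hij)
      simp [hij, Ne.symm hij] at this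
      have e : u i * φ i - u j * φ j =
          (u j + u i) * (φ i - φ j) - u j * φ i + u i * φ j := by ring
      rw [e]
      exact k.add_mem (k.sub_mem this (hoff h j i (Ne.symm hij))) (hoff h i j hij)
    have hsum : ∀ {φ u : Fin 3 → F}, NRoot L φ u → ∀ i j l : Fin 3, i ≠ j → i ≠ l → j ≠ l →
        u i * φ i + u j * φ j + u l * φ l = 0 := by
      intro φ u h i j l hij hil hjl
      have := hdot h
      fin_cases i <;> fin_cases j <;> fin_cases l <;>
        simp only [Fin.reduceFinMk, Fin.isValue, Fin.zero_eta, Fin.mk_one, ne_eq, not_true_eq_false] at hij hil hjl ⊢ <;>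
        linear_combination this
    have hcase : ∀ {φ u : Fin 3 → F}, NRoot L φ u → ∀ i j l : Fin 3, i ≠ j → i ≠ l → j ≠ l →
        (u i * φ i ≠ u j * φ j ∨ u i * φ i ≠ u l * φ l) → u i * φ i ∈ k := by
      intro φ u h i j l hij hil hjl hne
      have pp : ∀ a b : Fin 3, a ≠ b → u a * φ a * (u b * φ b) ∈ k := fun a b hab => by
        rw [show u a * φ a * (u b * φ b) = u a * φ b * (u b * φ a) by ring]
        exact k.mul_mem (hoff h a b hab) (hoff h b a (Ne.symm hab))
      exact diag_mem (hsum h i j l hij hil hjl) (pp i j hij) (pp i l hil) (pp j l hjl) (hdiff h i j hij)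
        (hdiff h i l hil) hne
    have hdiag : ∀ i, u i * φ i ∈ k := by
      intro i
      obtain ⟨j, l, hij, hil, hjl⟩ : ∃ j l : Fin 3, i ≠ j ∧ i ≠ l ∧ j ≠ l :=
        ⟨i + 1, i + 2, by fin_cases i <;> decide, by fin_cases i <;> decide, by fin_cases i <;> decide⟩
      by_cases hne : u i * φ i ≠ u j * φ j ∨ u i * φ i ≠ u l * φ l
      · exact hcase hr i j l hij hil hjl hne
      push Not at hne
      obtain ⟨ej, el⟩ := hne
      have h3 : (3 : F) * (u i * φ i) = 0 := by linear_combination hsum hr i j l hij hil hjl + ej + el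
      rcases mul_eq_zero.1 h3 with h3 | h0
      swap
      · rw [h0]; exact k.zero_mem
      by_cases hx : u i * φ j = 0
      · have : (u i * φ i) ^ 2 = 0 := by
          rw [show (u i * φ i) ^ 2 = u i * φ i * (u j * φ j) by rw [← ej]; ring,
            show u i * φ i * (u j * φ j) = u i * φ j * (u j * φ i) by ring, hx, zero_mul]
        rw [pow_eq_zero_iff two_ne_zero] at this
        rw [this]; exact k.zero_mem
      have h' := ((IsConjRoot.refl φ u).trans_root (all j i (Ne.symm hij) 1 hone)).nroot hr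
      have h2 : (2 : F) ≠ 0 := fun h => one_ne_zero (α := F) (by linear_combination h3 - h)
      have := hcase h' i j l hij hil hjl (Or.inl (by
        simp [hij, Ne.symm hij]
        intro e
        refine hx ((mul_eq_zero.1 (show (2 : F) * (u i * φ j) = 0 from ?_)).resolve_left h2)
        linear_combination ej - e))
      simp [hij, Ne.symm hij] at this
      have := k.add_mem this (hoff hr i j hij)
      rwa [mul_sub, sub_add_cancel] at this
    refine mem_slRat (transvectionGL_mem_specialLinear _ _ _) fun i j => ?_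
    show ((1 : Matrix (Fin 3) (Fin 3) F) + Matrix.vecMulVec u φ) i j ∈ k
    rw [Matrix.add_apply, Matrix.vecMulVec_apply]
    refine k.add_mem ?_ ?_
    · rw [Matrix.one_apply]; split_ifs
      exacts [k.one_mem, k.zero_mem]
    · rcases eq_or_ne i j with rfl | hij
      · exact hdiag i
      · exact hoff hr i j hij
  · rintro _ ⟨g, rfl⟩
    let ι := (Matrix.SpecialLinearGroup.toGL (n := Fin 3) (R := F)).comp (Matrix.SpecialLinearGroup.map k.subtype)
    have htop : L.comap ι = ⊤ := by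
      refine CfsgLib.Classical.closure_transvection_eq_top _ fun i j hij l => ?_
      obtain ⟨e, m⟩ := all i j hij l l.2
      rw [Subgroup.mem_comap]
      convert m using 1
      refine Units.ext ?_
      show ((1 : Matrix (Fin 3) (Fin 3) k) + Matrix.single i j l).map k.subtype =
        1 + Matrix.vecMulVec (Pi.single i 1) (Pi.single j (l : F))
      rw [Matrix.map_add _ (map_add k.subtype), Matrix.map_one _ (map_zero _) (map_one _)]
      congr 1
      ext a b
      by_cases ha : i = a <;> by_cases hb : j = b <;> simp [Matrix.single_apply, Matrix.vecMulVec_apply, ha, hb, eq_comm]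
    exact Subgroup.mem_comap.1 (htop.ge (Subgroup.mem_top g))

/-- A centre with two axes, one of them killing the centre of a partner, gives SL(3). -/
theorem linear_of_two_axes [Finite F] (hL : IsCore L) {k : Subfield F} (hg : Good L k) {φ u ψ χ v : Fin 3 → F}
    (hr : NRoot L φ u) (hr2 : NRoot L ψ u) (hr' : NRoot L χ v) (hp : Partner φ u χ v)
    (hind : ∀ a : F, ψ ≠ a • φ) : ∃ B, conjL B L = slRat k := by
  have hT : ¬ NoTransvection L := fun h => (h _ _ hr.root).elim hr.axis_ne hr.centre_ne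
  set a := φ ⬝ᵥ v with ha_def
  have hy := hg.prod _ _ _ _ hr hr'
  have hx := hg.prod _ _ _ _ hr2 hr'
  set η := ψ - ((ψ ⬝ᵥ v) / a) • φ with hη
  have hη0 : η ≠ 0 := fun h => hind _ (sub_eq_zero.1 h)
  have hηr : Root L η u := by
    refine hr2.root.sub ((hg.line _ _ hr _).2 ?_)
    have := k.div_mem hx hy
    rwa [mul_div_mul_right _ _ hp.right] at this
  have hηv : η ⬝ᵥ v = 0 := by
    rw [hη, sub_dotProduct, smul_dotProduct, smul_eq_mul, div_mul_cancel₀ _ hp.left, sub_self]
  obtain ⟨w, hw, h1, h2⟩ := exists_common_zero φ χ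
  have hd : η ⬝ᵥ w ≠ 0 := fun h =>
    hη0 (eq_zero_of_frame hp hr.root.dot hr'.root.dot h1 h2 hw hηr.dot hηv h)
  have hp' : Partner φ u χ (a⁻¹ • v) := ⟨by simp [dotProduct_smul, ← ha_def, hp.left, a], hp.right⟩
  obtain ⟨C, hC⟩ := exists_frame hp' hr.root.dot (show χ ⬝ᵥ (a⁻¹ • v) = 0 by simp [dotProduct_smul, hr'.root.dot])
    (show φ ⬝ᵥ ((η ⬝ᵥ w)⁻¹ • w) = 0 by simp [dotProduct_smul, h1])
    (show χ ⬝ᵥ ((η ⬝ᵥ w)⁻¹ • w) = 0 by simp [dotProduct_smul, h2]) (smul_ne_zero (inv_ne_zero hd) hw)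
  refine ⟨C⁻¹, eq_slRat_of_frame (hL.conjL _) (not_noTransvection_conjL hT _) (hg.conjL _) ?_ ?_
    (t := a * (χ ⬝ᵥ u)) hy (mul_ne_zero hp.left hp.right) ?_⟩
  · have := root_conjL_of (B := C⁻¹) hr.root
    rw [inv_inv] at this
    rw [ERoot]
    convert this using 1
    · refine eq_of_dot fun x => ?_
      rw [← Matrix.dotProduct_mulVec, hC, colMat_mulVec]
      simp [dotProduct_add, dotProduct_smul, hr.root.dot, h1, hp.left, ← ha_def, a]
    · rw [show (Pi.single 0 1 : Fin 3 → F) = ((C⁻¹ : Matrix.GeneralLinearGroup (Fin 3) F) :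
        Matrix (Fin 3) (Fin 3) F) *ᵥ ((C : Matrix (Fin 3) (Fin 3) F) *ᵥ Pi.single 0 1) from
          (mulVec_cancel_left C _).symm, hC, colMat_mulVec]
      simp
  · have := root_conjL_of (B := C⁻¹) hηr
    rw [inv_inv] at this
    rw [ERoot]
    convert this using 1
    · refine eq_of_dot fun x => ?_
      rw [← Matrix.dotProduct_mulVec, hC, colMat_mulVec]
      simp [dotProduct_add, dotProduct_smul, hηr.dot, hηv, hd]
    · rw [show (Pi.single 0 1 : Fin 3 → F) = ((C⁻¹ : Matrix.GeneralLinearGroup (Fin 3) F) :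
        Matrix (Fin 3) (Fin 3) F) *ᵥ ((C : Matrix (Fin 3) (Fin 3) F) *ᵥ Pi.single 0 1) from
          (mulVec_cancel_left C _).symm, hC, colMat_mulVec]
      simp
  · have h3 : Root L (a • χ) (a⁻¹ • v) := by
      rw [root_smul_iff (inv_ne_zero hp.left), smul_smul, inv_mul_cancel₀ hp.left, one_smul]
      exact hr'.root
    have := root_conjL_of (B := C⁻¹) h3
    rw [inv_inv] at this
    rw [ERoot]
    convert this using 1
    · refine eq_of_dot fun x => ?_
      rw [← Matrix.dotProduct_mulVec, hC, colMat_mulVec]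
      simp [dotProduct_add, dotProduct_smul, hr'.root.dot, h2, mul_comm, mul_left_comm]
    · rw [show (Pi.single 1 1 : Fin 3 → F) = ((C⁻¹ : Matrix.GeneralLinearGroup (Fin 3) F) :
        Matrix (Fin 3) (Fin 3) F) *ᵥ ((C : Matrix (Fin 3) (Fin 3) F) *ᵥ Pi.single 1 1) from
          (mulVec_cancel_left C _).symm, hC, colMat_mulVec]
      simp

/-- A one-sided pair gives SL(3). -/
theorem linear_of_one_sided [Finite F] (hL : IsCore L) {k : Subfield F} (hg : Good L k) {φ u χ c : Fin 3 → F}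
    (hr : NRoot L φ u) (hr' : NRoot L χ c) (h0 : φ ⬝ᵥ c = 0) (h1 : χ ⬝ᵥ u ≠ 0) : ∃ B, conjL B L = slRat k := by
  have h2 := hr.root.comm hr'.root h0
  have h3 : NRoot L (-(χ ⬝ᵥ u) • φ) c := ⟨h2, smul_ne_zero (neg_ne_zero.2 h1) hr.axis_ne, hr'.centre_ne⟩
  obtain ⟨ξ, v, hc, hp⟩ := exists_partner_conj hL hr'
  refine linear_of_two_axes hL hg hr' h3 (hc.nroot hr') hp fun a ha => ?_
  have := congrArg (fun α => α ⬝ᵥ u) ha
  simp [smul_dotProduct, hr.root.dot] at this
  rcases this with rfl | h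
  · exact h3.axis_ne (by rw [ha, zero_smul])
  · exact h1 h

end CfsgLib.Geo.SL3.Trans
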