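/-
No one-sided pair: centres and axes determine each other; the elements fixing a centre.
-/
import Cfsg.Agent.Lib.Geo.SL3.Trans.Linear
import Cfsg.Agent.Lib.Geo.SubfieldMaximal

set_option autoImplicit false

namespace CfsgLib.Geo.SL3.Trans

open Matrix CfsgLib.Geo.Roots

variable {F : Type*} [Field F] {L : Subgroup (Matrix.GeneralLinearGroup (Fin 3) F)}

/-- There is no one-sided pair. -/
def NoSide (L : Subgroup (Matrix.GeneralLinearGroup (Fin 3) F)) : Prop :=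
  ∀ φ u χ c, NRoot L φ u → NRoot L χ c → φ ⬝ᵥ c = 0 → χ ⬝ᵥ u = 0

theorem NoSide.conjL (hs : NoSide L) (B : Matrix.GeneralLinearGroup (Fin 3) F) : NoSide (Trans.conjL B L) := by
  intro φ u χ c hr hr' h
  have := hs _ _ _ _ (nroot_conjL.1 hr) (nroot_conjL.1 hr')
    (by rwa [← Matrix.dotProduct_mulVec, mulVec_cancel_right])
  rwa [← Matrix.dotProduct_mulVec, mulVec_cancel_right] at this

/-- The axis is determined by the centre. -/
theorem axis_unique [Finite F] (hL : IsCore L) {k : Subfield F} (hg : Good L k) (hs : NoSide L) {φ u χ : Fin 3 → F}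
    (hr : NRoot L φ u) (hr' : NRoot L χ u) : ∃ s ∈ k, χ = s • φ := by
  obtain ⟨ψ, v, hc, hp⟩ := exists_partner_conj hL hr
  have hv := hc.nroot hr
  have hs' : χ ⬝ᵥ v / (φ ⬝ᵥ v) ∈ k := by
    have := k.div_mem (hg.prod _ _ _ _ hr' hv) (hg.prod _ _ _ _ hr hv)
    rwa [mul_div_mul_right _ _ hp.right] at this
  refine ⟨_, hs', ?_⟩
  by_contra hne
  have h1 : NRoot L (χ - (χ ⬝ᵥ v / (φ ⬝ᵥ v)) • φ) u :=
    ⟨hr'.root.sub ((hg.line _ _ hr _).2 hs'), sub_ne_zero.2 hne, hr.centre_ne⟩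
  exact hp.right (hs _ _ _ _ h1 hv
    (by rw [sub_dotProduct, smul_dotProduct, smul_eq_mul, div_mul_cancel₀ _ hp.left, sub_self]))

/-- Independent centres give partners. -/
theorem partner_of_centres [Finite F] (hL : IsCore L) {k : Subfield F} (hg : Good L k) (hs : NoSide L)
    {φ u χ c : Fin 3 → F} (hr : NRoot L φ u) (hr' : NRoot L χ c) (h : ∀ a : F, c ≠ a • u) :
    Partner φ u χ c := by
  by_contra hnp
  have h0 : φ ⬝ᵥ c = 0 ∧ χ ⬝ᵥ u = 0 := by
    by_cases h1 : φ ⬝ᵥ c = 0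
    · exact ⟨h1, hs _ _ _ _ hr hr' h1⟩
    · by_cases h2 : χ ⬝ᵥ u = 0
      · exact absurd (hs _ _ _ _ hr' hr h2) h1
      · exact absurd ⟨h1, h2⟩ hnp
  obtain ⟨ψ, v, hc, hp⟩ := exists_partner_conj hL hr
  have hv := hc.nroot hr
  obtain ⟨w, hw, hw1, hw2⟩ := exists_common_zero φ ψ
  obtain ⟨C, hC⟩ := exists_frame hp hr.root.dot hv.root.dot hw1 hw2 hw
  -- coordinates of the second centre
  set x := ((C⁻¹ : Matrix.GeneralLinearGroup (Fin 3) F) : Matrix (Fin 3) (Fin 3) F) *ᵥ c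
  have hx : c = x 0 • u + x 1 • v + x 2 • w := by rw [← colMat_mulVec, ← hC, mulVec_cancel_right]
  have hx1 : x 1 = 0 := by
    have := h0.1
    rw [hx] at this
    simp only [dotProduct_add, dotProduct_smul, hr.root.dot, hw1, smul_eq_mul, mul_zero, zero_add,
      add_zero] at this
    exact (mul_eq_zero.1 this).resolve_right hp.left
  rw [hx1, zero_smul, add_zero] at hx
  have hx2 : x 2 ≠ 0 := fun e => h _ (by rw [hx, e, zero_smul, add_zero])
  have hχw : χ ⬝ᵥ w = 0 := by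
    have := hr'.root.dot
    rw [hx] at this
    simpa [dotProduct_add, dotProduct_smul, h0.2, hx2] using this
  -- the axes agree
  have hχ : χ = (χ ⬝ᵥ v / (φ ⬝ᵥ v)) • φ := by
    refine sub_eq_zero.1 (eq_zero_of_frame hp hr.root.dot hv.root.dot hw1 hw2 hw ?_ ?_ ?_)
    · simp [sub_dotProduct, smul_dotProduct, h0.2, hr.root.dot]
    · simp [sub_dotProduct, smul_dotProduct, hp.left]
    · simp [sub_dotProduct, smul_dotProduct, hχw, hw1]
  set t := χ ⬝ᵥ v / (φ ⬝ᵥ v)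
  have ht : t ≠ 0 := fun e => hr'.axis_ne (by rw [hχ, e, zero_smul])
  have h1 : NRoot L φ (t • c) := ⟨(root_smul_iff ht).2 (hχ ▸ hr'.root), hr.axis_ne, smul_ne_zero ht hr'.centre_ne⟩
  have hs' : ψ ⬝ᵥ (t • c) / (ψ ⬝ᵥ u) ∈ k := by
    have := k.div_mem (hg.prod _ _ _ _ h1 hv) (hg.prod _ _ _ _ hr hv)
    rwa [mul_div_mul_left _ _ hp.left] at this
  set s := ψ ⬝ᵥ (t • c) / (ψ ⬝ᵥ u)
  have h2 : Root L φ (t • c + (-s) • u) := by
    refine CfsgLib.Geo.SubfieldMax.root_add_centre h1.root ?_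
    by_cases e : s = 0
    · rw [e, neg_zero, zero_smul]
      exact ⟨dotProduct_zero _, by convert L.one_mem using 1; exact ext_mulVec fun y => by simp [transvectionGL_mulVec]⟩
    · exact (root_smul_iff (neg_ne_zero.2 e)).2 ((hg.line _ _ hr _).2 (k.neg_mem hs'))
  have h3 : t • c + (-s) • u ≠ 0 := fun e => by
    refine h (t⁻¹ * s) ?_
    have e' : t • c = s • u := by
      rw [neg_smul, ← sub_eq_add_neg, sub_eq_zero] at e; exact e
    rw [mul_smul, ← e', smul_smul, inv_mul_cancel₀ ht, one_smul]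
  exact hp.left (hs _ _ _ _ hv ⟨h2, hr.axis_ne, h3⟩
    (by simp only [s, dotProduct_add, dotProduct_smul, smul_eq_mul, neg_mul, div_mul_cancel₀ _ hp.right]
        exact add_neg_cancel _))

/-- The Weyl elements of a normalised pair. -/
theorem exists_weyl {k : Subfield F} (hg : Good L k) {φ u ψ v : Fin 3 → F} (hr : NRoot L φ u) (hr' : NRoot L ψ v)
    (h1 : φ ⬝ᵥ v = 1) (h2 : ψ ⬝ᵥ u = 1) {l : F} (hl : l ∈ k) (hl0 : l ≠ 0) :
    ∃ g ∈ L, ∀ x, (g : Matrix (Fin 3) (Fin 3) F) *ᵥ x =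
      x + (l * (φ ⬝ᵥ x) - ψ ⬝ᵥ x) • u + (-(ψ ⬝ᵥ x) / l - φ ⬝ᵥ x) • v := by
  obtain ⟨e, m⟩ := (hg.line _ _ hr _).2 hl
  obtain ⟨e', m'⟩ := (hg.line _ _ hr' _).2 (k.neg_mem (k.inv_mem hl))
  refine ⟨_, L.mul_mem (L.mul_mem m m') m, fun x => ?_⟩
  rw [Units.val_mul, Units.val_mul, ← Matrix.mulVec_mulVec, ← Matrix.mulVec_mulVec, transvectionGL_mulVec,
    transvectionGL_mulVec, transvectionGL_mulVec]
  simp only [smul_dotProduct, dotProduct_add, dotProduct_smul, hr.root.dot, hr'.root.dot, h1, h2, smul_eq_mul]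
  match_scalars <;> field_simp <;> ring

/-- The torus of a normalised pair. -/
theorem exists_torus {k : Subfield F} (hg : Good L k) {φ u ψ v : Fin 3 → F} (hr : NRoot L φ u) (hr' : NRoot L ψ v)
    (h1 : φ ⬝ᵥ v = 1) (h2 : ψ ⬝ᵥ u = 1) {l : F} (hl : l ∈ k) (hl0 : l ≠ 0) :
    ∃ g ∈ L, ∀ x, (g : Matrix (Fin 3) (Fin 3) F) *ᵥ x =
      x + ((l - 1) * (ψ ⬝ᵥ x)) • u + ((l⁻¹ - 1) * (φ ⬝ᵥ x)) • v := by
  obtain ⟨g, hgm, hgv⟩ := exists_weyl hg hr hr' h1 h2 hl hl0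
  obtain ⟨g', hgm', hgv'⟩ := exists_weyl hg hr hr' h1 h2 (k.neg_mem k.one_mem) (neg_ne_zero.2 one_ne_zero)
  refine ⟨_, L.mul_mem hgm hgm', fun x => ?_⟩
  rw [Units.val_mul, ← Matrix.mulVec_mulVec, hgv, hgv']
  simp only [dotProduct_add, dotProduct_smul, hr.root.dot, hr'.root.dot, h1, h2, smul_eq_mul]
  match_scalars
  · ring
  · field_simp
    ring
  · field_simp
    ring

end CfsgLib.Geo.SL3.Trans
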