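/-
Symmetric type in coordinates: the unipotent elements fixing a centre give all centres.
-/
import Cfsg.Agent.Lib.Geo.SL3.Trans.Symm

set_option autoImplicit false

namespace CfsgLib.Geo.SL3.Trans

open Matrix CfsgLib.Geo.Roots

variable {F : Type*} [Field F] {L : Subgroup (Matrix.GeneralLinearGroup (Fin 3) F)} {k : Subfield F}

/-- A normalised opposite pair in the group without one-sided pairs. -/
structure Coord (L : Subgroup (Matrix.GeneralLinearGroup (Fin 3) F)) (k : Subfield F) : Prop where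
  core : IsCore L
  good : Good L k
  side : NoSide L
  e02 : ERoot L 0 2 1
  e20 : ERoot L 2 0 1
  big : ∃ l ∈ k, l ≠ 0 ∧ l ≠ 1

/-- Upper unitriangular matrices. -/
def uMat (x y z : F) : Matrix (Fin 3) (Fin 3) F := !![1, x, z; 0, 1, y; 0, 0, 1]

theorem uMat_mulVec (x y z : F) (v : Fin 3 → F) :
    uMat x y z *ᵥ v = ![v 0 + x * v 1 + z * v 2, v 1 + y * v 2, v 2] := by
  ext i
  fin_cases i <;> simp [uMat, Matrix.mulVec, dotProduct, Fin.sum_univ_succ] <;> ring

theorem uMat_mul (x y z x' y' z' : F) :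
    uMat x y z * uMat x' y' z' = uMat (x + x') (y + y') (z + z' + x * y') := by
  ext i j
  fin_cases i <;> fin_cases j <;> simp [uMat, Matrix.mul_apply, Fin.sum_univ_succ] <;> ring

theorem uMat_inv (x y z : F) : uMat x y z * uMat (-x) (-y) (x * y - z) = 1 := by
  rw [uMat_mul]
  ext i j
  fin_cases i <;> fin_cases j <;> simp [uMat] <;> ring

/-- The parameters of unitriangular elements of the group. -/
def InU (L : Subgroup (Matrix.GeneralLinearGroup (Fin 3) F)) (x y z : F) : Prop :=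
  ∃ g ∈ L, (g : Matrix (Fin 3) (Fin 3) F) = uMat x y z

theorem InU.mul {x y z x' y' z' : F} (h : InU L x y z) (h' : InU L x' y' z') :
    InU L (x + x') (y + y') (z + z' + x * y') := by
  obtain ⟨g, hg, e⟩ := h
  obtain ⟨g', hg', e'⟩ := h'
  exact ⟨g * g', L.mul_mem hg hg', by rw [Units.val_mul, e, e', uMat_mul]⟩

theorem InU.inv_val {x y z : F} {g : Matrix.GeneralLinearGroup (Fin 3) F}
    (e : (g : Matrix (Fin 3) (Fin 3) F) = uMat x y z) :
    ((g⁻¹ : Matrix.GeneralLinearGroup (Fin 3) F) : Matrix (Fin 3) (Fin 3) F) = uMat (-x) (-y) (x * y - z) :=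
  Units.inv_eq_of_mul_eq_one_right (by rw [e, uMat_inv])

theorem InU.inv {x y z : F} (h : InU L x y z) : InU L (-x) (-y) (x * y - z) := by
  obtain ⟨g, hg, e⟩ := h
  exact ⟨g⁻¹, L.inv_mem hg, InU.inv_val e⟩

variable (hc : Coord L k)

include hc

theorem Coord.n02 : NRoot L (Pi.single 2 1) (Pi.single 0 1) := hc.e02.nroot one_ne_zero

theorem Coord.n20 : NRoot L (Pi.single 0 1) (Pi.single 2 1) := hc.e20.nroot one_ne_zero

theorem Coord.line_mem {r : F} (hr : r ∈ k) : InU L 0 0 r := by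
  obtain ⟨e, m⟩ := (hc.good.line _ _ hc.n02 r).2 hr
  refine ⟨_, m, Matrix.toLin'.injective (LinearMap.ext fun v => ?_)⟩
  rw [Matrix.toLin'_apply, Matrix.toLin'_apply, transvectionGL_mulVec, uMat_mulVec]
  funext i
  fin_cases i <;> simp

theorem Coord.shift {x y z r : F} (h : InU L x y z) (hr : r ∈ k) : InU L x y (z + r) := by
  simpa using h.mul (hc.line_mem hr)

theorem Coord.scale {x y z s : F} (h : InU L x y z) (hs : s ∈ k) (hs0 : s ≠ 0) :
    InU L (s * x) (s * y) (s * s * z) := by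
  obtain ⟨g, hg, e⟩ := h
  obtain ⟨t, ht, htv⟩ := exists_torus hc.good hc.n02 hc.n20 (by simp) (by simp) hs hs0
  obtain ⟨t', ht', htv'⟩ :=
    exists_torus hc.good hc.n02 hc.n20 (by simp) (by simp) (k.inv_mem hs) (inv_ne_zero hs0)
  refine ⟨t * g * t', L.mul_mem (L.mul_mem ht hg) ht', Matrix.toLin'.injective (LinearMap.ext fun v => ?_)⟩
  rw [Matrix.toLin'_apply, Matrix.toLin'_apply, Units.val_mul, Units.val_mul, ← Matrix.mulVec_mulVec,
    ← Matrix.mulVec_mulVec, htv', e, uMat_mulVec, uMat_mulVec, htv]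
  funext i
  fin_cases i <;> simp [Matrix.vecHead, Matrix.vecTail] <;> field_simp <;> ring

/-- The conjugates of the opposite root. -/
theorem Coord.rootB {x y z : F} (h : InU L x y z) : NRoot L ![1, -x, x * y - z] ![z, y, 1] := by
  obtain ⟨g, hg, e⟩ := h
  have := hc.n20.conj hg
  rw [InU.inv_val e, e, uMat_mulVec] at this
  convert this using 1
  · funext i
    fin_cases i <;> simp [uMat, Matrix.vecMul, dotProduct, Fin.sum_univ_succ]
  · simp

theorem Coord.y_of_x [Finite F] {x y z : F} (h : InU L x y z) (hx : x = 0) : y = 0 ∧ z ∈ k := by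
  obtain ⟨g, hg, e⟩ := h
  subst hx
  have hd : (Pi.single 2 1 : Fin 3 → F) ⬝ᵥ ![z, y, 0] = 0 := by simp
  have hr : Root L (Pi.single 2 1) ![z, y, 0] := by
    refine ⟨hd, ?_⟩
    convert hg using 1
    refine ext_mulVec fun v => ?_
    rw [transvectionGL_mulVec, e, uMat_mulVec]
    funext i
    fin_cases i <;> simp [mul_comm]
  by_cases hy : y = 0
  · refine ⟨hy, ?_⟩
    subst hy
    by_cases hz : z = 0
    · rw [hz]; exact k.zero_mem
    refine (hc.good.line _ _ hc.n02 z).1 ((root_smul_iff hz).1 ?_)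
    convert hr using 1
    funext i
    fin_cases i <;> simp
  · exfalso
    refine (partner_of_centres hc.core hc.good hc.side
      (⟨hr, by simp, fun e => hy (by simpa using congrFun e 1)⟩ : NRoot L _ _) hc.n02 fun a ha => ?_).left (by simp)
    have h0 := congrFun ha 0
    have h1 := congrFun ha 1
    simp [hy] at h0 h1
    rw [h1, zero_mul] at h0
    exact one_ne_zero h0

theorem Coord.x_of_y [Finite F] {x y z : F} (h : InU L x y z) (hy : y = 0) : x = 0 := by
  obtain ⟨g, hg, e⟩ := h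
  subst hy
  by_contra hx
  have hd : (![0, x, z] : Fin 3 → F) ⬝ᵥ Pi.single 0 1 = 0 := by simp
  have hr : NRoot L ![0, x, z] (Pi.single 0 1) := by
    refine ⟨⟨hd, ?_⟩, fun e => hx (by simpa using congrFun e 1), by simp⟩
    convert hg using 1
    refine ext_mulVec fun v => ?_
    rw [transvectionGL_mulVec, e, uMat_mulVec]
    funext i
    fin_cases i <;> simp [dotProduct, Fin.sum_univ_succ] <;> ring
  obtain ⟨s, -, hs⟩ := axis_unique hc.core hc.good hc.side hc.n02 hr
  exact hx (by simpa using congrFun hs 1)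

theorem Coord.z_facts [Finite F] {x y z : F} (h : InU L x y z) (hx : x ≠ 0) :
    z ∉ k ∧ z * (x * y - z) ∈ k ∧ x * y - z - z ∈ k := by
  have hy : y ≠ 0 := fun e => hx (hc.x_of_y h e)
  have prod : ∀ {z : F}, InU L x y z → z * (x * y - z) ∈ k := fun {z} h' => by
    simpa [mul_comm] using hc.good.prod _ _ _ _ hc.n20 (hc.rootB h')
  refine ⟨fun hz => ?_, prod h, ?_⟩
  · have h' := hc.shift h (k.neg_mem hz)
    rw [add_neg_cancel] at h'
    refine (partner_of_centres hc.core hc.good hc.side hc.n20 (hc.rootB h') fun a ha => ?_).left (by simp)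
    exact hy (by simpa using congrFun ha 1)
  · have := k.add_mem (k.sub_mem (prod (hc.shift h k.one_mem)) (prod h)) k.one_mem
    rwa [show (z + 1) * (x * y - (z + 1)) - z * (x * y - z) + 1 = x * y - z - z by ring] at this

/-- All centres. -/
theorem Coord.centres [Finite F] {χ c : Fin 3 → F} (hr : NRoot L χ c) :
    (∃ s : F, c = s • Pi.single 0 1) ∨ ∃ x y z s : F, InU L x y z ∧ c = s • ![z, y, 1] := by
  by_cases hpar : ∃ s : F, c = s • Pi.single 0 1
  · exact Or.inl hpar
  push Not at hpar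
  have hp := partner_of_centres hc.core hc.good hc.side hc.n02 hr hpar
  have hc2 : c 2 ≠ 0 := by simpa using hp.left
  refine Or.inr ?_
  -- normalise
  obtain ⟨t, hr', hχ0⟩ : ∃ t : F, NRoot L (t • χ) ((c 2)⁻¹ • c) ∧ (t • χ) 0 = 1 := by
    have hβ : c 2 * χ 0 ∈ k := by simpa using hc.good.prod _ _ _ _ hc.n02 hr
    have hχ : χ 0 ≠ 0 := by simpa using hp.right
    have h1 : Root L ((c 2 * χ 0)⁻¹ • χ) c := (hc.good.line _ _ hr _).2 (k.inv_mem hβ)
    refine ⟨(χ 0)⁻¹, ⟨?_, smul_ne_zero (inv_ne_zero hχ) hr.axis_ne, smul_ne_zero (inv_ne_zero hc2) hr.centre_ne⟩,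
      by simp [hχ]⟩
    rw [root_smul_iff (inv_ne_zero hc2), smul_smul, ← _root_.mul_inv]
    exact h1
  set χ' := t • χ
  set c' := (c 2)⁻¹ • c with hc'
  have hc'2 : c' 2 = 1 := by simp [hc', hc2]
  have hcc : c = c 2 • c' := by rw [hc', smul_smul, mul_inv_cancel₀ hc2, one_smul]
  obtain ⟨l, hl, hl0, hl1⟩ := hc.big
  obtain ⟨H, hH, hHv⟩ := exists_torus hc.good hc.n02 hr' (by simp [hc'2]) (by simp [hχ0]) hl hl0
  obtain ⟨T, hT, hTv⟩ :=
    exists_torus hc.good hc.n02 hc.n20 (by simp) (by simp) (k.inv_mem hl) (inv_ne_zero hl0)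
  have hu : InU L ((l - 1) * χ' 1) ((1 - l) * c' 1) (l * (l - 1) * χ' 2 + (1 - l) * c' 0) := by
    refine ⟨H * T, L.mul_mem hH hT, Matrix.toLin'.injective (LinearMap.ext fun v => ?_)⟩
    rw [Matrix.toLin'_apply, Matrix.toLin'_apply, Units.val_mul, ← Matrix.mulVec_mulVec, hTv, hHv, uMat_mulVec]
    have e : ∀ w : Fin 3 → F, χ' ⬝ᵥ w = w 0 + χ' 1 * w 1 + χ' 2 * w 2 := fun w => by
      simp [dotProduct, Fin.sum_univ_succ, hχ0, add_assoc]
    funext i
    fin_cases i <;> simp [e, hc'2] <;> field_simp <;> ring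
  have hv := hc.scale hu (k.inv_mem (k.sub_mem k.one_mem hl)) (inv_ne_zero (sub_ne_zero.2 (Ne.symm hl1)))
  have h1l : (1 - l) ≠ 0 := sub_ne_zero.2 (Ne.symm hl1)
  set zv := (1 - l)⁻¹ * (1 - l)⁻¹ * (l * (l - 1) * χ' 2 + (1 - l) * c' 0)
  rw [show (1 - l)⁻¹ * ((l - 1) * χ' 1) = -χ' 1 by field_simp; ring,
    show (1 - l)⁻¹ * ((1 - l) * c' 1) = c' 1 by field_simp] at hv
  -- move to the line through the opposite pair
  obtain ⟨g, hg, eg⟩ := hv
  have hconj := hr'.conj (L.inv_mem hg)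
  rw [inv_inv, InU.inv_val eg, eg, uMat_mulVec] at hconj
  set s := c' 0 + χ' 1 * c' 1 + (-χ' 1 * c' 1 - zv) with hs
  have hcen : (![c' 0 + - -χ' 1 * c' 1 + (-χ' 1 * c' 1 - zv) * c' 2, c' 1 + -c' 1 * c' 2, c' 2] : Fin 3 → F) =
      ![s, 0, 1] := by
    rw [hc'2, hs]; simp
  rw [hcen] at hconj
  have hax : χ' ᵥ* uMat (-χ' 1) (c' 1) zv = ![1, 0, -s] := by
    have hd := hconj.root.dot
    simp [uMat, Matrix.vecMul, dotProduct, Fin.sum_univ_succ, hχ0] at hd
    funext i
    fin_cases i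
    · simp [uMat, Matrix.vecMul, dotProduct, Fin.sum_univ_succ, hχ0]
    · simp [uMat, Matrix.vecMul, dotProduct, Fin.sum_univ_succ, hχ0]
    · simp [uMat, Matrix.vecMul, dotProduct, Fin.sum_univ_succ, hχ0]
      linear_combination hd
  rw [hax] at hconj
  have hsk : s ∈ k := by
    have key : ∀ {r : F}, NRoot L ![1, 0, -r] ![r, 0, 1] → r * r ∈ k := fun {r} h => by
      have := hc.good.prod _ _ _ _ hc.n20 h
      simpa using this
    have h2 := key hconj
    obtain ⟨g', hg', eg'⟩ := hc.line_mem k.one_mem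
    have h3 := hconj.conj hg'
    rw [InU.inv_val eg', eg', uMat_mulVec] at h3
    have h4 : NRoot L ![1, 0, -(s + 1)] ![s + 1, 0, 1] := by
      convert h3 using 1
      · funext i
        fin_cases i <;> simp [uMat, Matrix.vecMul, dotProduct, Fin.sum_univ_succ] <;> ring
      · simp
    have h5 : 2 * s ∈ k := by
      have := k.sub_mem (k.sub_mem (key h4) h2) k.one_mem
      rwa [show (s + 1) * (s + 1) - s * s - 1 = 2 * s by ring] at this
    by_cases h20 : (2 : F) = 0
    · haveI : CharP F 2 := CharTwo.of_one_ne_zero_of_two_eq_zero one_ne_zero h20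
      haveI : CharP k 2 := (k.subtype.charP_iff k.subtype.injective 2).2 inferInstance
      haveI : Fact (Nat.Prime 2) := ⟨Nat.prime_two⟩
      obtain ⟨t, ht⟩ := (Finite.injective_iff_surjective.1 (frobenius_inj k 2)) ⟨s * s, h2⟩
      have : s = (t : F) := frobenius_inj F 2 (by
        have := congrArg (fun w : k => (w : F)) ht
        simp only [frobenius_def] at this ⊢
        rw [sq, sq]
        simpa [sq] using this.symm)
      rw [this]; exact t.2
    · have := k.div_mem h5 (natCast_mem k 2)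
      rwa [Nat.cast_ofNat, mul_div_cancel_left₀ s h20] at this
  refine ⟨_, _, _, c 2, hc.shift ⟨g, hg, eg⟩ hsk, ?_⟩
  refine hcc.trans (congrArg _ ?_)
  funext i
  fin_cases i <;> simp [hs, hc'2] <;> ring

/-- A non-trivial unitriangular element. -/
theorem Coord.exists_x [Finite F] : ∃ x y z : F, x ≠ 0 ∧ InU L x y z := by
  by_contra! hno
  obtain ⟨c, ⟨χ, hr⟩, hd⟩ := exists_dot_ne_left hc.core (P := fun c => ∃ χ, NRoot L χ c)
    (fun g hg c ⟨χ, h⟩ => ⟨_, h.conj hg⟩) ⟨_, ⟨_, hc.n02⟩, hc.n02.centre_ne⟩ (φ := Pi.single 1 1) (by simp)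
  rcases hc.centres hr with ⟨s, rfl⟩ | ⟨x, y, z, s, hu, rfl⟩
  · simp at hd
  · have hx : x = 0 := by
      by_contra hx
      exact hno x y z hx hu
    simp [(hc.y_of_x hu hx).1] at hd

end CfsgLib.Geo.SL3.Trans
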