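/-
Symmetric type: the group is the unitary group of a hermitian form over a quadratic extension.
-/
import Cfsg.Agent.Lib.Geo.SL3.Trans.Unipotent
import Cfsg.Agent.Lib.Classical.Dickson.SubgroupFacts

set_option autoImplicit false

namespace CfsgLib.Geo.SL3.Trans

open Matrix CfsgLib.Geo.Roots CfsgLib.Classical.Dickson

variable {F : Type*} [Field F] {L : Subgroup (Matrix.GeneralLinearGroup (Fin 3) F)} {k : Subfield F}

/-- The semilinear map from vectors to functionals. -/
def jvec (σ : F →+* F) (η : F) (v : Fin 3 → F) : Fin 3 → F := ![σ (v 2), σ (v 1) / η, -σ (v 0)]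

/-- The transvections of the group are exactly those of a skew-hermitian form over `k2`. -/
structure UnitaryType (L : Subgroup (Matrix.GeneralLinearGroup (Fin 3) F)) (k k2 : Subfield F) (σ : F →+* F)
    (η : F) : Prop where
  le : k ≤ k2
  card : Nat.card k2 = Nat.card k ^ 2
  sigma : ∀ w, σ w = w ^ Nat.card k
  fix : ∀ w, σ w = w ↔ w ∈ k
  invol : ∀ w ∈ k2, σ (σ w) = w
  maps : ∀ w ∈ k2, σ w ∈ k2
  eta_mem : η ∈ k2
  eta_ne : η ≠ 0
  eta_skew : σ η = -η
  hasRoot : ∀ c : Fin 3 → F, (∀ i, c i ∈ k2) → c ≠ 0 → jvec σ η c ⬝ᵥ c = 0 → ∀ l ∈ k,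
    Root L (l • jvec σ η c) c
  allRoots : ∀ φ u, NRoot L φ u → ∃ (c : Fin 3 → F) (l : F), (∀ i, c i ∈ k2) ∧ c ≠ 0 ∧
    jvec σ η c ⬝ᵥ c = 0 ∧ l ∈ k ∧ Matrix.vecMulVec u φ = l • Matrix.vecMulVec c (jvec σ η c)

theorem Coord.conj_diag (hc : Coord L k) {d : F} {D : Matrix.GeneralLinearGroup (Fin 3) F}
    (hD : (D : Matrix (Fin 3) (Fin 3) F) = Matrix.diagonal ![1, d, 1]) : Coord (conjL D L) k := by
  have hinv : ∀ i : Fin 3, i ≠ 1 →
      ((D⁻¹ : Matrix.GeneralLinearGroup (Fin 3) F) : Matrix (Fin 3) (Fin 3) F) *ᵥ Pi.single i 1 =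
        (Pi.single i 1 : Fin 3 → F) := by
    intro i hi
    conv_lhs => rw [show (Pi.single i 1 : Fin 3 → F) = (D : Matrix (Fin 3) (Fin 3) F) *ᵥ Pi.single i 1 by
      rw [hD]; funext j; fin_cases i <;> fin_cases j <;> simp at hi ⊢]
    exact mulVec_cancel_left D _
  refine ⟨hc.core.conjL D, hc.good.conjL D, hc.side.conjL D, ?_, ?_, hc.big⟩
  · rw [ERoot, root_conjL, hinv 0 (by decide)]
    rw [hD, show (Pi.single 2 1 : Fin 3 → F) ᵥ* Matrix.diagonal ![1, d, 1] = Pi.single 2 1 from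
      funext fun i => by fin_cases i <;> simp [Matrix.vecMul_diagonal]]
    exact hc.e02
  · rw [ERoot, root_conjL, hinv 2 (by decide)]
    rw [hD, show (Pi.single 0 1 : Fin 3 → F) ᵥ* Matrix.diagonal ![1, d, 1] = Pi.single 0 1 from
      funext fun i => by fin_cases i <;> simp [Matrix.vecMul_diagonal]]
    exact hc.e20

/-- The transvections of a group of symmetric type. -/
theorem Coord.unitary_of_one [Finite F] (hc : Coord L k) {η₀ z₀ : F} (h₁ : InU L 1 η₀ z₀) :
    ∃ k2 σ η, UnitaryType L k k2 σ η := by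
  classical
  haveI := Fintype.ofFinite F
  obtain ⟨p, hchar⟩ := CharP.exists F
  haveI : Fact p.Prime := ⟨CharP.char_is_prime F p⟩
  haveI := Fintype.ofFinite k
  haveI : CharP k p := (k.subtype.charP_iff k.subtype.injective p).2 hchar
  obtain ⟨f, -, hf⟩ := FiniteField.card k p
  let σ : F →+* F := iterateFrobenius F p f
  have hσ : ∀ w, σ w = w ^ Nat.card k := fun w => by
    rw [Nat.card_eq_fintype_card, hf]; exact iterateFrobenius_def ..
  have hfix : ∀ w, σ w = w ↔ w ∈ k := fun w => by rw [hσ, mem_subfield_iff_pow]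
  have hσk : ∀ {w}, w ∈ k → σ w = w := fun h => (hfix _).2 h
  let k2 : Subfield F := RingHom.eqLocusField (σ.comp σ) (RingHom.id F)
  have hk2 : ∀ {w}, w ∈ k2 ↔ σ (σ w) = w := Iff.rfl
  have hle : k ≤ k2 := fun w hw => by rw [hk2, hσk hw, hσk hw]
  have hsig : ∀ {x y z : F}, InU L x y z → z ∈ k2 ∧ x * y = z - σ z := by
    intro x y z h
    by_cases hx : x = 0
    · obtain ⟨hy, hz⟩ := hc.y_of_x h hx
      exact ⟨hle hz, by rw [hx, zero_mul, hσk hz, sub_self]⟩
    obtain ⟨hz, hp, hd⟩ := hc.z_facts h hx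
    have root : ∀ w : F, w * (x * y - z - z + w) = z * (x * y - z) → w = z ∨ w = -(x * y - z) := by
      intro w hw
      rcases mul_eq_zero.1 (show (w - z) * (w + (x * y - z)) = 0 by linear_combination hw) with e | e
      · exact Or.inl (sub_eq_zero.1 e)
      · exact Or.inr (eq_neg_of_add_eq_zero_left e)
    have mapRoot : ∀ w : F, w * (x * y - z - z + w) = z * (x * y - z) →
        σ w * (x * y - z - z + σ w) = z * (x * y - z) := fun w hw => by
      have := congrArg σ hw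
      rwa [map_mul, map_add, hσk hd, hσk hp] at this
    have h1 : z * (x * y - z - z + z) = z * (x * y - z) := by ring
    have hne : σ z ≠ z := fun e => hz ((hfix _).1 e)
    have e1 : σ z = -(x * y - z) := (root _ (mapRoot _ h1)).resolve_left hne
    have e2 : σ (σ z) = z :=
      (root _ (mapRoot _ (mapRoot _ h1))).resolve_right fun e => hne (σ.injective (by rw [e, e1]))
    exact ⟨hk2.2 e2, by rw [e1]; ring⟩
  set η := η₀
  have hη : η = z₀ - σ z₀ := by simpa using (hsig h₁).2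
  have hz0k : z₀ ∉ k := (hc.z_facts h₁ one_ne_zero).1
  have hη0 : η ≠ 0 := fun e => one_ne_zero (α := F) (hc.x_of_y h₁ e)
  have hskew : σ η = -η := by rw [hη, map_sub, hk2.1 (hsig h₁).1]; ring
  have hηk2 : η ∈ k2 := hk2.2 (by rw [hskew, map_neg, hskew, neg_neg])
  have hlin : ∀ {x y z : F}, InU L x y z → x ∈ k2 ∧ y = η * σ x := by
    intro x y z h
    obtain ⟨hz, hxy⟩ := hsig h
    obtain ⟨hz', hxy'⟩ := hsig (h.mul h₁)
    obtain ⟨hz1, hxy1⟩ := hsig h₁
    have hxη : x * η ∈ k2 := by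
      have := k2.sub_mem (k2.sub_mem hz' hz) hz1
      rwa [show z + z₀ + x * η - z - z₀ = x * η by ring] at this
    have hx : x ∈ k2 := by
      have := k2.div_mem hxη hηk2
      rwa [mul_div_cancel_right₀ _ hη0] at this
    refine ⟨hx, ?_⟩
    rw [map_add, map_add, map_mul, hskew] at hxy'
    linear_combination hxy' - hxy - hxy1
  obtain ⟨x₁, y₁, z₁, hu₁, hx₁⟩ : ∃ x y z, InU L x y z ∧ x ∉ k := by
    by_contra! hno
    obtain ⟨w, hw, hwv⟩ := exists_weyl hc.good hc.n02 hc.n20 (by simp) (by simp) k.one_mem one_ne_zero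
    have hr := (hc.rootB h₁).conj hw
    rw [hwv] at hr
    have hcen : (![z₀, η, 1] : Fin 3 → F) +
        (1 * ((Pi.single 2 1 : Fin 3 → F) ⬝ᵥ ![z₀, η, 1]) - (Pi.single 0 1 : Fin 3 → F) ⬝ᵥ ![z₀, η, 1]) •
          (Pi.single 0 1 : Fin 3 → F) +
        (-((Pi.single 0 1 : Fin 3 → F) ⬝ᵥ ![z₀, η, 1]) / 1 - (Pi.single 2 1 : Fin 3 → F) ⬝ᵥ ![z₀, η, 1]) •
          (Pi.single 2 1 : Fin 3 → F) = ![1, η, -z₀] := by
      funext i
      fin_cases i <;> simp [Matrix.vecHead, Matrix.vecTail]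
    rw [hcen] at hr
    rcases hc.centres hr with ⟨s, hs⟩ | ⟨x, y, z, s, hu, hs⟩
    · exact hη0 (by simpa using congrFun hs 1)
    · have h0 : (1 : F) = s * z := by simpa using congrFun hs 0
      have h1' : η = s * y := by simpa using congrFun hs 1
      have h2 : -z₀ = s := by simpa using congrFun hs 2
      have hxk := hno x y z hu
      rw [(hlin hu).2, hσk hxk] at h1'
      have hsx : s * x = 1 := mul_left_cancel₀ hη0 (by linear_combination -h1')
      refine hz0k ?_
      have : s ∈ k := by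
        rw [eq_inv_of_mul_eq_one_left hsx]; exact k.inv_mem hxk
      simpa [← h2] using k.neg_mem this
  have hx₁2 := (hlin hu₁).1
  have hne₁ : x₁ - σ x₁ ≠ 0 := fun e => hx₁ ((hfix _).1 (sub_eq_zero.1 e).symm)
  have hdec : ∀ w ∈ k2, ∃ a ∈ k, ∃ b ∈ k, w = a + b * x₁ := by
    intro w hw
    have hb : (w - σ w) / (x₁ - σ x₁) ∈ k := (hfix _).1 (by
      rw [map_div₀, map_sub, map_sub, hk2.1 hw, hk2.1 hx₁2, ← neg_sub w, ← neg_sub x₁, neg_div_neg_eq])
    refine ⟨w - (w - σ w) / (x₁ - σ x₁) * x₁, (hfix _).1 ?_, _, hb, by ring⟩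
    rw [map_sub, map_mul, hσk hb]
    have e := div_mul_cancel₀ (w - σ w) hne₁
    linear_combination e
  have hcard : Nat.card k2 = Nat.card k ^ 2 := by
    have hbij : Function.Bijective (fun ab : k × k => (⟨(ab.1 : F) + ab.2 * x₁,
        k2.add_mem (hle ab.1.2) (k2.mul_mem (hle ab.2.2) hx₁2)⟩ : k2)) := by
      refine ⟨fun a b h => ?_, fun w => ?_⟩
      · have h' : (a.1 : F) + a.2 * x₁ = b.1 + b.2 * x₁ := congrArg Subtype.val h
        have h'' := congrArg σ h'
        rw [map_add, map_add, map_mul, map_mul, hσk a.1.2, hσk a.2.2, hσk b.1.2, hσk b.2.2] at h''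
        have e2 : (a.2 : F) = b.2 := mul_right_cancel₀ hne₁ (by linear_combination h' - h'')
        exact Prod.ext (Subtype.ext (by linear_combination h' - x₁ * e2)) (Subtype.ext e2)
      · obtain ⟨a, ha, b, hb, e⟩ := hdec w w.2
        exact ⟨(⟨a, ha⟩, ⟨b, hb⟩), Subtype.ext e.symm⟩
    rw [← Nat.card_congr (Equiv.ofBijective _ hbij), Nat.card_prod, sq]
  have hW : ∀ w ∈ k2, ∃ y z, InU L w y z := by
    intro w hw
    obtain ⟨a, ha, b, hb, rfl⟩ := hdec w hw
    have hsmul : ∀ {x y z s : F}, InU L x y z → s ∈ k → ∃ y' z', InU L (s * x) y' z' := by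
      intro x y z s h hs
      by_cases h0 : s = 0
      · exact ⟨0, 0, by rw [h0, zero_mul]; exact hc.line_mem k.zero_mem⟩
      · exact ⟨_, _, hc.scale h hs h0⟩
    obtain ⟨_, _, e1⟩ := hsmul h₁ ha
    obtain ⟨_, _, e2⟩ := hsmul hu₁ hb
    rw [mul_one] at e1
    exact ⟨_, _, e1.mul e2⟩
  have hjB : ∀ {x y z : F}, InU L x y z → jvec σ η ![z, y, 1] = ![1, -x, x * y - z] := by
    intro x y z h
    obtain ⟨hx, hy⟩ := hlin h
    obtain ⟨-, hxy⟩ := hsig h
    funext i
    fin_cases i <;> simp [jvec]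
    · rw [hy, map_mul, hskew, hk2.1 hx]; field_simp
    · linear_combination -hxy
  refine ⟨k2, σ, η, hle, hcard, hσ, hfix, fun w => hk2.1, fun w hw => hk2.2 (by rw [hk2.1 hw]), hηk2, hη0, hskew,
    fun c hck hc0 hiso l hl => ?_, fun φ u hr => ?_⟩
  · by_cases h2 : c 2 = 0
    · have h1 : c 1 = 0 := by
        simp [jvec, dotProduct, Fin.sum_univ_succ, h2, hη0] at hiso
        exact hiso
      have h0 : c 0 ≠ 0 := fun e => hc0 (funext fun i => by fin_cases i <;> assumption)
      have hn : σ (c 0) * c 0 ∈ k := (hfix _).1 (by rw [map_mul, hk2.1 (hck 0), mul_comm])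
      have hr := (hc.good.line _ _ hc.n02 (-(l * (σ (c 0) * c 0)))).2 (k.neg_mem (k.mul_mem hl hn))
      rw [show c = c 0 • (Pi.single 0 1 : Fin 3 → F) from funext fun i => by fin_cases i <;> simp [h1, h2],
        root_smul_iff h0]
      convert hr using 1
      funext i
      fin_cases i <;> simp [jvec, h1, h2] <;> ring
    · set s := c 2
      have hs : s ∈ k2 := hck 2
      set y := c 1 / s
      set z := c 0 / s
      have hy : y ∈ k2 := k2.div_mem (hck 1) hs
      have hz : z ∈ k2 := k2.div_mem (hck 0) hs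
      set x := σ (y / η) with hxdef
      have hx : x ∈ k2 := hk2.2 (by rw [hxdef, hk2.1 (k2.div_mem hy hηk2)])
      have hyx : y = η * σ x := by rw [hxdef, hk2.1 (k2.div_mem hy hηk2), mul_div_cancel₀ _ hη0]
      obtain ⟨y', z', hu⟩ := hW x hx
      obtain ⟨-, hy'⟩ := hlin hu
      rw [← hyx] at hy'
      rw [hy'] at hu
      have hcs : c = s • ![z, y, 1] := funext fun i => by
        fin_cases i <;> simp [z, y, s, mul_div_cancel₀, h2]
      have hzz : z - z' ∈ k := by
        refine (hfix _).1 ?_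
        obtain ⟨hz', hxy⟩ := hsig hu
        rw [hcs] at hiso
        have hσy : σ y = -η * x := by rw [hyx, map_mul, hskew, hk2.1 hx]
        simp [jvec, dotProduct, Fin.sum_univ_succ, h2] at hiso
        rw [hσy] at hiso
        field_simp at hiso
        rw [map_sub]
        have hss : σ s * s ≠ 0 := mul_ne_zero ((map_ne_zero σ).2 h2) h2
        have key : σ s * s * (z - σ z - (z' - σ z')) = 0 := by
          rw [← hxy]
          linear_combination hiso
        have := (mul_eq_zero.1 key).resolve_left hss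
        linear_combination -this
      have hu' := hc.shift hu hzz
      rw [add_sub_cancel] at hu'
      have hn : σ s * s ∈ k := (hfix _).1 (by rw [map_mul, hk2.1 hs, mul_comm])
      have hr := (hc.good.line _ _ (hc.rootB hu') (l * (σ s * s))).2 (k.mul_mem hl hn)
      rw [hcs, root_smul_iff h2]
      rw [← hjB hu'] at hr
      convert hr using 1
      funext i
      fin_cases i <;> simp [jvec] <;> ring
  · rcases hc.centres hr with ⟨s, rfl⟩ | ⟨x, y, z, s, hu, rfl⟩
    · have hs : s ≠ 0 := fun e => hr.centre_ne (by rw [e, zero_smul])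
      have hr' : NRoot L (s • φ) (Pi.single 0 1) :=
        ⟨(root_smul_iff hs).1 hr.root, smul_ne_zero hs hr.axis_ne, by simp⟩
      obtain ⟨l, hl, el⟩ := axis_unique hc.core hc.good hc.side hc.n02 hr'
      refine ⟨Pi.single 0 1, -l, fun i => ?_, by simp, by simp [jvec], k.neg_mem hl, ?_⟩
      · fin_cases i <;> simp
      · rw [Matrix.smul_vecMulVec, ← Matrix.vecMulVec_smul, el, ← Matrix.vecMulVec_smul]
        congr 1
        funext i
        fin_cases i <;> simp [jvec]
    · have hs : s ≠ 0 := fun e => hr.centre_ne (by rw [e, zero_smul])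
      have hr' : NRoot L (s • φ) ![z, y, 1] :=
        ⟨(root_smul_iff hs).1 hr.root, smul_ne_zero hs hr.axis_ne, (hc.rootB hu).centre_ne⟩
      obtain ⟨l, hl, el⟩ := axis_unique hc.core hc.good hc.side (hc.rootB hu) hr'
      obtain ⟨hx, hy⟩ := hlin hu
      refine ⟨![z, y, 1], l, fun i => ?_, (hc.rootB hu).centre_ne, ?_, hl, ?_⟩
      · fin_cases i
        exacts [(hsig hu).1, hy ▸ k2.mul_mem hηk2 (hk2.2 (by rw [hk2.1 hx])), k2.one_mem]
      · rw [hjB hu]; exact (hc.rootB hu).root.dot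
      · rw [Matrix.smul_vecMulVec, ← Matrix.vecMulVec_smul, el, hjB hu, ← Matrix.vecMulVec_smul]

/-- Symmetric type with a field of at least three elements is unitary. -/
theorem unitary_of_noSide [Finite F] (hL : IsCore L) (hT : ¬ NoTransvection L) (hg : Good L k) (hs : NoSide L)
    (hbig : ∃ l ∈ k, l ≠ 0 ∧ l ≠ 1) : ∃ B k2 σ η, UnitaryType (conjL B L) k k2 σ η := by
  obtain ⟨φ, u, hr⟩ := exists_nroot hT
  obtain ⟨ψ, v₀, hc₀, hp₀⟩ := exists_partner_conj hL hr
  have hv₀ := hc₀.nroot hr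
  set a := φ ⬝ᵥ v₀ with ha
  -- the normalised opposite root
  have hβ := hg.prod _ _ _ _ hr hv₀
  have hsc : Root L ((ψ ⬝ᵥ u)⁻¹ • ψ) (a⁻¹ • v₀) := by
    rw [root_smul_iff (inv_ne_zero hp₀.left), smul_smul, ← _root_.mul_inv]
    exact (hg.line _ _ hv₀ _).2 (k.inv_mem hβ)
  obtain ⟨w, hw, hw1, hw2⟩ := exists_common_zero φ ψ
  obtain ⟨C₀, hC₀⟩ := exists_frame hp₀ hr.root.dot hv₀.root.dot hw1 hw2 hw
  have hdet : (colMat u w (a⁻¹ • v₀)).det ≠ 0 := by
    intro h
    obtain ⟨x, hx0, hx⟩ := Matrix.exists_mulVec_eq_zero_iff.2 h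
    rw [colMat_mulVec, smul_smul] at hx
    obtain ⟨a', b', c'⟩ := combination_eq_zero hp₀ hr.root.dot hv₀.root.dot hw1 hw2 hw
      (a := x 0) (b := x 2 * a⁻¹) (c := x 1) (by linear_combination (norm := module) hx)
    refine hx0 (funext fun i => ?_)
    fin_cases i
    exacts [a', c', (mul_eq_zero.1 b').resolve_right (inv_ne_zero hp₀.left)]
  set C := Matrix.GeneralLinearGroup.mkOfDetNeZero _ hdet
  have hC : (C : Matrix (Fin 3) (Fin 3) F) = colMat u w (a⁻¹ • v₀) := rfl
  have e1 : ((C⁻¹ : Matrix.GeneralLinearGroup (Fin 3) F) : Matrix (Fin 3) (Fin 3) F) *ᵥ u = Pi.single 0 1 := by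
    conv_lhs => rw [show u = (C : Matrix (Fin 3) (Fin 3) F) *ᵥ Pi.single 0 1 by rw [hC, colMat_mulVec]; simp]
    exact mulVec_cancel_left C _
  have e2 : ((C⁻¹ : Matrix.GeneralLinearGroup (Fin 3) F) : Matrix (Fin 3) (Fin 3) F) *ᵥ (a⁻¹ • v₀) =
      Pi.single 2 1 := by
    conv_lhs => rw [show a⁻¹ • v₀ = (C : Matrix (Fin 3) (Fin 3) F) *ᵥ Pi.single 2 1 by rw [hC, colMat_mulVec]; simp]
    exact mulVec_cancel_left C _
  have hcoord : Coord (conjL C⁻¹ L) k := by
    refine ⟨hL.conjL _, hg.conjL _, hs.conjL _, ?_, ?_, hbig⟩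
    · have := root_conjL_of (B := C⁻¹) hr.root
      rw [inv_inv, e1] at this
      rw [ERoot]
      convert this using 1
      refine eq_of_dot fun x => ?_
      rw [← Matrix.dotProduct_mulVec, hC, colMat_mulVec]
      simp [dotProduct_add, dotProduct_smul, hr.root.dot, hw1, ← ha, hp₀.left, a]
    · have := root_conjL_of (B := C⁻¹) hsc
      rw [inv_inv, e2] at this
      rw [ERoot]
      convert this using 1
      refine eq_of_dot fun x => ?_
      rw [← Matrix.dotProduct_mulVec, hC, colMat_mulVec]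
      simp [dotProduct_add, dotProduct_smul, hv₀.root.dot, hw2, hp₀.right]
  obtain ⟨x, y, z, hx, hu⟩ := hcoord.exists_x
  have hdD : (Matrix.diagonal (![1, x, 1] : Fin 3 → F)).det ≠ 0 := by
    simp [Matrix.det_diagonal, Fin.prod_univ_succ, hx]
  set D := Matrix.GeneralLinearGroup.mkOfDetNeZero _ hdD
  have hu' : InU (conjL D (conjL C⁻¹ L)) 1 (x * y) z := by
    obtain ⟨g, hg', e⟩ := hu
    refine ⟨D * g * D⁻¹, Subgroup.mem_map_of_mem _ hg', ?_⟩
    rw [Units.val_mul, Units.mul_inv_eq_iff_eq_mul, Units.val_mul, e]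
    ext i j
    fin_cases i <;> fin_cases j <;>
      simp [D, Matrix.GeneralLinearGroup.mkOfDetNeZero, uMat, Matrix.mul_apply, Fin.sum_univ_succ] <;> ring
  obtain ⟨k2, σ, η, h⟩ := (hcoord.conj_diag (D := D) rfl).unitary_of_one hu'
  refine ⟨D * C⁻¹, k2, σ, η, ?_⟩
  convert h using 1
  ext g
  rw [mem_conjL, mem_conjL, mem_conjL, _root_.mul_inv_rev, inv_inv]
  simp only [mul_assoc]

end CfsgLib.Geo.SL3.Trans
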