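/-
Characteristic three: two transvections generating SL(2,5) do not occur.
-/
import Cfsg.Agent.Lib.Geo.SL3.Trans.Symm

set_option autoImplicit false

namespace CfsgLib.Geo.SL3.Trans

open Matrix CfsgLib.Geo.Roots

variable {F : Type*} [Field F] {L : Subgroup (Matrix.GeneralLinearGroup (Fin 3) F)}

/-- The root groups have order three and some pair has product a square root of minus one. -/
structure SmallThree (L : Subgroup (Matrix.GeneralLinearGroup (Fin 3) F)) : Prop where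
  core : IsCore L
  three : (3 : F) = 0
  small : ∀ φ u, NRoot L φ u → Nat.card (lineSet L φ u) = 3

theorem SmallThree.two_ne (h : SmallThree L) : (2 : F) ≠ 0 := fun h2 =>
  one_ne_zero (α := F) (by linear_combination h.three - h2)

theorem SmallThree.line [Finite F] (h : SmallThree L) {φ u : Fin 3 → F} (hr : NRoot L φ u) {l : F}
    (hl : Root L (l • φ) u) : l = 0 ∨ l = 1 ∨ l = -1 := by
  classical
  by_contra hc
  push Not at hc
  have h1 : (({0, 1, -1, l} : Finset F) : Set F) ⊆ lineSet L φ u := by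
    intro x hx
    simp at hx
    rcases hx with rfl | rfl | rfl | rfl
    exacts [(lineSet L φ u).zero_mem, one_mem_lineSet hr.root, (lineSet L φ u).neg_mem (one_mem_lineSet hr.root), hl]
  have hne : (1 : F) ≠ -1 := fun e => h.two_ne (by linear_combination e)
  have h3 := Set.ncard_le_ncard h1
  rw [Set.ncard_coe_finset, ← Nat.card_coe_set_eq, Finset.card_insert_of_notMem (by simp [hc.1.symm]),
    Finset.card_insert_of_notMem (by simp [hne, hc.2.1.symm]), Finset.card_pair hc.2.2.symm] at h3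
  exact absurd (h3.trans (h.small _ _ hr).le) (by norm_num)

theorem SmallThree.value [Fintype F] (h : SmallThree L) {φ u ψ v : Fin 3 → F} (hr : NRoot L φ u)
    (hr' : NRoot L ψ v) :
    φ ⬝ᵥ v * (ψ ⬝ᵥ u) = 0 ∨ (φ ⬝ᵥ v * (ψ ⬝ᵥ u)) ^ 2 = 1 ∨ (φ ⬝ᵥ v * (ψ ⬝ᵥ u)) ^ 2 = -1 := by
  by_cases h0 : φ ⬝ᵥ v * (ψ ⬝ᵥ u) = 0
  · exact Or.inl h0
  by_cases h1 : (φ ⬝ᵥ v * (ψ ⬝ᵥ u)) ^ 2 = -1
  · exact Or.inr (Or.inr h1)
  obtain ⟨k, hk, hk1, -⟩ := pair_field hr hr' ⟨left_ne_zero_of_mul h0, right_ne_zero_of_mul h0⟩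
    (fun h2 => absurd h2 h.two_ne) (fun _ => Or.inr (Or.inr h1))
  rcases h.line hr ((hk1 _).2 hk) with e | e | e
  · exact absurd e h0
  · exact Or.inr (Or.inl (by rw [e, one_pow]))
  · exact Or.inr (Or.inl (by rw [e, neg_one_sq]))

/-- Three admissible values in arithmetic progression contain zero. -/
theorem exists_zero_of_values (h3 : (3 : F) = 0) {x y : F} (hy : y ≠ 0)
    (hv : ∀ j : F, (j = 0 ∨ j = 1 ∨ j = -1) → x + j * y = 0 ∨ (x + j * y) ^ 2 = 1 ∨ (x + j * y) ^ 2 = -1)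
    (hy' : y ^ 2 = 1 ∨ y ^ 2 = -1) : ∃ j : F, (j = 0 ∨ j = 1 ∨ j = -1) ∧ x + j * y = 0 := by
  by_contra! hc
  have v : ∀ j : F, (j = 0 ∨ j = 1 ∨ j = -1) → (x + j * y) ^ 2 = 1 ∨ (x + j * y) ^ 2 = -1 := fun j hj =>
    (hv j hj).resolve_left (hc j hj)
  have h2 : (2 : F) ≠ 0 := fun h2 => one_ne_zero (α := F) (by linear_combination h3 - h2)
  have c0 := hc 0 (Or.inl rfl)
  have cp := hc 1 (Or.inr (Or.inl rfl))
  have cm := hc (-1) (Or.inr (Or.inr rfl))
  have vp := v 1 (Or.inr (Or.inl rfl))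
  have v0 := v 0 (Or.inl rfl)
  simp only [zero_mul, add_zero, one_mul, neg_mul] at c0 cp cm vp v0
  have hsq : x ^ 2 ≠ y ^ 2 := fun e => by
    rcases mul_eq_zero.1 (show (x + y) * (x + -y) = 0 by linear_combination e) with e' | e'
    · exact cp e'
    · exact cm e'
  have hsum : x ^ 2 + y ^ 2 = 0 ∧ (x ^ 2 * y ^ 2 = -1) := by
    rcases v0 with a | a <;> rcases hy' with b | b
    · exact absurd (a.trans b.symm) hsq
    · exact ⟨by linear_combination a + b, by rw [a, b, one_mul]⟩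
    · exact ⟨by linear_combination a + b, by rw [a, b, mul_one]⟩
    · exact absurd (a.trans b.symm) hsq
  obtain ⟨s1, s2⟩ := hsum
  rcases vp with e | e
  · refine h2 ?_
    linear_combination -(2 * x * y + 1) * e + (2 * x * y + 1) * s1 + 4 * s2 - h3
  · refine h2 ?_
    linear_combination -(2 * x * y - 1) * e + (2 * x * y - 1) * s1 + 4 * s2 - h3

theorem SmallThree.root_smul [Finite F] {φ u : Fin 3 → F} (hr : Root L φ u) {j : F}
    (hj : j = 0 ∨ j = 1 ∨ j = -1) : Root L (j • φ) u := by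
  rcases hj with rfl | rfl | rfl
  · rw [zero_smul]; exact Root.zero u
  · rwa [one_smul]
  · rw [neg_one_smul]; exact hr.neg

/-- A second axis gives one killing the centre of a partner. -/
theorem SmallThree.axis_kernel [Fintype F] (h : SmallThree L) {φ u ψ χ v : Fin 3 → F} (hr : NRoot L φ u)
    (hr2 : NRoot L ψ u) (hr' : NRoot L χ v) (hp : Partner φ u χ v) (hind : ∀ a : F, ψ ≠ a • φ) :
    ∃ η, NRoot L η u ∧ η ⬝ᵥ v = 0 := by
  have hnr : ∀ j : F, (j = 0 ∨ j = 1 ∨ j = -1) → NRoot L (ψ + j • φ) u := fun j hj =>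
    ⟨hr2.root.add (SmallThree.root_smul hr.root hj),
      fun e => hind (-j) (by rw [neg_smul]; exact eq_neg_of_add_eq_zero_left e), hr.centre_ne⟩
  obtain ⟨j, hj, hz⟩ := exists_zero_of_values h.three (x := ψ ⬝ᵥ v * (χ ⬝ᵥ u)) (y := φ ⬝ᵥ v * (χ ⬝ᵥ u))
    (mul_ne_zero hp.left hp.right) (fun j hj => by
      have := h.value (hnr j hj) hr'
      rwa [add_dotProduct, smul_dotProduct, smul_eq_mul, add_mul, mul_assoc] at this)
    ((h.value hr hr').resolve_left (mul_ne_zero hp.left hp.right))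
  refine ⟨_, hnr j hj, ?_⟩
  rw [← mul_assoc, ← add_mul, mul_eq_zero] at hz
  rw [add_dotProduct, smul_dotProduct, smul_eq_mul]
  exact hz.resolve_right hp.right

/-- A centre with two axes has only ordinary partners. -/
theorem SmallThree.ordinary [Fintype F] (h : SmallThree L) {φ u ψ χ v : Fin 3 → F} (hr : NRoot L φ u)
    (hr2 : NRoot L ψ u) (hr' : NRoot L χ v) (hp : Partner φ u χ v) (hind : ∀ a : F, ψ ≠ a • φ) :
    φ ⬝ᵥ v * (χ ⬝ᵥ u) = 1 ∨ φ ⬝ᵥ v * (χ ⬝ᵥ u) = -1 := by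
  obtain ⟨η, hη, hv⟩ := h.axis_kernel hr hr2 hr' hp hind
  exact (h.line hη (kernel_root hr.root hη.root hr'.root hv)).resolve_left (mul_ne_zero hp.left hp.right)

/-- No centre has two axes. -/
theorem SmallThree.one_axis [Fintype F] (h : SmallThree L) {φ₀ u₀ ψ₀ v₀ : Fin 3 → F} (h₀ : NRoot L φ₀ u₀)
    (h₀' : NRoot L ψ₀ v₀) (hex : (φ₀ ⬝ᵥ v₀ * (ψ₀ ⬝ᵥ u₀)) ^ 2 = -1) {φ u ψ : Fin 3 → F} (hr : NRoot L φ u)
    (hr2 : NRoot L ψ u) : ∃ a : F, ψ = a • φ := by
  by_contra hind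
  push Not at hind
  have hp₀ : Partner φ₀ u₀ ψ₀ v₀ := by
    have hne : φ₀ ⬝ᵥ v₀ * (ψ₀ ⬝ᵥ u₀) ≠ 0 := fun e => by
      rw [e, zero_pow two_ne_zero] at hex
      exact neg_ne_zero.2 one_ne_zero hex.symm
    exact ⟨left_ne_zero_of_mul hne, right_ne_zero_of_mul hne⟩
  obtain ⟨φ', u', hc, hp⟩ := exists_partner_of h.core h₀ hr
  obtain ⟨g, hg, rfl, rfl⟩ := hc
  have hτ := hr.conj hg
  have hτ2 := hr2.conj hg
  have hind' : ∀ a : F, ψ ᵥ* ((g⁻¹ : Matrix.GeneralLinearGroup (Fin 3) F) : Matrix (Fin 3) (Fin 3) F) ≠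
      a • (φ ᵥ* ((g⁻¹ : Matrix.GeneralLinearGroup (Fin 3) F) : Matrix (Fin 3) (Fin 3) F)) := fun a e => by
    rw [← Matrix.smul_vecMul] at e
    refine hind a ?_
    have := congrArg (fun w => w ᵥ* (g : Matrix (Fin 3) (Fin 3) F)) e
    simpa [Matrix.vecMul_vecMul] using this
  set φ' := φ ᵥ* ((g⁻¹ : Matrix.GeneralLinearGroup (Fin 3) F) : Matrix (Fin 3) (Fin 3) F)
  set ψ' := ψ ᵥ* ((g⁻¹ : Matrix.GeneralLinearGroup (Fin 3) F) : Matrix (Fin 3) (Fin 3) F)
  set u' := (g : Matrix (Fin 3) (Fin 3) F) *ᵥ u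
  obtain ⟨j, hj, hjy⟩ : ∃ j : F, (j = 1 ∨ j = -1) ∧ φ' ⬝ᵥ u₀ * ((j • φ₀) ⬝ᵥ u') = -1 := by
    rcases h.ordinary hτ hτ2 h₀ hp.symm hind' with e | e
    · exact ⟨-1, Or.inr rfl, by simp [smul_dotProduct, e]⟩
    · exact ⟨1, Or.inl rfl, by simp [smul_dotProduct, e]⟩
  have hj0 : j ≠ 0 := by rcases hj with rfl | rfl <;> simp
  have hb := braid hτ.root (SmallThree.root_smul h₀.root (Or.inr hj)) hjy
  obtain ⟨m, hm, e1, e2⟩ := hb
  have h2 := hτ2.conj hm
  rw [e2] at h2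
  set s := (j • φ₀) ⬝ᵥ u'
  have hs : s ≠ 0 := fun e => by
    rw [e, mul_zero] at hjy
    exact neg_ne_zero.2 one_ne_zero hjy.symm
  have hnew : NRoot L (s • (ψ' ᵥ* ((m⁻¹ : Matrix.GeneralLinearGroup (Fin 3) F) : Matrix (Fin 3) (Fin 3) F))) u₀ :=
    ⟨(root_smul_iff hs).1 h2.root, smul_ne_zero hs h2.axis_ne, h₀.centre_ne⟩
  have := h.ordinary h₀ hnew h₀' hp₀ fun a e => by
    have e' := congrArg (fun w => s⁻¹ • (w ᵥ* (m : Matrix (Fin 3) (Fin 3) F))) e
    simp only [Matrix.smul_vecMul, Matrix.vecMul_vecMul, Units.inv_mul, Matrix.vecMul_one, smul_smul,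
      inv_mul_cancel₀ hs, one_smul] at e'
    -- pull the axis back
    have e3 := congrArg (fun w => w ᵥ* (m : Matrix (Fin 3) (Fin 3) F)) e1
    simp only [Matrix.vecMul_vecMul, Units.inv_mul, Matrix.vecMul_one, Matrix.smul_vecMul] at e3
    obtain ⟨q, hq⟩ : ∃ q, q = -(φ' ⬝ᵥ u₀) * j := ⟨_, rfl⟩
    rw [smul_smul, ← hq] at e3
    have hq0 : q ≠ 0 := fun h => hτ.axis_ne (by rw [e3, h, zero_smul])
    have e4 : φ₀ ᵥ* (m : Matrix (Fin 3) (Fin 3) F) = q⁻¹ • φ' := by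
      rw [e3, smul_smul, inv_mul_cancel₀ hq0, one_smul]
    refine hind' (s⁻¹ * a * q⁻¹) ?_
    rw [e', e4, smul_smul]
  rcases this with e | e <;> rw [e] at hex <;> exact h.two_ne (by linear_combination hex)

theorem SmallThree.noSide [Fintype F] (h : SmallThree L) {φ₀ u₀ ψ₀ v₀ : Fin 3 → F} (h₀ : NRoot L φ₀ u₀)
    (h₀' : NRoot L ψ₀ v₀) (hex : (φ₀ ⬝ᵥ v₀ * (ψ₀ ⬝ᵥ u₀)) ^ 2 = -1) : NoSide L := by
  intro φ u χ c hr hr' h0
  by_contra h1
  have h3 : NRoot L (-(χ ⬝ᵥ u) • φ) c :=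
    ⟨hr.root.comm hr'.root h0, smul_ne_zero (neg_ne_zero.2 h1) hr.axis_ne, hr'.centre_ne⟩
  obtain ⟨a, ha⟩ := h.one_axis h₀ h₀' hex hr' h3
  have := congrArg (fun α => α ⬝ᵥ u) ha
  simp [smul_dotProduct, hr.root.dot] at this
  rcases this with rfl | e
  · exact h3.axis_ne (by rw [ha, zero_smul])
  · exact h1 e

theorem SmallThree.partner_of_centres [Fintype F] (h : SmallThree L) (hs : NoSide L) {φ u χ c : Fin 3 → F}
    (hr : NRoot L φ u) (hr' : NRoot L χ c) (hne : ∀ a : F, c ≠ a • u) : Partner φ u χ c := by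
  by_contra hnp
  have h0 : φ ⬝ᵥ c = 0 ∧ χ ⬝ᵥ u = 0 := by
    by_cases h1 : φ ⬝ᵥ c = 0
    · exact ⟨h1, hs _ _ _ _ hr hr' h1⟩
    · by_cases h2 : χ ⬝ᵥ u = 0
      · exact absurd (hs _ _ _ _ hr' hr h2) h1
      · exact absurd ⟨h1, h2⟩ hnp
  obtain ⟨ψ, v, hc, hp⟩ := exists_partner_conj h.core hr
  have hv := hc.nroot hr
  obtain ⟨w, hw, hw1, hw2⟩ := exists_common_zero φ ψ
  obtain ⟨C, hC⟩ := exists_frame hp hr.root.dot hv.root.dot hw1 hw2 hw
  set x := ((C⁻¹ : Matrix.GeneralLinearGroup (Fin 3) F) : Matrix (Fin 3) (Fin 3) F) *ᵥ c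
  have hx : c = x 0 • u + x 1 • v + x 2 • w := by rw [← colMat_mulVec, ← hC, mulVec_cancel_right]
  have hx1 : x 1 = 0 := by
    have := h0.1
    rw [hx] at this
    simp only [dotProduct_add, dotProduct_smul, hr.root.dot, hw1, smul_eq_mul, mul_zero, zero_add,
      add_zero] at this
    exact (mul_eq_zero.1 this).resolve_right hp.left
  rw [hx1, zero_smul, add_zero] at hx
  have hx2 : x 2 ≠ 0 := fun e => hne _ (by rw [hx, e, zero_smul, add_zero])
  have hχw : χ ⬝ᵥ w = 0 := by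
    have := hr'.root.dot
    rw [hx] at this
    simpa [dotProduct_add, dotProduct_smul, h0.2, hx2] using this
  have hχ : χ = (χ ⬝ᵥ v / (φ ⬝ᵥ v)) • φ := by
    refine sub_eq_zero.1 (eq_zero_of_frame hp hr.root.dot hv.root.dot hw1 hw2 hw ?_ ?_ ?_)
    · simp [sub_dotProduct, smul_dotProduct, h0.2, hr.root.dot]
    · simp [sub_dotProduct, smul_dotProduct, hp.left]
    · simp [sub_dotProduct, smul_dotProduct, hχw, hw1]
  set t := χ ⬝ᵥ v / (φ ⬝ᵥ v)
  have ht : t ≠ 0 := fun e => hr'.axis_ne (by rw [hχ, e, zero_smul])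
  have h1 : Root L φ (t • c) := (root_smul_iff ht).2 (hχ ▸ hr'.root)
  have h2 : ∀ j : F, (j = 0 ∨ j = 1 ∨ j = -1) → NRoot L φ (t • c + j • u) := by
    intro j hj
    refine ⟨?_, hr.axis_ne, fun e => ?_⟩
    · by_cases hj0 : j = 0
      · rwa [hj0, zero_smul, add_zero]
      · exact CfsgLib.Geo.SubfieldMax.root_add_centre h1
          ((root_smul_iff hj0).2 (SmallThree.root_smul hr.root hj))
    · refine hne (-(t⁻¹ * j)) ?_
      have e' : t • c = -(j • u) := eq_neg_of_add_eq_zero_left e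
      rw [neg_smul, mul_smul, ← smul_neg, ← e', smul_smul, inv_mul_cancel₀ ht, one_smul]
  have eval : ∀ j : F, φ ⬝ᵥ v * (ψ ⬝ᵥ (t • c)) + j * (φ ⬝ᵥ v * (ψ ⬝ᵥ u)) = φ ⬝ᵥ v * (ψ ⬝ᵥ (t • c + j • u)) := by
    intro j
    simp only [dotProduct_add, dotProduct_smul, smul_eq_mul]; ring
  obtain ⟨j, hj, hz⟩ := exists_zero_of_values h.three (x := φ ⬝ᵥ v * (ψ ⬝ᵥ (t • c)))
    (y := φ ⬝ᵥ v * (ψ ⬝ᵥ u)) (mul_ne_zero hp.left hp.right) (fun j hj => by
      rw [eval]
      exact h.value (h2 j hj) hv)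
    ((h.value hr hv).resolve_left (mul_ne_zero hp.left hp.right))
  rw [eval, mul_eq_zero] at hz
  exact hp.left (hs _ _ _ _ hv (h2 j hj) (hz.resolve_left hp.left))

/-- Arithmetic of the field with nine elements. -/
def mulNine (a b : ZMod 3 × ZMod 3) : ZMod 3 × ZMod 3 := (a.1 * b.1 - a.2 * b.2, a.1 * b.2 + a.2 * b.1)

/-- The points of the projective line. -/
def pointsNine : List ((ZMod 3 × ZMod 3) × (ZMod 3 × ZMod 3)) :=
  [((1, 0), (0, 0)), ((0, 0), (1, 0)), ((1, 0), (1, 0)), ((-1, 0), (1, 0)), ((1, 0), (0, 1)), ((1, 0), (0, -1)),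
    ((1, 1), (0, 1)), ((1, -1), (0, 1)), ((1, -1), (0, -1)), ((1, 1), (0, -1))]

/-- The non-zero squares. -/
def isSquareNine (a : ZMod 3 × ZMod 3) : Bool :=
  a == (1, 0) || a == (-1, 0) || a == (0, 1) || a == (0, -1)

/-- A binary quadratic form. -/
def formNine (A B C : ZMod 3 × ZMod 3) (p : (ZMod 3 × ZMod 3) × (ZMod 3 × ZMod 3)) : ZMod 3 × ZMod 3 :=
  mulNine A (mulNine p.1 p.1) + mulNine B (mulNine p.1 p.2) + mulNine C (mulNine p.2 p.2)

/-- A binary form over the field with nine elements takes a non-square value. -/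
theorem formNine_check : ∀ A B C : ZMod 3 × ZMod 3,
    pointsNine.all (fun p => isSquareNine (formNine A B C p)) = false := by
  decide +kernel

/-- The exceptional configuration does not occur. -/
theorem SmallThree.false_of_pair [Fintype F] (h : SmallThree L) {φ u ψ v : Fin 3 → F} (hr : NRoot L φ u)
    (hr' : NRoot L ψ v) (hex : (φ ⬝ᵥ v * (ψ ⬝ᵥ u)) ^ 2 = -1) : False := by
  classical
  haveI : CharP F 3 := CharP.charP_iff_prime_eq_zero Nat.prime_three |>.2 (by exact_mod_cast h.three)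
  have hs := h.noSide hr hr' hex
  set lam := φ ⬝ᵥ v * (ψ ⬝ᵥ u) with hlam
  have hlam0 : lam ≠ 0 := fun e => by
    rw [e, zero_pow two_ne_zero] at hex
    exact neg_ne_zero.2 one_ne_zero hex.symm
  have hp : Partner φ u ψ v := ⟨left_ne_zero_of_mul hlam0, right_ne_zero_of_mul hlam0⟩
  -- normalise
  obtain ⟨w, hw, hw1, hw2⟩ := exists_common_zero φ ψ
  have ha := hp.left
  obtain ⟨C, hC⟩ := exists_frame (φ := φ) (u := u) (ψ := ψ) (v := (φ ⬝ᵥ v)⁻¹ • v)
    ⟨by simp [dotProduct_smul, ha], hp.right⟩ hr.root.dot (by simp [dotProduct_smul, hr'.root.dot]) hw1 hw2 hw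
  set L' := conjL C⁻¹ L
  have h' : SmallThree L' := ⟨h.core.conjL _, h.three, fun α a hα => by
    rw [← h.small _ _ (nroot_conjL.1 hα)]
    refine congrArg (fun A : AddSubgroup F => Nat.card A) (AddSubgroup.ext fun l => ?_)
    rw [mem_lineSet, mem_lineSet, root_conjL, Matrix.smul_vecMul]⟩
  have hs' := hs.conjL C⁻¹
  have tr : ∀ {α a β b : Fin 3 → F}, NRoot L α a → α ᵥ* (C : Matrix (Fin 3) (Fin 3) F) = β →
      (C : Matrix (Fin 3) (Fin 3) F) *ᵥ b = a → NRoot L' β b := by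
    intro α a β b hα e1 e2
    rw [nroot_conjL, inv_inv, ← e1, Matrix.vecMul_vecMul, Units.mul_inv, Matrix.vecMul_one, e2]
    exact hα
  have ra : NRoot L' ![0, 1, 0] ![1, 0, 0] := by
    refine tr hr (eq_of_dot fun x => ?_) (by rw [hC, colMat_mulVec]; simp)
    rw [← Matrix.dotProduct_mulVec, hC, colMat_mulVec]
    simp only [dotProduct_add, dotProduct_smul, hr.root.dot, hw1, smul_eq_mul, inv_mul_cancel₀ ha, mul_zero, mul_one]
    simp [Matrix.vecHead, Matrix.vecTail]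
  have rb : NRoot L' ![lam, 0, 0] ![0, 1, 0] := by
    have hsc : NRoot L ((φ ⬝ᵥ v) • ψ) ((φ ⬝ᵥ v)⁻¹ • v) := by
      refine ⟨?_, smul_ne_zero ha hr'.axis_ne, smul_ne_zero (inv_ne_zero ha) hr'.centre_ne⟩
      rw [root_smul_iff (inv_ne_zero ha), smul_smul, inv_mul_cancel₀ ha, one_smul]
      exact hr'.root
    refine tr hsc (eq_of_dot fun x => ?_) (by rw [hC, colMat_mulVec]; simp)
    rw [← Matrix.dotProduct_mulVec, hC, colMat_mulVec]
    simp only [dotProduct_add, dotProduct_smul, smul_dotProduct, hr'.root.dot, hw2, smul_eq_mul, mul_zero, add_zero]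
    simp [hlam, Matrix.vecHead, Matrix.vecTail]
    ring
  -- a centre off the line
  obtain ⟨c, ⟨χ, hχ⟩, hd⟩ := exists_dot_ne_left h'.core (P := fun c => ∃ χ, NRoot L' χ c)
    (fun g hg c ⟨χ, hc⟩ => ⟨_, hc.conj hg⟩) ⟨_, ⟨_, ra⟩, ra.centre_ne⟩ (φ := Pi.single 2 1) (by simp)
  simp only [single_dotProduct, one_mul] at hd
  -- the embedding of the field with nine elements
  let c3 := ZMod.castHom (dvd_refl 3) F
  let emb : ZMod 3 × ZMod 3 → F := fun a => c3 a.1 + c3 a.2 * lam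
  have hl2 : lam * lam = -1 := by rw [← sq]; exact hex
  have emul : ∀ a b, emb (mulNine a b) = emb a * emb b := fun a b => by
    simp only [emb, mulNine, map_sub, map_add, map_mul]
    linear_combination -(c3 a.2 * c3 b.2) * hl2
  have eadd : ∀ a b, emb (a + b) = emb a + emb b := fun a b => by
    simp only [emb, Prod.fst_add, Prod.snd_add, map_add]; ring
  have einj : ∀ a, emb a = 0 → a = 0 := by
    have key : ∀ a b : ZMod 3, a * a + b * b = 0 → a = 0 ∧ b = 0 := by decide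
    rintro ⟨a, b⟩ e
    simp only [emb] at e
    have e2 : c3 (a * a + b * b) = 0 := by
      rw [map_add, map_mul, map_mul]
      linear_combination (c3 a - c3 b * lam) * e + (c3 b * c3 b) * hl2
    obtain ⟨r1, r2⟩ := key a b (c3.injective (by rw [e2, map_zero]))
    rw [r1, r2]; rfl
  have einj' : ∀ a b, emb a = emb b → a = b := fun a b e => by
    refine sub_eq_zero.1 (einj _ ?_)
    have := eadd (a - b) b
    rw [sub_add_cancel] at this
    linear_combination -this + e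
  have sq1 : ∀ {t : F}, t ^ 2 = 1 ∨ t ^ 2 = -1 → ∃ a, isSquareNine a = true ∧ emb a = t := by
    intro t ht
    rcases ht with e | e
    · rcases mul_eq_zero.1 (show (t - 1) * (t + 1) = 0 by linear_combination e) with e' | e'
      · exact ⟨(1, 0), rfl, by simp [emb, sub_eq_zero.1 e']⟩
      · exact ⟨(-1, 0), rfl, by simp [emb, eq_neg_of_add_eq_zero_left e']⟩
    · rcases mul_eq_zero.1 (show (t - lam) * (t + lam) = 0 by linear_combination e - hl2) with e' | e'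
      · exact ⟨(0, 1), rfl, by simp [emb, sub_eq_zero.1 e']⟩
      · exact ⟨(0, -1), rfl, by simp [emb, eq_neg_of_add_eq_zero_left e']⟩
  let f : F → F → F := fun x y => (χ 0 * x + χ 1 * y) * (x * c 1 - y * c 0)
  have val : ∀ {s x y : F}, (s ^ 2 = 1 ∨ s ^ 2 = -1) → NRoot L' ![-(s * y), s * x, 0] ![x, y, 0] →
      (f x y) ^ 2 = 1 ∨ (f x y) ^ 2 = -1 := by
    intro s x y hs2 hrt
    have hne : ∀ a : F, c ≠ a • ![x, y, 0] := fun a e => hd (by rw [e]; simp)
    have hpp := h'.partner_of_centres hs' hrt hχ hne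
    have hv := (h'.value hrt hχ).resolve_left (mul_ne_zero hpp.left hpp.right)
    have e : (![-(s * y), s * x, 0] ⬝ᵥ c) * (χ ⬝ᵥ ![x, y, 0]) = s * f x y := by
      simp [f, dotProduct, Fin.sum_univ_succ]; ring
    rw [e, mul_pow] at hv
    rcases hs2 with q | q <;> rw [q] at hv <;> rcases hv with q' | q'
    · exact Or.inl (by linear_combination q')
    · exact Or.inr (by linear_combination q')
    · exact Or.inr (by linear_combination -q')
    · exact Or.inl (by linear_combination -q')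
  have cj : ∀ {α a β b : Fin 3 → F}, NRoot L' α a → NRoot L' β b → ∀ {j : F}, (j = 1 ∨ j = -1) →
      NRoot L' (α - (α ⬝ᵥ b) • (j • β)) (a + ((j • β) ⬝ᵥ a) • b) := fun {α a β b} hα hβ {j} hj =>
    ((IsConjRoot.refl _ _).trans_root (SmallThree.root_smul hβ.root (Or.inr hj))).nroot hα
  have one2 : (1 : F) ^ 2 = 1 ∨ (1 : F) ^ 2 = -1 := Or.inl (one_pow 2)
  have lam2 : (-lam) ^ 2 = 1 ∨ (-lam) ^ 2 = -1 := Or.inr (by rw [neg_sq]; exact hex)
  have v10 : (f 1 0) ^ 2 = 1 ∨ (f 1 0) ^ 2 = -1 := val (x := 1) (y := 0) one2 (by convert ra using 1; simp)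
  have v01 : (f 0 1) ^ 2 = 1 ∨ (f 0 1) ^ 2 = -1 := val (x := 0) (y := 1) lam2 (by convert rb using 1; simp)
  have vr : ∀ r : F, (r = 1 ∨ r = -1) → (f r 1) ^ 2 = 1 ∨ (f r 1) ^ 2 = -1 := fun r hr2 =>
    val (x := r) (y := 1) lam2 (by
      convert cj rb ra hr2 using 1
      · funext i; fin_cases i <;> simp [dotProduct, Fin.sum_univ_succ] <;> ring
      · funext i; fin_cases i <;> simp [dotProduct, Fin.sum_univ_succ])
  have rs : ∀ s : F, (s = 1 ∨ s = -1) → NRoot L' ![-(s * lam), 1, 0] ![1, s * lam, 0] := fun s hs2 => by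
    convert cj ra rb hs2 using 1
    · funext i; fin_cases i <;> simp [dotProduct, Fin.sum_univ_succ]
    · funext i; fin_cases i <;> simp [dotProduct, Fin.sum_univ_succ]
  have vs : ∀ s : F, (s = 1 ∨ s = -1) → (f 1 (s * lam)) ^ 2 = 1 ∨ (f 1 (s * lam)) ^ 2 = -1 := fun s hs2 =>
    val one2 (by convert rs s hs2 using 1; simp)
  have vrs : ∀ r s : F, (r = 1 ∨ r = -1) → (s = 1 ∨ s = -1) →
      (f (1 + r * (s * lam)) (s * lam)) ^ 2 = 1 ∨ (f (1 + r * (s * lam)) (s * lam)) ^ 2 = -1 := fun r s hr2 hs2 =>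
    val one2 (by
      convert cj (rs s hs2) ra hr2 using 1
      · funext i; fin_cases i <;> simp [dotProduct, Fin.sum_univ_succ] <;> ring
      · funext i; fin_cases i <;> simp [dotProduct, Fin.sum_univ_succ])
  obtain ⟨A, -, eA⟩ := sq1 v10
  obtain ⟨C', -, eC⟩ := sq1 v01
  obtain ⟨S, -, eS⟩ := sq1 (vr 1 (Or.inl rfl))
  have eB : emb (S - A - C') = χ 1 * c 1 - χ 0 * c 0 := by
    have e1 := eadd (S - A - C') C'
    have e2 := eadd (S - A) A
    rw [sub_add_cancel] at e1 e2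
    simp only [f] at eA eC eS
    linear_combination -e1 - e2 + eS - eA - eC
  have eform : ∀ p, emb (formNine A (S - A - C') C' p) = f (emb p.1) (emb p.2) := fun p => by
    simp only [formNine, eadd, emul, eA, eB, eC, f]; ring
  have one' : emb (1, 0) = 1 := by simp [emb]
  have zero' : emb (0, 0) = 0 := by simp [emb]
  have m1 : emb (-1, 0) = -1 := by simp [emb]
  have i1 : emb (0, 1) = 1 * lam := by simp [emb]
  have i2 : emb (0, -1) = -1 * lam := by simp [emb]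
  have p1 : emb (1, 1) = 1 + 1 * (1 * lam) := by simp [emb]
  have p2 : emb (1, -1) = 1 + -1 * (1 * lam) := by simp [emb]
  have p3 : emb (1, -1) = 1 + 1 * (-1 * lam) := by simp [emb]
  have p4 : emb (1, 1) = 1 + -1 * (-1 * lam) := by simp [emb]
  have hok : ∀ p, ((f (emb p.1) (emb p.2)) ^ 2 = 1 ∨ (f (emb p.1) (emb p.2)) ^ 2 = -1) →
      isSquareNine (formNine A (S - A - C') C' p) = true := fun p hp => by
    obtain ⟨a, ha, ea⟩ := sq1 hp
    rw [einj' _ _ ((eform p).trans ea.symm)]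
    exact ha
  have hall : pointsNine.all (fun p => isSquareNine (formNine A (S - A - C') C' p)) = true := by
    rw [List.all_eq_true]
    intro p hpm
    refine hok p ?_
    simp only [pointsNine, List.mem_cons, List.not_mem_nil, or_false] at hpm
    rcases hpm with rfl | rfl | rfl | rfl | rfl | rfl | rfl | rfl | rfl | rfl
    · rw [one', zero']; exact v10
    · rw [one', zero']; exact v01
    · rw [one']; exact vr 1 (Or.inl rfl)
    · rw [one', m1]; exact vr (-1) (Or.inr rfl)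
    · rw [one', i1]; exact vs 1 (Or.inl rfl)
    · rw [one', i2]; exact vs (-1) (Or.inr rfl)
    · rw [p1, i1]; exact vrs 1 1 (Or.inl rfl) (Or.inl rfl)
    · rw [p2, i1]; exact vrs (-1) 1 (Or.inr rfl) (Or.inl rfl)
    · rw [p3, i2]; exact vrs 1 (-1) (Or.inl rfl) (Or.inr rfl)
    · rw [p4, i2]; exact vrs (-1) (-1) (Or.inr rfl) (Or.inr rfl)
  exact Bool.false_ne_true ((formNine_check A (S - A - C') C').symm.trans hall)

end CfsgLib.Geo.SL3.Trans
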