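/-
Characteristic two: auxiliary facts on groups of order 168, D8 and products of two transvections.
-/
import Cfsg.Agent.Lib.Geo.SL3.Trans.Unipotent
import Mathlib.GroupTheory.SpecificGroups.Dihedral
import Mathlib.GroupTheory.SpecificGroups.Alternating

set_option autoImplicit false

namespace CfsgLib.Geo.SL3.Trans

open Matrix CfsgLib.Geo.Roots CfsgLib.Classical CfsgLib.Geo.SLTwoGen
open scoped MatrixGroups commutatorElement

variable {F : Type*} [Field F] {L : Subgroup (Matrix.GeneralLinearGroup (Fin 3) F)}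

/-- In a simple group of order 168 no element of order seven is inverted. -/
theorem not_inverted_seven {G : Type*} [Group G] [Finite G] [IsSimpleGroup G] (hc : Nat.card G = 168) {y t : G}
    (hy : orderOf y = 7) (ht : orderOf t = 2) (h : t * y * t⁻¹ = y⁻¹) : False := by
  haveI : Fact (Nat.Prime 7) := ⟨by norm_num⟩
  have h7 : Nat.card (Subgroup.zpowers y) = 7 := by rw [Nat.card_zpowers, hy]
  have hfac : (168 : ℕ).factorization 7 = 1 := by
    rw [show (168 : ℕ) = 7 ^ 1 * 24 by norm_num, Nat.factorization_mul (by norm_num) (by norm_num), Finsupp.add_apply,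
      Nat.Prime.factorization_pow (by norm_num), Nat.factorization_eq_zero_of_not_dvd (show ¬ 7 ∣ 24 by decide)]
    simp
  let P : Sylow 7 G := Sylow.ofCard (Subgroup.zpowers y) (by rw [h7, hc, hfac, pow_one])
  have hP : (P : Subgroup G) = Subgroup.zpowers y := rfl
  have h1 := card_sylow_modEq_one 7 G
  have h2 : Nat.card (Sylow 7 G) ∣ 24 := by
    have h3 := P.card_dvd_index
    have h4 := Subgroup.card_mul_index (P : Subgroup G)
    rw [hP, h7, hc] at h4
    rw [hP] at h3
    exact (show (Subgroup.zpowers y).index = 24 by omega) ▸ h3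
  have hidx : (Subgroup.normalizer (P : Set G)).index = 8 := by
    rw [← P.card_eq_index_normalizer]
    have hle := Nat.le_of_dvd (by norm_num) h2
    have hmod : Nat.card (Sylow 7 G) % 7 = 1 := h1
    have hne : Nat.card (Sylow 7 G) ≠ 1 := by
      intro e
      have hN : Subgroup.normalizer (P : Set G) = ⊤ :=
        Subgroup.index_eq_one.1 (by rw [← P.card_eq_index_normalizer, e])
      have hN' : ((P : Subgroup G)).Normal := Subgroup.normalizer_eq_top_iff.1 hN
      rcases Subgroup.Normal.eq_bot_or_eq_top hN' with e' | e'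
      · rw [hP, ← Subgroup.card_eq_one, h7] at e'; omega
      · rw [hP] at e'
        rw [e', Subgroup.card_top, hc] at h7; omega
    interval_cases (Nat.card (Sylow 7 G)) <;> omega
  have hmem : t ∈ Subgroup.normalizer (P : Set G) := by
    show t ∈ Subgroup.normalizer ((Subgroup.zpowers y : Subgroup G) : Set G)
    rw [Subgroup.mem_normalizer_iff]
    intro z
    have key : ∀ z ∈ Subgroup.zpowers y, t * z * t⁻¹ ∈ Subgroup.zpowers y := by
      intro z hz
      obtain ⟨n, rfl⟩ := Subgroup.mem_zpowers_iff.1 hz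
      rw [← MulAut.conj_apply, map_zpow, MulAut.conj_apply, h]
      exact Subgroup.zpow_mem _ (Subgroup.inv_mem _ (Subgroup.mem_zpowers y)) n
    refine ⟨key z, fun hz => ?_⟩
    have ht2 : t⁻¹ = t := inv_eq_of_mul_eq_one_right (by rw [← sq, ← ht, pow_orderOf_eq_one])
    have := key _ hz
    rw [ht2] at this
    rwa [show t * (t * z * t) * t = (t * t) * z * (t * t) by group, show t * t = 1 by
      rw [← sq, ← ht, pow_orderOf_eq_one], one_mul, mul_one] at this
  have h21 := Subgroup.card_mul_index (Subgroup.normalizer (P : Set G))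
  rw [hidx, hc] at h21
  have hdvd : 2 ∣ Nat.card (Subgroup.normalizer (P : Set G)) := by
    rw [← ht, ← Subgroup.orderOf_mk t hmem]
    exact orderOf_dvd_natCard _
  omega

/-- Unitriangular matrices over the field with two elements. -/
abbrev Tri := ZMod 2 × ZMod 2 × ZMod 2

/-- Their product. -/
def triMul (a b : Tri) : Tri := (a.1 + b.1, a.2.1 + b.2.1, a.2.2 + b.2.2 + a.1 * b.2.1)

/-- The dihedral group of order eight as unitriangular matrices. -/
def triOf : DihedralGroup 4 → Tri
  | .r i => if i = 0 then (0, 0, 0) else if i = 1 then (1, 1, 1) else if i = 2 then (0, 0, 1) else (1, 1, 0)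
  | .sr i => if i = 0 then (1, 0, 0) else if i = 1 then (0, 1, 0) else if i = 2 then (1, 0, 1) else (0, 1, 1)

theorem triOf_facts : (∀ a b, triOf (a * b) = triMul (triOf a) (triOf b)) ∧ (∀ a b, triOf a = triOf b → a = b) ∧
    ∀ t : Tri, ∃ a, triOf a = t := by
  refine ⟨?_, ?_, ?_⟩ <;> decide +kernel

/-- The powers of a product of two transvections of the plane. -/
theorem pow_pair [CharP F 2] (M : SL(2, F)) (m : ℕ) :
    ∃ α β : F, (M ^ m : SL(2, F)).1 = α • M.1 + β • (1 : Matrix (Fin 2) (Fin 2) F) := by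
  induction m with
  | zero => exact ⟨0, 1, by simp⟩
  | succ m ih =>
    obtain ⟨α, β, e⟩ := ih
    refine ⟨α * (M.1 0 0 + M.1 1 1) + β, α, ?_⟩
    rw [pow_succ, Matrix.SpecialLinearGroup.coe_mul, e]
    have hd : M.1 0 0 * M.1 1 1 - M.1 0 1 * M.1 1 0 = 1 := by rw [← Matrix.det_fin_two]; exact M.2
    have h2 : (2 : F) = 0 := CharTwo.two_eq_zero
    ext i j
    fin_cases i <;> fin_cases j <;> simp [Matrix.mul_apply, Fin.sum_univ_two]
    · linear_combination -α * hd - α * h2
    · ring
    · ring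
    · linear_combination -α * hd - α * h2

/-- The order of such a product is odd. -/
theorem pow_eq_one_of_sq [CharP F 2] (M : SL(2, F)) (h01 : M.1 0 1 ≠ 0) (htr : M.1 0 0 + M.1 1 1 ≠ 0) {m : ℕ}
    (h : M ^ (2 * m) = 1) : M ^ m = 1 := by
  obtain ⟨α, β, e⟩ := pow_pair M m
  have hd : M.1 0 0 * M.1 1 1 - M.1 0 1 * M.1 1 0 = 1 := by rw [← Matrix.det_fin_two]; exact M.2
  have h2 : (2 : F) = 0 := CharTwo.two_eq_zero
  rw [mul_comm, pow_mul, sq] at h
  have h' := congrArg (fun X : SL(2, F) => X.1) h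
  simp only [Matrix.SpecialLinearGroup.coe_mul, e, Matrix.SpecialLinearGroup.coe_one] at h'
  have e01 := congrFun (congrFun h' 0) 1
  have e00 := congrFun (congrFun h' 0) 0
  simp [Matrix.mul_apply, Fin.sum_univ_two] at e01 e00
  have hα : α = 0 := by
    have h0 : α * α * (M.1 0 0 + M.1 1 1) * M.1 0 1 = 0 := by linear_combination e01 - α * β * M.1 0 1 * h2
    simpa [h01, htr] using h0
  subst hα
  have hβ : β = 1 := by
    refine frobenius_inj F 2 ?_
    rw [frobenius_def, frobenius_def, one_pow]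
    linear_combination e00
  apply Subtype.ext
  rw [e, hβ, Matrix.SpecialLinearGroup.coe_one]
  simp

/-- Orders one, three and five force the trace. -/
theorem trace_of_pow [CharP F 2] (M : SL(2, F)) (h01 : M.1 0 1 ≠ 0) (htr : M.1 0 0 + M.1 1 1 ≠ 0) :
    M ≠ 1 ∧ (M ^ 3 = 1 → M.1 0 0 + M.1 1 1 = 1) ∧
      (M ^ 5 = 1 → (M.1 0 0 + M.1 1 1) ^ 2 + (M.1 0 0 + M.1 1 1) + 1 = 0) := by
  have hd : M.1 0 0 * M.1 1 1 - M.1 0 1 * M.1 1 0 = 1 := by rw [← Matrix.det_fin_two]; exact M.2
  have h2 : (2 : F) = 0 := CharTwo.two_eq_zero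
  refine ⟨fun h => h01 ?_, fun h => ?_, fun h => ?_⟩
  · rw [h]; simp
  all_goals
    simp only [pow_succ, pow_zero, one_mul] at h
    have e := congrFun (congrFun (congrArg (fun X : SL(2, F) => X.1) h) 0) 1
    simp [Matrix.mul_apply, Fin.sum_univ_two] at e
    set a := M.1 0 0
    set b := M.1 0 1
    set c := M.1 1 0
    set d := M.1 1 1
  · have h0 : ((a + d) ^ 2 + 1) * b = 0 := by linear_combination e + b * hd + b * h2
    refine frobenius_inj F 2 ?_
    rw [frobenius_def, frobenius_def, one_pow]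
    linear_combination (mul_eq_zero.1 h0).resolve_right h01 - h2
  · have h0 : ((a + d) ^ 4 + (a + d) ^ 2 + 1) * b = 0 := by
      linear_combination e + (3 * (a + d) ^ 2 + 1 - (a * d - b * c)) * b * hd - (1 + (a + d) ^ 2) * b * h2 +
        (2 * (a + d) ^ 2) * b * h2 + (a * d * b + a ^ 2 * b + d ^ 2 * b + 2 * b + b ^ 2 * c) * h2
    refine frobenius_inj F 2 ?_
    rw [frobenius_def, frobenius_def, zero_pow two_ne_zero]
    linear_combination (mul_eq_zero.1 h0).resolve_right h01 + ((a + d) ^ 3 + (a + d) ^ 2 + (a + d)) * h2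

theorem alt_six_orders : ∀ x : alternatingGroup (Fin 6),
    x * x * x = 1 ∨ x * x * x * x = 1 ∨ x * x * x * x * x = 1 := by
  decide +kernel

end CfsgLib.Geo.SL3.Trans
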