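/-
Characteristic two, a one-sided pair: the centraliser of a transvection is dihedral of order eight.
-/
import Cfsg.Agent.Lib.Geo.SL3.Trans.TwoTools
import Cfsg.Agent.S0848
import Cfsg.Agent.Lib.TwoGroups.OrderThreeSixty

set_option autoImplicit false

namespace CfsgLib.Geo.SL3.Trans

open Matrix CfsgLib.Geo.Roots CfsgLib.Classical CfsgLib.Geo.SLTwoGen
open scoped MatrixGroups commutatorElement

variable {F : Type*} [Field F] {L : Subgroup (Matrix.GeneralLinearGroup (Fin 3) F)}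

set_option maxHeartbeats 800000 in
/-- The elements centralising the central transvection modulo scalars. -/
theorem centralizer_shape (hL : IsCore L) (h2 : (2 : F) = 0)
    (hsm' : ∀ φ u, NRoot L φ u → ∀ l : F, Root L (l • φ) u → l = 0 ∨ l = 1)
    (hA : NRoot L (Pi.single 1 1) (Pi.single 0 1)) (hB : NRoot L (Pi.single 2 1) (Pi.single 1 1))
    (hT' : NRoot L (Pi.single 2 1) (Pi.single 0 1))
    (uall : ∀ t : Tri, InU L (ZMod.cast t.1 : F) (ZMod.cast t.2.1) (ZMod.cast t.2.2))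
    {g' : Matrix.GeneralLinearGroup (Fin 3) F} (hg' : g' ∈ L) {cz : F}
    (hgT : (g' : Matrix (Fin 3) (Fin 3) F) * uMat 0 0 1 = cz • (uMat 0 0 1 * (g' : Matrix (Fin 3) (Fin 3) F))) :
    ∃ (a : F) (t : Tri), a ≠ 0 ∧
      (g' : Matrix (Fin 3) (Fin 3) F) = a • uMat (ZMod.cast t.1 : F) (ZMod.cast t.2.1) (ZMod.cast t.2.2) := by
  haveI : CharP F 2 := CharTwo.of_one_ne_zero_of_two_eq_zero one_ne_zero h2
  let cF := ZMod.castHom (dvd_refl 2) F
  have entry : ∀ i j : Fin 3, ((g' : Matrix (Fin 3) (Fin 3) F) * uMat (0 : F) 0 1) i j =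
      cz * ((uMat (0 : F) 0 1 * (g' : Matrix (Fin 3) (Fin 3) F)) i j) := fun i j => by
    rw [hgT]; rfl
  set M := (g' : Matrix (Fin 3) (Fin 3) F) with hM
  have a10 := entry 1 0; have a11 := entry 1 1; have a12 := entry 1 2
  have a20 := entry 2 0; have a21 := entry 2 1; have a22 := entry 2 2
  have a00 := entry 0 0; have a01 := entry 0 1; have a02 := entry 0 2
  simp [uMat, Matrix.mul_apply, Fin.sum_univ_succ] at a10 a11 a12 a20 a21 a22 a00 a01 a02
  have hdetg : M.det = 1 := congrArg Units.val (hL.le hg' : Matrix.GeneralLinearGroup.det g' = 1)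
  rw [Matrix.det_fin_three] at hdetg
  have hcz1 : cz = 1 := by
    by_contra hne
    have k : ∀ x : F, x = cz * x → x = 0 := fun x hx => by
      have : (cz - 1) * x = 0 := by linear_combination -hx
      exact (mul_eq_zero.1 this).resolve_left (sub_ne_zero.2 hne)
    have b10 := k _ a10; have b11 := k _ a11; have b20 := k _ a20; have b21 := k _ a21
    rw [b20, add_zero] at a00
    rw [b21, add_zero] at a01
    have b00 := k _ a00; have b01 := k _ a01
    rw [b00, b10, b20] at hdetg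
    simp at hdetg
  rw [hcz1, one_mul] at a00 a01 a12 a22 a02
  have m20 : M 2 0 = 0 := by linear_combination -a00
  have m21 : M 2 1 = 0 := by linear_combination -a01
  have m10 : M 1 0 = 0 := by linear_combination a12
  have m22 : M 2 2 = M 0 0 := by linear_combination -a02
  have ha : M 0 0 ≠ 0 := fun h => by rw [h, m10, m20] at hdetg; simp at hdetg
  -- the action on the axes at the first centre
  have stepA : ∀ {η : Fin 3 → F}, Root L η (Pi.single 0 1) → η 1 = 0 ∨ η 1 = 1 := by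
    intro η hη
    have h := (hB.root.comm hη hT'.root.dot).neg
    rw [← neg_smul, neg_neg] at h
    have := hsm' _ _ hT' _ h
    simpa using this
  have stepB : ∀ {z : Fin 3 → F}, Root L (Pi.single 2 1) z → z 1 = 0 ∨ z 1 = 1 := by
    intro z hz
    have h := (hz.comm hA.root hT'.root.dot).neg
    rw [← neg_smul, neg_neg] at h
    have := hsm' _ _ hT' _ h
    simpa using this
  have hinv : ((g'⁻¹ : Matrix.GeneralLinearGroup (Fin 3) F) : Matrix (Fin 3) (Fin 3) F) 1 1 * M 1 1 = 1 ∧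
      ((g'⁻¹ : Matrix.GeneralLinearGroup (Fin 3) F) : Matrix (Fin 3) (Fin 3) F) 1 1 * M 1 2 +
        ((g'⁻¹ : Matrix.GeneralLinearGroup (Fin 3) F) : Matrix (Fin 3) (Fin 3) F) 1 2 * M 0 0 = 0 ∧
      ((g'⁻¹ : Matrix.GeneralLinearGroup (Fin 3) F) : Matrix (Fin 3) (Fin 3) F) 1 0 = 0 := by
    set N := ((g'⁻¹ : Matrix.GeneralLinearGroup (Fin 3) F) : Matrix (Fin 3) (Fin 3) F)
    have e : N * M = 1 := Units.inv_mul g'
    have e10 := congrFun (congrFun e 1) 0
    have e11 := congrFun (congrFun e 1) 1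
    have e12 := congrFun (congrFun e 1) 2
    simp [Matrix.mul_apply, Fin.sum_univ_succ, m10, m20, m21, m22] at e10 e11 e12
    have n10 := e10.resolve_right ha
    rw [n10, zero_mul, zero_add] at e11 e12
    exact ⟨e11, e12, n10⟩
  obtain ⟨n11, n12, n10⟩ := hinv
  set N := ((g'⁻¹ : Matrix.GeneralLinearGroup (Fin 3) F) : Matrix (Fin 3) (Fin 3) F) with hN
  have hconjA : Root L (M 0 0 • ((Pi.single 1 1 : Fin 3 → F) ᵥ* N)) (Pi.single 0 1) := by
    rw [← root_smul_iff ha]
    convert (hA.conj hg').root using 1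
    funext i
    fin_cases i <;> simp [m10, m20, ← hM]
  have hm11 : M 1 1 = M 0 0 := by
    have h' : M 0 0 * N 1 1 = 0 ∨ M 0 0 * N 1 1 = 1 := by simpa using stepA hconjA
    rcases h' with e | e
    · exfalso
      rw [(mul_eq_zero.1 e).resolve_left ha, zero_mul] at n11
      exact zero_ne_one n11
    · linear_combination M 0 0 * n11 - M 1 1 * e
  have ha3 : M 0 0 * M 0 0 * M 0 0 = 1 := by
    rw [m10, m20, m21, m22, hm11] at hdetg
    linear_combination hdetg
  set a := M 0 0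
  set x := M 0 1 / a
  set y := M 1 2 / a
  set z := M 0 2 / a
  have hy : y = 0 ∨ y = 1 := by
    have he : a • ((Pi.single 1 1 : Fin 3 → F) ᵥ* N) = (Pi.single 1 1 : Fin 3 → F) + Pi.single 2 y := by
      rw [hm11] at n11
      have hN11 : a * N 1 1 = 1 := by linear_combination n11
      funext i
      fin_cases i <;> simp [n10, y]
      · exact hN11
      · rw [eq_div_iff ha]
        linear_combination a * n12 - M 1 2 * hN11 - M 1 2 * h2
    rw [he] at hconjA
    have := hconjA.sub hA.root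
    rw [add_sub_cancel_left, show (Pi.single 2 y : Fin 3 → F) = y • Pi.single 2 1 by
      rw [← Pi.single_smul, smul_eq_mul, mul_one]] at this
    exact hsm' _ _ hT' y this
  have hx : x = 0 ∨ x = 1 := by
    have hrow : (Pi.single 2 1 : Fin 3 → F) ᵥ* N = a⁻¹ • Pi.single 2 1 := by
      have e := congrArg (fun w => w ᵥ* N)
        (show (Pi.single 2 1 : Fin 3 → F) ᵥ* M = a • Pi.single 2 1 from funext fun i => by
          fin_cases i <;> simp [m20, m21, m22, a])
      simp only [Matrix.vecMul_vecMul, Matrix.smul_vecMul, hM, hN, Units.mul_inv, Matrix.vecMul_one] at e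
      rw [hN] at *
      rw [eq_inv_smul_iff₀ ha]
      exact e.symm
    have hcol : M *ᵥ Pi.single 1 1 = a • ((Pi.single 1 1 : Fin 3 → F) + Pi.single 0 x) := by
      funext i
      fin_cases i <;> simp [hm11, m21, x, mul_div_cancel₀ _ ha]
    have h := (hB.conj hg').root
    rw [← hM, ← hN, hrow, hcol, root_smul_iff ha, smul_smul, mul_inv_cancel₀ ha, one_smul] at h
    have h3 := CfsgLib.Geo.SubfieldMax.root_add_centre h (CfsgLib.Geo.SubfieldMax.root_neg_centre hB.root)
    rw [← sub_eq_add_neg, add_sub_cancel_left] at h3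
    by_cases hx0 : x = 0
    · exact Or.inl hx0
    refine hsm' _ _ hT' x ((root_smul_iff hx0).1 ?_)
    rwa [← Pi.single_smul, smul_eq_mul, mul_one]
  have hMv : M = a • uMat x y z := by
    ext i j
    fin_cases i <;> fin_cases j <;> simp [uMat, m10, m20, m21, m22, hm11, x, y, z, mul_div_cancel₀, ha] <;> rfl
  obtain ⟨x', hx'⟩ : ∃ x' : ZMod 2, cF x' = x := by
    rcases hx with e | e
    exacts [⟨0, by rw [e, map_zero]⟩, ⟨1, by rw [e, map_one]⟩]
  obtain ⟨y', hy'⟩ : ∃ y' : ZMod 2, cF y' = y := by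
    rcases hy with e | e
    exacts [⟨0, by rw [e, map_zero]⟩, ⟨1, by rw [e, map_one]⟩]
  obtain ⟨u', hu', eu'⟩ := (uall (x', y', (0 : ZMod 2))).inv
  simp only [← ZMod.castHom_apply (h := dvd_refl 2)] at eu'
  rw [hx', hy', map_zero, sub_zero] at eu'
  have hprod : ((g' * u' : Matrix.GeneralLinearGroup (Fin 3) F) : Matrix (Fin 3) (Fin 3) F) =
      a • uMat 0 0 z := by
    rw [Units.val_mul, eu', ← hM, hMv, Matrix.smul_mul, uMat_mul]
    congr 1
    congr 1 <;> ring
  have hz : z = 0 ∨ z = 1 := by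
    have h3 : (((g' * u') ^ 3 : Matrix.GeneralLinearGroup (Fin 3) F) : Matrix (Fin 3) (Fin 3) F) = uMat 0 0 z := by
      rw [Units.val_pow_eq_pow_val, hprod, pow_succ, pow_succ, pow_one]
      simp only [Matrix.smul_mul, Matrix.mul_smul, smul_smul, uMat_mul, ← mul_assoc, ha3, one_smul]
      congr 1 <;> first | linear_combination z * h2 | ring
    by_cases hz0 : z = 0
    · exact Or.inl hz0
    refine hsm' _ _ hT' z ?_
    have hd : (z • (Pi.single 2 1 : Fin 3 → F)) ⬝ᵥ Pi.single 0 1 = 0 := by simp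
    refine ⟨hd, ?_⟩
    convert L.pow_mem (L.mul_mem hg' hu') 3 using 1
    refine ext_mulVec fun v => ?_
    rw [transvectionGL_mulVec, h3, uMat_mulVec]
    funext i
    fin_cases i <;> simp [Matrix.vecHead, Matrix.vecTail]
  obtain ⟨z', hz'⟩ : ∃ z' : ZMod 2, cF z' = z := by
    rcases hz with e | e
    exacts [⟨0, by rw [e, map_zero]⟩, ⟨1, by rw [e, map_one]⟩]
  refine ⟨a, (x', y', z'), ha, ?_⟩
  rw [hMv, ← hx', ← hy', ← hz']
  rfl

set_option maxHeartbeats 800000 in
/-- The product of two partners in the quotient by the scalars. -/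
theorem product_data [CharP F 2] {φ u ψ v : Fin 3 → F} (hr : NRoot L φ u) (hr' : NRoot L ψ v)
    (hne : φ ⬝ᵥ v * (ψ ⬝ᵥ u) ≠ 0) :
    ∃ (M : SL(2, F)) (gb tb : L ⧸ (Cfsg.Geo.scalars (Fin 3) F).subgroupOf L),
      M.1 0 1 ≠ 0 ∧ M.1 0 0 + M.1 1 1 = φ ⬝ᵥ v * (ψ ⬝ᵥ u) ∧ orderOf tb = 2 ∧ tb * gb * tb⁻¹ = gb⁻¹ ∧
        ∀ n : ℕ, gb ^ n = 1 → M ^ n = 1 := by
  classical
  have h2 : (2 : F) = 0 := CharTwo.two_eq_zero
  have hp : Partner φ u ψ v := ⟨left_ne_zero_of_mul hne, right_ne_zero_of_mul hne⟩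
  obtain ⟨D, hDu, hDv, hφD, hψD⟩ := exists_dot_coord hr hr' hp
  have mk : ∀ (η z b : Fin 3 → F), Root L η z → (D : Matrix (Fin 3) (Fin 3) F) *ᵥ b = z →
      Root (conjL D⁻¹ L) (η ᵥ* (D : Matrix (Fin 3) (Fin 3) F)) b := fun η z b h e => by
    rw [root_conjL, inv_inv, Matrix.vecMul_vecMul, Units.mul_inv, Matrix.vecMul_one, e]; exact h
  have hu : up (φ ⬝ᵥ v) ∈ (conjL D⁻¹ L).comap block := by
    rw [up_mem_comap, ← hφD]; exact mk _ _ _ hr.root hDu
  have hl : lo (ψ ⬝ᵥ u) ∈ (conjL D⁻¹ L).comap block := by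
    rw [lo_mem_comap, ← hψD]; exact mk _ _ _ hr'.root hDv
  have memL : ∀ X ∈ (conjL D⁻¹ L).comap block, D * block X * D⁻¹ ∈ L := fun X hX => by
    have := (mem_conjL (L := L)).1 (Subgroup.mem_comap.1 hX)
    rwa [inv_inv] at this
  let θ : (conjL D⁻¹ L).comap block →* L ⧸ (Cfsg.Geo.scalars (Fin 3) F).subgroupOf L :=
    (QuotientGroup.mk' _).comp (MonoidHom.mk' (fun X => (⟨D * block X.1 * D⁻¹, memL _ X.2⟩ : L))
      (fun X Y => Subtype.ext (by
        show D * block (X.1 * Y.1) * D⁻¹ = (D * block X.1 * D⁻¹) * (D * block Y.1 * D⁻¹)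
        rw [map_mul]; group)))
  have θinj : Function.Injective θ := (injective_iff_map_eq_one _).2 fun X hX => by
    have h := (QuotientGroup.eq_one_iff _).1 hX
    rw [Subgroup.mem_subgroupOf] at h
    change D * block X.1 * D⁻¹ ∈ _ at h
    rw [conj_mem_scalars] at h
    obtain ⟨k, hk⟩ := (Cfsg.Geo.mem_scalars_iff _).1 h
    have k1 : (k : F) = 1 := by
      have := congrFun (congrFun hk 2) 2
      simpa [block, blockMat] using this.symm
    rw [k1, one_smul] at hk
    refine Subtype.ext (Subtype.ext ?_)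
    ext i j
    fin_cases i <;> fin_cases j
    · simpa [block, blockMat] using congrFun (congrFun hk 0) 0
    · simpa [block, blockMat] using congrFun (congrFun hk 0) 1
    · simpa [block, blockMat] using congrFun (congrFun hk 1) 0
    · simpa [block, blockMat] using congrFun (congrFun hk 1) 1
  set A : (conjL D⁻¹ L).comap block := ⟨_, hu⟩ with hA
  set B : (conjL D⁻¹ L).comap block := ⟨_, hl⟩ with hB
  have sqA : A * A = 1 := Subtype.ext (by
    show up _ * up _ = 1; rw [up_mul, CharTwo.add_self_eq_zero, SL3.up_zero])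
  have sqB : B * B = 1 := Subtype.ext (by
    show lo _ * lo _ = 1; rw [lo_mul, CharTwo.add_self_eq_zero, SL3.lo_zero])
  refine ⟨(A * B : (conjL D⁻¹ L).comap block).1, θ (A * B), θ A, ?_, ?_, ?_, ?_, fun n hn => ?_⟩
  · show ¬ ((up (φ ⬝ᵥ v) * lo (ψ ⬝ᵥ u) : SL(2, F)).1 0 1 = 0)
    rw [Matrix.SpecialLinearGroup.coe_mul]
    simp [up, lo, Matrix.mul_apply, Fin.sum_univ_two, hp.left]
  · show (up (φ ⬝ᵥ v) * lo (ψ ⬝ᵥ u) : SL(2, F)).1 0 0 + (up (φ ⬝ᵥ v) * lo (ψ ⬝ᵥ u) : SL(2, F)).1 1 1 = _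
    rw [Matrix.SpecialLinearGroup.coe_mul]
    simp [up, lo, Matrix.mul_apply, Fin.sum_univ_two]
    linear_combination h2
  · refine orderOf_eq_prime (by rw [sq, ← map_mul, sqA, map_one]) fun h => hp.left ?_
    have := θinj (h.trans (map_one θ).symm)
    simpa [A, up] using congrArg (fun X : (conjL D⁻¹ L).comap block => X.1.1 0 1) this
  · rw [← map_mul, ← map_inv, ← map_mul, ← map_inv]
    congr 1
    rw [_root_.mul_inv_rev, inv_eq_of_mul_eq_one_right sqA, inv_eq_of_mul_eq_one_right sqB, ← mul_assoc, sqA,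
      one_mul]
  · have : (A * B) ^ n = 1 := θinj (by rw [map_pow, hn, map_one])
    exact congrArg Subtype.val this

set_option maxHeartbeats 800000 in
/-- The root groups have order two and there is a one-sided pair. -/
theorem dihedral_case [Fintype F] (hL : IsCore L) (h2 : (2 : F) = 0)
    (hsm : ∀ φ u, NRoot L φ u → ∀ l : F, Root L (l • φ) u → l = 0 ∨ l = 1) {φ₀ u₀ χ c₀ : Fin 3 → F}
    (hr₀ : NRoot L φ₀ u₀) (hr₀' : NRoot L χ c₀) (h0 : φ₀ ⬝ᵥ c₀ = 0) (h1 : χ ⬝ᵥ u₀ ≠ 0) :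
    (∀ φ u ψ v, NRoot L φ u → NRoot L ψ v → φ ⬝ᵥ v * (ψ ⬝ᵥ u) = 0 ∨ φ ⬝ᵥ v * (ψ ⬝ᵥ u) = 1) ∨
    (Nonempty ((L ⧸ (Cfsg.Geo.scalars (Fin 3) F).subgroupOf L) ≃* alternatingGroup (Fin 6)) ∧
      ∃ ω : F, ω ^ 2 + ω + 1 = 0) := by
  classical
  haveI : CharP F 2 := CharTwo.of_one_ne_zero_of_two_eq_zero one_ne_zero h2
  haveI hsimple := hL.simple
  -- the configuration
  set s := -(χ ⬝ᵥ u₀)
  have hs0 : s ≠ 0 := neg_ne_zero.2 h1
  obtain ⟨φ, u, c, ψ, hφu, hψu, hφc, hψc⟩ : ∃ φ u c ψ, NRoot L φ u ∧ NRoot L ψ u ∧ NRoot L φ c ∧ ψ ⬝ᵥ c ≠ 0 := by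
    refine ⟨s • φ₀, c₀, s⁻¹ • u₀, χ, ⟨hr₀.root.comm hr₀'.root h0, smul_ne_zero hs0 hr₀.axis_ne, hr₀'.centre_ne⟩,
      hr₀', ⟨?_, smul_ne_zero hs0 hr₀.axis_ne, smul_ne_zero (inv_ne_zero hs0) hr₀.centre_ne⟩, ?_⟩
    · rw [root_smul_iff (inv_ne_zero hs0), smul_smul, inv_mul_cancel₀ hs0, one_smul]
      exact hr₀.root
    · simp [dotProduct_smul, hs0, h1]
  have hψc1 : ψ ⬝ᵥ c = 1 := by
    have h := (hφc.root.comm hψu.root hφu.root.dot).neg
    rw [← neg_smul, neg_neg] at h
    exact (hsm _ _ hφu _ h).resolve_left hψc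
  -- coordinates
  obtain ⟨w₀, -, hw₀⟩ := exists_dot_ne_left hL (P := fun _ => True) (fun _ _ _ _ => trivial) ⟨u, trivial, hφu.centre_ne⟩
    hφu.axis_ne
  set w₁ := (φ ⬝ᵥ w₀)⁻¹ • w₀
  set w := w₁ - (ψ ⬝ᵥ w₁) • c
  have hφw : φ ⬝ᵥ w = 1 := by
    simp [w, w₁, dotProduct_sub, dotProduct_smul, hφc.root.dot, hw₀]
  have hψw : ψ ⬝ᵥ w = 0 := by simp [w, dotProduct_sub, dotProduct_smul, hψc1]
  have hdet : (colMat u c w).det ≠ 0 := by
    intro h
    obtain ⟨x, hx0, hx⟩ := Matrix.exists_mulVec_eq_zero_iff.2 h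
    rw [colMat_mulVec] at hx
    have a2 := congrArg (fun z => φ ⬝ᵥ z) hx
    simp [dotProduct_add, dotProduct_smul, hφu.root.dot, hφc.root.dot, hφw] at a2
    rw [a2, zero_smul, add_zero] at hx
    have a1 := congrArg (fun z => ψ ⬝ᵥ z) hx
    simp [dotProduct_add, dotProduct_smul, hψu.root.dot, hψc1] at a1
    rw [a1, zero_smul, add_zero, smul_eq_zero] at hx
    exact hx0 (funext fun i => by fin_cases i <;> simp [a1, a2, hx.resolve_right hφu.centre_ne])
  set C := Matrix.GeneralLinearGroup.mkOfDetNeZero _ hdet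
  have hC : (C : Matrix (Fin 3) (Fin 3) F) = colMat u c w := rfl
  have hCu : (C : Matrix (Fin 3) (Fin 3) F) *ᵥ Pi.single 0 1 = u := by rw [hC, colMat_mulVec]; simp
  have hCc : (C : Matrix (Fin 3) (Fin 3) F) *ᵥ Pi.single 1 1 = c := by rw [hC, colMat_mulVec]; simp
  have hφC : φ ᵥ* (C : Matrix (Fin 3) (Fin 3) F) = Pi.single 2 1 := eq_of_dot fun x => by
    rw [← Matrix.dotProduct_mulVec, hC, colMat_mulVec]
    simp [dotProduct_add, dotProduct_smul, hφu.root.dot, hφc.root.dot, hφw]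
  have hψC : ψ ᵥ* (C : Matrix (Fin 3) (Fin 3) F) = Pi.single 1 1 := eq_of_dot fun x => by
    rw [← Matrix.dotProduct_mulVec, hC, colMat_mulVec]
    simp [dotProduct_add, dotProduct_smul, hψu.root.dot, hψc1, hψw]
  -- unitriangular elements
  have inU : ∀ {η z : Fin 3 → F} {x y t : F}, Root L η z →
      (∀ v : Fin 3 → F, v + ((η ᵥ* (C : Matrix (Fin 3) (Fin 3) F)) ⬝ᵥ v) •
        (((C⁻¹ : Matrix.GeneralLinearGroup (Fin 3) F) : Matrix (Fin 3) (Fin 3) F) *ᵥ z) = uMat x y t *ᵥ v) →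
      InU (conjL C⁻¹ L) x y t := by
    intro η z x y t h hv
    obtain ⟨e, m⟩ := root_conjL_of (B := C⁻¹) h
    refine ⟨_, m, Matrix.toLin'.injective (LinearMap.ext fun v => ?_)⟩
    rw [Matrix.toLin'_apply, Matrix.toLin'_apply, transvectionGL_mulVec, ← hv, inv_inv]
  have hCu' : ((C⁻¹ : Matrix.GeneralLinearGroup (Fin 3) F) : Matrix (Fin 3) (Fin 3) F) *ᵥ u = Pi.single 0 1 := by
    rw [← hCu, mulVec_cancel_left]
  have hCc' : ((C⁻¹ : Matrix.GeneralLinearGroup (Fin 3) F) : Matrix (Fin 3) (Fin 3) F) *ᵥ c = Pi.single 1 1 := by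
    rw [← hCc, mulVec_cancel_left]
  have uT : InU (conjL C⁻¹ L) 0 0 1 := inU hφu.root fun v => by
    rw [hφC, hCu', uMat_mulVec]; funext i; fin_cases i <;> simp [Matrix.vecHead, Matrix.vecTail]
  have uA : InU (conjL C⁻¹ L) 1 0 0 := inU hψu.root fun v => by
    rw [hψC, hCu', uMat_mulVec]; funext i; fin_cases i <;> simp [Matrix.vecHead, Matrix.vecTail]
  have uB : InU (conjL C⁻¹ L) 0 1 0 := inU hφc.root fun v => by
    rw [hφC, hCc', uMat_mulVec]; funext i; fin_cases i <;> simp [Matrix.vecHead, Matrix.vecTail]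
  have uone : InU (conjL C⁻¹ L) 0 0 0 :=
    ⟨1, one_mem _, by ext i j; fin_cases i <;> fin_cases j <;> simp [uMat]⟩
  let cF := ZMod.castHom (dvd_refl 2) F
  have z2 : ∀ a : ZMod 2, a = 0 ∨ a = 1 := by decide
  have uall : ∀ t : Tri, InU (conjL C⁻¹ L) (cF t.1) (cF t.2.1) (cF t.2.2) := by
    rintro ⟨a, b, z⟩
    have ea : InU (conjL C⁻¹ L) (cF a) 0 0 := by
      rcases z2 a with rfl | rfl
      · simpa using uone
      · simpa using uA
    have eb : InU (conjL C⁻¹ L) 0 (cF b) 0 := by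
      rcases z2 b with rfl | rfl
      · simpa using uone
      · simpa using uB
    have ez : InU (conjL C⁻¹ L) 0 0 (cF z + cF a * cF b) := by
      rcases z2 (z + a * b) with e | e <;> rw [← map_mul, ← map_add, e]
      · simpa using uone
      · simpa using uT
    have h := (ea.mul eb).mul ez
    simp only [add_zero, zero_add, mul_zero] at h
    rwa [add_left_comm, CharTwo.add_self_eq_zero, add_zero] at h
  set G := L ⧸ (Cfsg.Geo.scalars (Fin 3) F).subgroupOf L
  have uL : ∀ t : Tri, ∃ g : L, ((g : Matrix.GeneralLinearGroup (Fin 3) F) : Matrix (Fin 3) (Fin 3) F) =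
      (C : Matrix (Fin 3) (Fin 3) F) * uMat (cF t.1) (cF t.2.1) (cF t.2.2) *
        ((C⁻¹ : Matrix.GeneralLinearGroup (Fin 3) F) : Matrix (Fin 3) (Fin 3) F) := fun t => by
    obtain ⟨x, hx, ex⟩ := uall t
    rw [mem_conjL, inv_inv] at hx
    refine ⟨⟨_, hx⟩, ?_⟩
    rw [Units.val_mul, Units.val_mul, ex]
  choose el el_val using uL
  have el_mul : ∀ s t, el (triMul s t) = el s * el t := fun s t => by
    refine Subtype.ext (Units.ext ?_)
    rw [Subgroup.coe_mul, Units.val_mul, el_val, el_val, el_val]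
    simp only [triMul, map_add, map_mul, ← uMat_mul]
    simp [mul_assoc]
  have el_inj : ∀ t, (QuotientGroup.mk (el t) : G) = 1 → t = (0, 0, 0) := by
    intro t h
    rw [QuotientGroup.eq_one_iff, Subgroup.mem_subgroupOf] at h
    obtain ⟨k, hk⟩ := (Cfsg.Geo.mem_scalars_iff _).1 h
    rw [el_val] at hk
    have e := congrArg (fun X => ((C⁻¹ : Matrix.GeneralLinearGroup (Fin 3) F) : Matrix (Fin 3) (Fin 3) F) * X *
      (C : Matrix (Fin 3) (Fin 3) F)) hk
    simp [mul_assoc] at e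
    have e01 := congrFun (congrFun e 0) 1
    have e02 := congrFun (congrFun e 0) 2
    have e12 := congrFun (congrFun e 1) 2
    simp [uMat] at e01 e02 e12
    exact Prod.ext (cF.injective (by simpa using e01))
      (Prod.ext (cF.injective (by simpa using e12)) (cF.injective (by simpa using e02)))
  obtain ⟨tmul, tinj, tsurj⟩ := triOf_facts
  let δ : DihedralGroup 4 →* G := MonoidHom.mk' (fun d => QuotientGroup.mk (el (triOf d)))
    (fun a b => by rw [tmul, el_mul]; rfl)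
  have δinj : Function.Injective δ := (injective_iff_map_eq_one _).2 fun d hd => by
    refine tinj _ _ ((el_inj _ hd).trans ?_)
    decide
  set τ : G := δ (DihedralGroup.r 2)
  have hτord : orderOf τ = 2 := by
    rw [orderOf_injective δ δinj]
    exact orderOf_eq_prime (by decide) (by decide)
  have hTval : ((el (triOf (DihedralGroup.r 2)) : Matrix.GeneralLinearGroup (Fin 3) F) : Matrix (Fin 3) (Fin 3) F) =
      (C : Matrix (Fin 3) (Fin 3) F) * uMat 0 0 1 *
        ((C⁻¹ : Matrix.GeneralLinearGroup (Fin 3) F) : Matrix (Fin 3) (Fin 3) F) := by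
    rw [el_val, show triOf (DihedralGroup.r 2) = ((0 : ZMod 2), (0 : ZMod 2), (1 : ZMod 2)) by decide]
    simp
  have hrange : δ.range = Subgroup.centralizer ({τ} : Set G) := by
    refine le_antisymm ?_ ?_
    · rintro _ ⟨d, rfl⟩
      rw [Subgroup.mem_centralizer_singleton_iff, ← map_mul, ← map_mul]
      exact congrArg δ ((show ∀ d : DihedralGroup 4, d * DihedralGroup.r 2 = DihedralGroup.r 2 * d by decide) d)
    · intro q hq
      induction q using QuotientGroup.induction_on with | H g => ?_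
      rw [Subgroup.mem_centralizer_singleton_iff] at hq
      obtain ⟨g, hg⟩ := g
      set T := el (triOf (DihedralGroup.r 2)) with hT
      have hτ : τ = (QuotientGroup.mk T : G) := by simp only [τ, δ, MonoidHom.mk'_apply, hT]
      rw [hτ, ← QuotientGroup.mk_mul, ← QuotientGroup.mk_mul] at hq
      have hz := Subgroup.mem_subgroupOf.1 (QuotientGroup.eq.1 hq.symm)
      rw [Subgroup.coe_mul, Subgroup.coe_inv, Subgroup.coe_mul, Subgroup.coe_mul] at hz
      set g' := C⁻¹ * g * C with hg'def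
      have hg' : g' ∈ conjL C⁻¹ L := by
        rw [mem_conjL, inv_inv, hg'def]
        convert hg using 1
        group
      -- the transvection commutes on the nose
      obtain ⟨cz, hcz⟩ := (Cfsg.Geo.mem_scalars_iff _).1 hz
      have hgT : (g' : Matrix (Fin 3) (Fin 3) F) * uMat 0 0 1 =
          (cz : F) • (uMat 0 0 1 * (g' : Matrix (Fin 3) (Fin 3) F)) := by
        have h1 : ((g * (T : Matrix.GeneralLinearGroup (Fin 3) F) : Matrix.GeneralLinearGroup (Fin 3) F) :
            Matrix (Fin 3) (Fin 3) F) =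
            (cz : F) • ((T : Matrix.GeneralLinearGroup (Fin 3) F) * g : Matrix.GeneralLinearGroup (Fin 3) F).1 := by
          rw [show g * (T : Matrix.GeneralLinearGroup (Fin 3) F) = (T : Matrix.GeneralLinearGroup (Fin 3) F) * g *
            (((T : Matrix.GeneralLinearGroup (Fin 3) F) * g)⁻¹ * (g * (T : Matrix.GeneralLinearGroup (Fin 3) F))) by group,
            Units.val_mul, hcz, Matrix.mul_smul, mul_one]
        simp only [Units.val_mul, hTval] at h1
        have h2 := congrArg (fun X => ((C⁻¹ : Matrix.GeneralLinearGroup (Fin 3) F) : Matrix (Fin 3) (Fin 3) F) * X *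
          (C : Matrix (Fin 3) (Fin 3) F)) h1
        simp only [hg'def, Units.val_mul]
        simpa [mul_assoc] using h2
      have hA : NRoot (conjL C⁻¹ L) (Pi.single 1 1) (Pi.single 0 1) := by
        rw [nroot_conjL, inv_inv, ← hψC, Matrix.vecMul_vecMul, Units.mul_inv, Matrix.vecMul_one, hCu]
        exact hψu
      have hB : NRoot (conjL C⁻¹ L) (Pi.single 2 1) (Pi.single 1 1) := by
        rw [nroot_conjL, inv_inv, ← hφC, Matrix.vecMul_vecMul, Units.mul_inv, Matrix.vecMul_one, hCc]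
        exact hφc
      have hT' : NRoot (conjL C⁻¹ L) (Pi.single 2 1) (Pi.single 0 1) := by
        rw [nroot_conjL, inv_inv, ← hφC, Matrix.vecMul_vecMul, Units.mul_inv, Matrix.vecMul_one, hCu]
        exact hφu
      have hsm' : ∀ φ u, NRoot (conjL C⁻¹ L) φ u → ∀ l : F, Root (conjL C⁻¹ L) (l • φ) u → l = 0 ∨ l = 1 := by
        intro η z hη l hl
        rw [root_conjL, Matrix.smul_vecMul] at hl
        exact hsm _ _ (nroot_conjL.1 hη) l hl
      obtain ⟨a, ⟨x', y', z'⟩, ha, hMv⟩ := centralizer_shape (hL.conjL C⁻¹) h2 hsm' hA hB hT' uall hg' hgT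
      set M := (g' : Matrix (Fin 3) (Fin 3) F) with hM
      obtain ⟨d, hd⟩ := tsurj (x', y', z')
      refine ⟨d, ?_⟩
      show (QuotientGroup.mk (el (triOf d)) : G) = QuotientGroup.mk (⟨g, hg⟩ : L)
      rw [hd, QuotientGroup.eq, Subgroup.mem_subgroupOf, Cfsg.Geo.mem_scalars_iff]
      have hgM : (g : Matrix (Fin 3) (Fin 3) F) = (C : Matrix (Fin 3) (Fin 3) F) * M *
          ((C⁻¹ : Matrix.GeneralLinearGroup (Fin 3) F) : Matrix (Fin 3) (Fin 3) F) := by
        rw [hM, hg'def]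
        simp [mul_assoc]
      refine ⟨Units.mk0 a ha, ?_⟩
      have hel : ((el (x', y', z') : Matrix.GeneralLinearGroup (Fin 3) F) : Matrix (Fin 3) (Fin 3) F) *
          (a • (1 : Matrix (Fin 3) (Fin 3) F)) = (g : Matrix (Fin 3) (Fin 3) F) := by
        rw [hgM, el_val, hMv]
        simp [mul_assoc, cF, ZMod.castHom_apply]
      rw [Subgroup.coe_mul, Subgroup.coe_inv, Units.val_mul, ← hel, ← mul_assoc, Units.inv_mul, one_mul, Units.val_mk0]
  -- recognition
  have hperf : commutator G = ⊤ := by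
    refine ((inferInstance : (commutator G).Normal).eq_bot_or_eq_top).resolve_left fun h => hL.nonabelian ?_
    refine ⟨⟨fun a b => commutatorElement_eq_one_iff_mul_comm.1 ?_⟩⟩
    have : ⁅a, b⁆ ∈ commutator G := Subgroup.commutator_mem_commutator (Subgroup.mem_top a) (Subgroup.mem_top b)
    rwa [h, Subgroup.mem_bot] at this
  have hcard := Cfsg.Agent.S0848.result hperf τ hτord
    ((MulEquiv.subgroupCongr hrange).symm.trans (MonoidHom.ofInjective δinj).symm)
  rcases hcard with h168 | h360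
  · refine Or.inl fun φ u ψ v hr hr' => ?_
    by_cases hne : φ ⬝ᵥ v * (ψ ⬝ᵥ u) = 0
    · exact Or.inl hne
    refine Or.inr ?_
    obtain ⟨M, gb, tb, h01, htr, ht2, hinv, hpow⟩ := product_data hr hr' hne
    have htr0 : M.1 0 0 + M.1 1 1 ≠ 0 := htr ▸ hne
    rw [← htr]
    refine (trace_of_pow M h01 htr0).2.1 ?_
    have h168' : M ^ (2 * (2 * (2 * 21))) = 1 := hpow _ (by
      rw [show 2 * (2 * (2 * 21)) = Nat.card G by rw [h168], pow_card_eq_one'])
    have h21 := pow_eq_one_of_sq M h01 htr0 (pow_eq_one_of_sq M h01 htr0 (pow_eq_one_of_sq M h01 htr0 h168'))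
    by_contra h3
    have h21' : gb ^ (8 * 21) = 1 := by rw [show 8 * 21 = Nat.card G by rw [h168], pow_card_eq_one']
    have hy : orderOf (gb ^ 24) = 7 := by
      haveI : Fact (Nat.Prime 7) := ⟨by norm_num⟩
      refine orderOf_eq_prime (by rw [← pow_mul]; exact h21') fun h => h3 ?_
      have h24 := hpow _ h
      have h3' : M ^ Nat.gcd 24 21 = 1 := pow_gcd_eq_one.2 ⟨h24, h21⟩
      exact h3'
    refine not_inverted_seven h168 hy ht2 ?_
    rw [← MulAut.conj_apply, map_pow, MulAut.conj_apply, hinv, inv_pow]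
  · obtain ⟨e⟩ := CfsgLib.TwoGroups.OrderThreeSixty.nonempty_equiv h360
    by_cases hall : ∀ φ u ψ v, NRoot L φ u → NRoot L ψ v → φ ⬝ᵥ v * (ψ ⬝ᵥ u) = 0 ∨ φ ⬝ᵥ v * (ψ ⬝ᵥ u) = 1
    · exact Or.inl hall
    push Not at hall
    obtain ⟨φ, u, ψ, v, hr, hr', hne, hne1⟩ := hall
    refine Or.inr ⟨⟨e⟩, φ ⬝ᵥ v * (ψ ⬝ᵥ u), ?_⟩
    obtain ⟨M, gb, tb, h01, htr, -, -, hpow⟩ := product_data hr hr' hne
    have htr0 : M.1 0 0 + M.1 1 1 ≠ 0 := htr ▸ hne
    rw [← htr] at hne1
    obtain ⟨ne1, p3, p5⟩ := trace_of_pow M h01 htr0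
    rw [← htr]
    refine p5 (hpow 5 ?_)
    rcases alt_six_orders (e gb) with h | h | h <;> simp only [← map_mul] at h <;>
      have h' := e.injective (h.trans (map_one e).symm)
    · exact absurd (p3 (hpow 3 (by rw [pow_succ, pow_succ, pow_one]; exact h'))) hne1
    · exfalso
      have h4 : M ^ (2 * (2 * 1)) = 1 := hpow _ (by simp only [pow_succ, pow_zero, one_mul]; exact h')
      exact ne1 (by simpa using pow_eq_one_of_sq M h01 htr0 (pow_eq_one_of_sq M h01 htr0 h4))
    · simp only [pow_succ, pow_zero, one_mul]; exact h'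

end CfsgLib.Geo.SL3.Trans
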