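/-
Characteristic two, root groups of order two, no one-sided pair: no centre has two axes.
-/
import Cfsg.Agent.Lib.Geo.SL3.Trans.Unipotent
import Cfsg.Agent.Lib.Classical.Dickson.SubgroupFacts

set_option autoImplicit false

namespace CfsgLib.Geo.SL3.Trans

open Matrix CfsgLib.Geo.Roots CfsgLib.Classical CfsgLib.Geo.SLTwoGen CfsgLib.Classical.Dickson
open scoped MatrixGroups

variable {F : Type*} [Field F] {L : Subgroup (Matrix.GeneralLinearGroup (Fin 3) F)}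

/-- A centre killed by a second root at a centre with two axes is that centre. -/
theorem kills {φ u ψ χ v η ξ w : Fin 3 → F} (hs : NoSide L) (hr : NRoot L φ u) (hr2 : NRoot L ψ u)
    (hind : ∀ a : F, ψ ≠ a • φ) (hv : NRoot L χ v) (hp : Partner φ u χ v) (hη : NRoot L η u)
    (hw : NRoot L ξ w) (h0 : η ⬝ᵥ w = 0) : ∃ a : F, w = a • u := by
  have h1 := hs _ _ _ _ hη hw h0
  have h2 := hs _ _ _ _ hw hr h1
  have h3 := hs _ _ _ _ hw hr2 h1
  obtain ⟨e, he, e1, e2⟩ := exists_common_zero φ χ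
  obtain ⟨C, hC⟩ := exists_frame hp hr.root.dot hv.root.dot e1 e2 he
  set x := ((C⁻¹ : Matrix.GeneralLinearGroup (Fin 3) F) : Matrix (Fin 3) (Fin 3) F) *ᵥ w
  have hx : w = x 0 • u + x 1 • v + x 2 • e := by rw [← colMat_mulVec, ← hC, mulVec_cancel_right]
  have hx1 : x 1 = 0 := by
    rw [hx] at h2
    simp only [dotProduct_add, dotProduct_smul, hr.root.dot, e1, smul_eq_mul, mul_zero, zero_add, add_zero] at h2
    exact (mul_eq_zero.1 h2).resolve_right hp.left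
  rw [hx1, zero_smul, add_zero] at hx
  refine ⟨x 0, ?_⟩
  by_cases hx2 : x 2 = 0
  · rw [hx, hx2, zero_smul, add_zero]
  exfalso
  rw [hx] at h3
  simp only [dotProduct_add, dotProduct_smul, hr2.root.dot, smul_eq_mul, mul_zero, zero_add] at h3
  have hψe := (mul_eq_zero.1 h3).resolve_left hx2
  refine hind (ψ ⬝ᵥ v / (φ ⬝ᵥ v)) (sub_eq_zero.1 (eq_zero_of_frame hp hr.root.dot hv.root.dot e1 e2 he ?_ ?_ ?_))
  · simp [sub_dotProduct, smul_dotProduct, hr.root.dot, hr2.root.dot]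
  · simp [sub_dotProduct, smul_dotProduct, hp.left]
  · simp [sub_dotProduct, smul_dotProduct, hψe, e1]

/-- The roots with a given centre. -/
def axes (L : Subgroup (Matrix.GeneralLinearGroup (Fin 3) F)) (u : Fin 3 → F) : Set (Fin 3 → F) :=
  {η | Root L η u}

theorem root_eval_line {η u : Fin 3 → F} (h : Root L η u) : η ⬝ᵥ u = 0 := h.dot

/-- An element fixing the plane of the first two coordinates and inducing the identity on the quotient. -/
def lineMat (M : Matrix (Fin 2) (Fin 2) F) (a b : F) : Matrix (Fin 3) (Fin 3) F :=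
  !![M 0 0, M 0 1, a; M 1 0, M 1 1, b; 0, 0, 1]

theorem lineMat_mul (M N : Matrix (Fin 2) (Fin 2) F) (a b a' b' : F) :
    lineMat M a b * lineMat N a' b' =
      lineMat (M * N) (M 0 0 * a' + M 0 1 * b' + a) (M 1 0 * a' + M 1 1 * b' + b) := by
  ext i j
  fin_cases i <;> fin_cases j <;> simp [lineMat, Matrix.mul_apply, Fin.sum_univ_succ] <;> ring

theorem lineMat_one : lineMat (1 : Matrix (Fin 2) (Fin 2) F) 0 0 = 1 := by
  ext i j
  fin_cases i <;> fin_cases j <;> simp [lineMat]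

theorem lineMat_up (x a b : F) : lineMat (up x).1 a b = uMat x b a := by
  ext i j
  fin_cases i <;> fin_cases j <;> simp [lineMat, up, uMat]

theorem lineMat_root_up {β : Fin 3 → F} (h : β 0 = 0) (e : β ⬝ᵥ ![1, 0, 0] = 0) :
    ((transvectionGL β ![1, 0, 0] e : Matrix.GeneralLinearGroup (Fin 3) F) : Matrix (Fin 3) (Fin 3) F) =
      lineMat (up (β 1)).1 (β 2) 0 := by
  refine Matrix.toLin'.injective (LinearMap.ext fun v => ?_)
  rw [Matrix.toLin'_apply, Matrix.toLin'_apply, transvectionGL_mulVec]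
  funext i
  fin_cases i <;> simp [lineMat, up, Matrix.mulVec, dotProduct, Fin.sum_univ_succ, h] <;> ring

theorem lineMat_root_lo {β : Fin 3 → F} (h : β 1 = 0) (e : β ⬝ᵥ ![0, 1, 0] = 0) :
    ((transvectionGL β ![0, 1, 0] e : Matrix.GeneralLinearGroup (Fin 3) F) : Matrix (Fin 3) (Fin 3) F) =
      lineMat (lo (β 0)).1 0 (β 2) := by
  refine Matrix.toLin'.injective (LinearMap.ext fun v => ?_)
  rw [Matrix.toLin'_apply, Matrix.toLin'_apply, transvectionGL_mulVec]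
  funext i
  fin_cases i <;> simp [lineMat, lo, Matrix.mulVec, dotProduct, Fin.sum_univ_succ, h] <;> ring

/-- The group induced on the plane of the first two coordinates. -/
def lineSub (L : Subgroup (Matrix.GeneralLinearGroup (Fin 3) F)) : Subgroup SL(2, F) where
  carrier := {M | ∃ a b, ∃ g ∈ L, (g : Matrix (Fin 3) (Fin 3) F) = lineMat M.1 a b}
  one_mem' := ⟨0, 0, 1, L.one_mem, by rw [Matrix.SpecialLinearGroup.coe_one, lineMat_one]; rfl⟩
  mul_mem' := by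
    rintro M N ⟨a, b, g, hg, eg⟩ ⟨a', b', g', hg', eg'⟩
    exact ⟨_, _, g * g', L.mul_mem hg hg', by
      rw [Units.val_mul, eg, eg', lineMat_mul, Matrix.SpecialLinearGroup.coe_mul]⟩
  inv_mem' := by
    rintro M ⟨a, b, g, hg, eg⟩
    refine ⟨-((M⁻¹).1 0 0 * a + (M⁻¹).1 0 1 * b), -((M⁻¹).1 1 0 * a + (M⁻¹).1 1 1 * b), g⁻¹, L.inv_mem hg, ?_⟩
    refine Units.inv_eq_of_mul_eq_one_left ?_
    rw [eg, lineMat_mul, ← Matrix.SpecialLinearGroup.coe_mul, inv_mul_cancel, Matrix.SpecialLinearGroup.coe_one,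
      add_neg_cancel, add_neg_cancel, lineMat_one]

theorem exists_root_of_up [CharP F 2] {L : Subgroup (Matrix.GeneralLinearGroup (Fin 3) F)}
    (hker : ∀ {a b : F}, InU L 0 b a → a = 0 ∧ b = 0) {x : F} (h : up x ∈ lineSub L) :
    ∃ β, Root L β ![1, 0, 0] ∧ β 1 = x := by
  obtain ⟨a, b, g, hg, eg⟩ := h
  rw [lineMat_up] at eg
  have hU : InU L x b a := ⟨g, hg, eg⟩
  have hb : b = 0 := by
    have h2U := hU.mul hU
    rw [CharTwo.add_self_eq_zero, CharTwo.add_self_eq_zero, CharTwo.add_self_eq_zero, zero_add] at h2U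
    rcases mul_eq_zero.1 (hker h2U).1 with e | e
    · subst e; exact (hker hU).2
    · exact e
  subst hb
  have hd : (![0, x, a] : Fin 3 → F) ⬝ᵥ ![1, 0, 0] = 0 := by simp
  refine ⟨![0, x, a], ⟨hd, ?_⟩, rfl⟩
  convert hg using 1
  refine Units.ext ?_
  rw [lineMat_root_up rfl, eg, lineMat_up]
  rfl

theorem exists_root_of_lo [CharP F 2] {L : Subgroup (Matrix.GeneralLinearGroup (Fin 3) F)}
    (hker : ∀ {a b : F}, InU L 0 b a → a = 0 ∧ b = 0) {y : F} (h : lo y ∈ lineSub L) :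
    ∃ β, Root L β ![0, 1, 0] ∧ β 0 = y := by
  obtain ⟨a, b, g, hg, eg⟩ := h
  have e0 : ∀ a' b', lineMat (1 : Matrix (Fin 2) (Fin 2) F) a' b' = uMat 0 b' a' := fun a' b' => by
    ext i j
    fin_cases i <;> fin_cases j <;> simp [lineMat, uMat]
  have ha : a = 0 := by
    by_cases hy : y = 0
    · subst hy
      rw [lo_zero, Matrix.SpecialLinearGroup.coe_one, e0] at eg
      exact (hker ⟨g, hg, eg⟩).1
    have hsq : InU L 0 (y * a) 0 := by
      refine ⟨g * g, L.mul_mem hg hg, ?_⟩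
      rw [Units.val_mul, eg, lineMat_mul, ← Matrix.SpecialLinearGroup.coe_mul, lo_mul, CharTwo.add_self_eq_zero,
        lo_zero, Matrix.SpecialLinearGroup.coe_one, e0]
      have h1 : (lo y).1 0 0 * a + (lo y).1 0 1 * b + a = 0 := by simp [lo, CharTwo.add_self_eq_zero]
      have h2 : (lo y).1 1 0 * a + (lo y).1 1 1 * b + b = y * a := by
        simp [lo, add_assoc, CharTwo.add_self_eq_zero]
      rw [h1, h2]
    exact (mul_eq_zero.1 (hker hsq).2).resolve_left hy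
  subst ha
  have hd : (![y, 0, b] : Fin 3 → F) ⬝ᵥ ![0, 1, 0] = 0 := by simp
  refine ⟨![y, 0, b], ⟨hd, ?_⟩, rfl⟩
  convert hg using 1
  refine Units.ext ?_
  rw [lineMat_root_lo rfl, eg]
  rfl

set_option maxHeartbeats 400000 in
/-- The values of the axes at one centre on another centre form a line over a subfield. -/
theorem axes_line [Fintype F] (h2 : (2 : F) = 0) (hs : NoSide L) {φ u ψ χ c : Fin 3 → F} (hr : NRoot L φ u)
    (hr2 : NRoot L ψ u) (hind : ∀ a : F, ψ ≠ a • φ) (hc : NRoot L χ c) (hp : Partner φ u χ c) :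
    ∃ k : Subfield F, Nat.card k = (axes L u).ncard ∧ (∀ η ∈ axes L u, η ⬝ᵥ c / (φ ⬝ᵥ c) ∈ k) ∧
      (∀ t ∈ k, ∃ η ∈ axes L u, η ⬝ᵥ c = t * (φ ⬝ᵥ c)) ∧
      ∀ t ∈ k, ∃ η ∈ axes L c, η ⬝ᵥ u = t * (χ ⬝ᵥ u) := by
  classical
  haveI : CharP F 2 := CharTwo.of_one_ne_zero_of_two_eq_zero one_ne_zero h2
  have hk0 : ∀ {η : Fin 3 → F}, Root L η u → η ⬝ᵥ c = 0 → η = 0 := fun {η} hη h0 => by
    by_contra hne
    obtain ⟨a, ha⟩ := kills hs hr hr2 hind hc hp (⟨hη, hne, hr.centre_ne⟩ : NRoot L η u) hc h0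
    exact hp.left (by rw [ha, dotProduct_smul, hr.root.dot, smul_zero])
  obtain ⟨e, he, e1, e2⟩ := exists_common_zero φ χ
  obtain ⟨C, hC⟩ := exists_frame hp hr.root.dot hc.root.dot e1 e2 he
  set L' := conjL C⁻¹ L
  have hCu : (C : Matrix (Fin 3) (Fin 3) F) *ᵥ ![1, 0, 0] = u := by rw [hC, colMat_mulVec]; simp
  have hCc : (C : Matrix (Fin 3) (Fin 3) F) *ᵥ ![0, 1, 0] = c := by rw [hC, colMat_mulVec]; simp
  have hval : ∀ (η : Fin 3 → F) (b : Fin 3 → F),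
      (η ᵥ* (C : Matrix (Fin 3) (Fin 3) F)) ⬝ᵥ b = η ⬝ᵥ ((C : Matrix (Fin 3) (Fin 3) F) *ᵥ b) := fun η b =>
    (Matrix.dotProduct_mulVec _ _ _).symm
  have down : ∀ {β b : Fin 3 → F}, Root L' β b →
      Root L (β ᵥ* ((C⁻¹ : Matrix.GeneralLinearGroup (Fin 3) F) : Matrix (Fin 3) (Fin 3) F))
        ((C : Matrix (Fin 3) (Fin 3) F) *ᵥ b) := fun h => by
    rwa [root_conjL, inv_inv] at h
  have back : ∀ (β b : Fin 3 → F),
      (β ᵥ* ((C⁻¹ : Matrix.GeneralLinearGroup (Fin 3) F) : Matrix (Fin 3) (Fin 3) F)) ⬝ᵥ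
        ((C : Matrix (Fin 3) (Fin 3) F) *ᵥ b) = β ⬝ᵥ b := fun β b => by
    rw [Matrix.dotProduct_mulVec, Matrix.vecMul_vecMul, Units.inv_mul, Matrix.vecMul_one]
  -- the kernel of the action on the line is trivial
  have hker : ∀ {a b : F}, InU L' 0 b a → a = 0 ∧ b = 0 := by
    rintro a b ⟨g, hg, eg⟩
    by_contra hne
    have hd : (Pi.single 2 1 : Fin 3 → F) ⬝ᵥ ![a, b, 0] = 0 := by simp
    have hroot : NRoot L' (Pi.single 2 1) ![a, b, 0] := by
      refine ⟨⟨hd, ?_⟩, by simp, fun e => hne ⟨by simpa using congrFun e 0, by simpa using congrFun e 1⟩⟩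
      convert hg using 1
      refine ext_mulVec fun v => ?_
      rw [transvectionGL_mulVec, eg, uMat_mulVec]
      funext i
      fin_cases i <;> simp [mul_comm]
    have hd' := nroot_conjL.1 hroot
    rw [inv_inv] at hd'
    have h1 : ((Pi.single 2 1 : Fin 3 → F) ᵥ* ((C⁻¹ : Matrix.GeneralLinearGroup (Fin 3) F) :
        Matrix (Fin 3) (Fin 3) F)) ⬝ᵥ u = 0 := by
      rw [← hCu, back]; simp [dotProduct, Fin.sum_univ_succ]
    have h2' := hs _ _ _ _ hd' hr h1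
    have hb : b = 0 := by
      have e : (C : Matrix (Fin 3) (Fin 3) F) *ᵥ ![a, b, 0] = a • u + b • c := by
        rw [hC, colMat_mulVec]; simp
      rw [e, dotProduct_add, dotProduct_smul, dotProduct_smul, hr.root.dot, smul_zero, zero_add, smul_eq_mul] at h2'
      exact (mul_eq_zero.1 h2').resolve_right hp.left
    subst hb
    have ha : a ≠ 0 := fun e => hne ⟨e, rfl⟩
    have hA : Root L' (a • (Pi.single 2 1 : Fin 3 → F)) ![1, 0, 0] := by
      rw [← root_smul_iff ha]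
      convert hroot.root using 1
      simp
    have := hk0 (hCu ▸ down hA) (by rw [← hCc, back]; simp [dotProduct, Fin.sum_univ_succ])
    exact vecMul_ne_zero C⁻¹ (smul_ne_zero ha (by simp)) this
  -- the restriction to the line
  set K := lineSub L' with hK
  have coord : ∀ {η z : Fin 3 → F} {b : Fin 3 → F}, Root L η z → (C : Matrix (Fin 3) (Fin 3) F) *ᵥ b = z →
      Root L' (η ᵥ* (C : Matrix (Fin 3) (Fin 3) F)) b := fun {η z b} h e => by
    rw [root_conjL, inv_inv, Matrix.vecMul_vecMul, Units.mul_inv, Matrix.vecMul_one, e]; exact h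
  have at1 : ∀ η : Fin 3 → F, (η ᵥ* (C : Matrix (Fin 3) (Fin 3) F)) 1 = η ⬝ᵥ c := fun η => by
    rw [← hCc, ← hval]; simp [dotProduct, Fin.sum_univ_succ]
  have at0 : ∀ η : Fin 3 → F, (η ᵥ* (C : Matrix (Fin 3) (Fin 3) F)) 0 = η ⬝ᵥ u := fun η => by
    rw [← hCu, ← hval]; simp [dotProduct, Fin.sum_univ_succ]
  have upK : ∀ x, up x ∈ K ↔ ∃ η ∈ axes L u, η ⬝ᵥ c = x := by
    intro x
    constructor
    · intro h
      obtain ⟨β, hβ, rfl⟩ := exists_root_of_up hker h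
      refine ⟨_, hCu ▸ down hβ, ?_⟩
      rw [← hCc, back]
      simp [dotProduct, Fin.sum_univ_succ]
    · rintro ⟨η, hη, rfl⟩
      obtain ⟨hd, hm⟩ := coord hη hCu
      refine ⟨(η ᵥ* (C : Matrix (Fin 3) (Fin 3) F)) 2, 0, _, hm, ?_⟩
      rw [lineMat_root_up ((at0 η).trans (root_eval_line hη)) hd, at1]
  have loK : ∀ y, lo y ∈ K → ∃ η ∈ axes L c, η ⬝ᵥ u = y := fun y h => by
    obtain ⟨β, hβ, rfl⟩ := exists_root_of_lo hker h
    refine ⟨_, hCc ▸ down hβ, ?_⟩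
    rw [← hCu, back]
    simp [dotProduct, Fin.sum_univ_succ]
  have hq : lo (χ ⬝ᵥ u) ∈ K := by
    obtain ⟨hd, hm⟩ := coord hc.root hCc
    refine ⟨0, (χ ᵥ* (C : Matrix (Fin 3) (Fin 3) F)) 2, _, hm, ?_⟩
    rw [lineMat_root_lo ((at1 χ).trans hc.root.dot) hd, at0]
  have hp' : φ ⬝ᵥ c ∈ upSet K := mem_upSet.2 ((upK _).2 ⟨φ, hr.root, rfl⟩)
  have hψ : ψ ⬝ᵥ c ∈ upSet K := mem_upSet.2 ((upK _).2 ⟨ψ, hr2.root, rfl⟩)
  have h4 : 4 ≤ Nat.card (upSet K) := by
    have hψ0 : ψ ⬝ᵥ c ≠ 0 := fun e => hr2.axis_ne (hk0 hr2.root e)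
    have hψp : ψ ⬝ᵥ c ≠ φ ⬝ᵥ c := fun e => hind 1 (by
      rw [one_smul]; exact sub_eq_zero.1 (hk0 (hr2.root.sub hr.root) (by rw [sub_dotProduct, e, sub_self])))
    have h1 : (({0, φ ⬝ᵥ c, ψ ⬝ᵥ c, φ ⬝ᵥ c + ψ ⬝ᵥ c} : Finset F) : Set F) ⊆ upSet K := by
      intro x hx
      simp at hx
      rcases hx with rfl | rfl | rfl | rfl
      exacts [(upSet K).zero_mem, hp', hψ, (upSet K).add_mem hp' hψ]
    have h3 := Set.ncard_le_ncard h1
    have hsum : φ ⬝ᵥ c + ψ ⬝ᵥ c ≠ 0 := fun e => hψp (CharTwo.add_eq_zero.1 e).symm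
    rw [Set.ncard_coe_finset, ← Nat.card_coe_set_eq, Finset.card_insert_of_notMem (by
      simp [Ne.symm hp.left, hψ0.symm, hsum.symm]), Finset.card_insert_of_notMem (by
      simp [Ne.symm hψp, hψ0]), Finset.card_pair (by simp [hp.left])] at h3
    exact h3
  obtain ⟨k, -, hku, hkl⟩ := exists_field_line hp' (mem_loSet.2 hq) hp.left hp.right (fun _ => Or.inl h4)
    (fun h3 => absurd (show (1 : F) = 0 by linear_combination h3 - h2) one_ne_zero)
  have fwd : ∀ η ∈ axes L u, η ⬝ᵥ c / (φ ⬝ᵥ c) ∈ k := fun η hη => (hku _).1 ((upK _).2 ⟨η, hη, rfl⟩)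
  have bwd : ∀ t ∈ k, ∃ η ∈ axes L u, η ⬝ᵥ c = t * (φ ⬝ᵥ c) := fun t ht => by
    refine (upK _).1 ((hku _).2 ?_)
    rwa [mul_div_cancel_right₀ t hp.left]
  refine ⟨k, ?_, fwd, bwd, fun t ht => loK _ ((hkl _).2 (by rwa [mul_div_cancel_right₀ t hp.right]))⟩
  rw [← Nat.card_coe_set_eq]
  refine (Nat.card_congr (Equiv.ofBijective (fun η : axes L u => (⟨_, fwd η η.2⟩ : k)) ⟨?_, ?_⟩)).symm
  · intro η η' h
    have h' := (div_left_inj' hp.left).1 (congrArg Subtype.val h)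
    exact Subtype.ext (sub_eq_zero.1 (hk0 (η.2.sub η'.2) (by rw [sub_dotProduct, h', sub_self])))
  · rintro ⟨t, ht⟩
    obtain ⟨η, hη, e⟩ := bwd t ht
    exact ⟨⟨η, hη⟩, Subtype.ext (by show η ⬝ᵥ c / (φ ⬝ᵥ c) = t; rw [e, mul_div_cancel_right₀ t hp.left])⟩

theorem subfield_eq_of_card [Finite F] {k k' : Subfield F} (h : Nat.card k = Nat.card k') : k = k' :=
  SetLike.ext fun x => by rw [mem_subfield_iff_pow, mem_subfield_iff_pow, h]

set_option maxHeartbeats 800000 in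
/-- No centre has two axes. -/
theorem false_of_two_axes [Fintype F] (h2 : (2 : F) = 0) (hs : NoSide L)
    (hsmall : ∀ φ u, NRoot L φ u → ∀ l : F, Root L (l • φ) u → l = 0 ∨ l = 1)
    (hspan : ∀ f : Fin 3 → F, f ≠ 0 → ∃ ξ w, NRoot L ξ w ∧ f ⬝ᵥ w ≠ 0)
    {φ u ψ χ v : Fin 3 → F} (hr : NRoot L φ u) (hr2 : NRoot L ψ u) (hind : ∀ a : F, ψ ≠ a • φ)
    (hv : NRoot L χ v) (hp : Partner φ u χ v) : False := by
  haveI : CharP F 2 := CharTwo.of_one_ne_zero_of_two_eq_zero one_ne_zero h2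
  obtain ⟨f, hf, hfu, hfv⟩ := exists_common_zero u v
  rw [dotProduct_comm] at hfu hfv
  obtain ⟨ξ, w, hw, hfw⟩ := hspan f hf
  have hnu : ∀ a : F, w ≠ a • u := fun a e => hfw (by rw [e, dotProduct_smul, hfu, smul_zero])
  have hnv : ∀ a : F, w ≠ a • v := fun a e => hfw (by rw [e, dotProduct_smul, hfv, smul_zero])
  have partnerU : ∀ {α z : Fin 3 → F}, NRoot L α z → (∀ a : F, z ≠ a • u) → Partner φ u α z := by
    intro α z hz hne
    have h1 : φ ⬝ᵥ z ≠ 0 := fun e => by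
      obtain ⟨a, ha⟩ := kills hs hr hr2 hind hv hp hr hz e
      exact hne a ha
    exact ⟨h1, fun e => h1 (hs _ _ _ _ hz hr e)⟩
  obtain ⟨k, hk1, hk2, hk3, hk4⟩ := axes_line h2 hs hr hr2 hind hv hp
  have hpw := partnerU hw hnu
  obtain ⟨k', hk1', hk2', -, -⟩ := axes_line h2 hs hr hr2 hind hw hpw
  obtain rfl : k = k' := subfield_eq_of_card (hk1.trans hk1'.symm)
  -- two axes at the partner
  obtain ⟨t₀, ht₀, ht00, ht01⟩ : ∃ t ∈ k, t ≠ 0 ∧ t ≠ (1 : F) := by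
    refine ⟨ψ ⬝ᵥ v / (φ ⬝ᵥ v), hk2 ψ hr2.root, fun e => ?_, fun e => ?_⟩
    · rw [div_eq_zero_iff] at e
      obtain ⟨a, ha⟩ := kills hs hr hr2 hind hv hp hr2 hv (e.resolve_right hp.left)
      exact hp.left (by rw [ha, dotProduct_smul, hr.root.dot, smul_zero])
    · rw [div_eq_one_iff_eq hp.left] at e
      have hne : ψ - φ ≠ 0 := fun e' => hind 1 (by rw [one_smul]; exact sub_eq_zero.1 e')
      obtain ⟨a, ha⟩ := kills hs hr hr2 hind hv hp ⟨hr2.root.sub hr.root, hne, hr.centre_ne⟩ hv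
        (by rw [sub_dotProduct, e, sub_self])
      exact hp.left (by rw [ha, dotProduct_smul, hr.root.dot, smul_zero])
  obtain ⟨χ₂, hχ₂, hχ₂u⟩ := hk4 t₀ ht₀
  have hχ₂' : NRoot L χ₂ v := ⟨hχ₂, fun e => by
    rw [e, zero_dotProduct] at hχ₂u
    exact mul_ne_zero ht00 hp.right hχ₂u.symm, hv.centre_ne⟩
  have hindv : ∀ a : F, χ₂ ≠ a • χ := fun a e => by
    rw [e, smul_dotProduct, smul_eq_mul] at hχ₂u
    obtain rfl : a = t₀ := mul_right_cancel₀ hp.right hχ₂u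
    rcases hsmall _ _ hv a (e ▸ hχ₂) with h | h
    · exact ht00 h
    · exact ht01 h
  have hvw : Partner χ v ξ w := by
    have h1 : χ ⬝ᵥ w ≠ 0 := fun e => by
      obtain ⟨a, ha⟩ := kills hs hv hχ₂' hindv hr hp.symm hv hw e
      exact hnv a ha
    exact ⟨h1, fun e => h1 (hs _ _ _ _ hw hv e)⟩
  obtain ⟨kv, hv1, hv2, hv3, -⟩ := axes_line h2 hs hv hχ₂' hindv hw hvw
  have hcard : (axes L v).ncard = (axes L u).ncard := by
    obtain ⟨k'', h1, h2', h3, h4⟩ := axes_line h2 hs hv hχ₂' hindv hr hp.symm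
    rw [← h1, ← hk1]
    refine le_antisymm ?_ ?_
    · rw [h1, ← Nat.card_coe_set_eq (axes L v), hk1, ← Nat.card_coe_set_eq (axes L u)]
      have : ∀ η ∈ axes L v, ∃ η' ∈ axes L u, η' ⬝ᵥ v = η ⬝ᵥ u / (χ ⬝ᵥ u) * (φ ⬝ᵥ v) := fun η hη =>
        h4 _ (h2' η hη)
      choose g hg1 hg2 using this
      refine Nat.card_le_card_of_injective (fun η => (⟨g η η.2, hg1 η η.2⟩ : axes L u)) fun η η' h => ?_
      have e : (η : Fin 3 → F) ⬝ᵥ u = (η' : Fin 3 → F) ⬝ᵥ u := by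
        have h' := hg2 η η.2
        rw [show g η η.2 = g η' η'.2 from congrArg Subtype.val h, hg2 η' η'.2] at h'
        exact ((div_left_inj' hp.right).1 (mul_right_cancel₀ hp.left h')).symm
      by_contra hne
      have hne' : (η : Fin 3 → F) - η' ≠ 0 := fun e' => hne (Subtype.ext (sub_eq_zero.1 e'))
      obtain ⟨a, ha⟩ := kills hs hv hχ₂' hindv hr hp.symm ⟨η.2.sub η'.2, hne', hv.centre_ne⟩ hr
        (by rw [sub_dotProduct, e, sub_self])
      exact hp.right (by rw [ha, dotProduct_smul, hv.root.dot, smul_zero])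
    · rw [hk1, h1, ← Nat.card_coe_set_eq (axes L v), ← Nat.card_coe_set_eq (axes L u)]
      have : ∀ η ∈ axes L u, ∃ η' ∈ axes L v, η' ⬝ᵥ u = η ⬝ᵥ v / (φ ⬝ᵥ v) * (χ ⬝ᵥ u) := fun η hη =>
        hk4 _ (hk2 η hη)
      choose g hg1 hg2 using this
      refine Nat.card_le_card_of_injective (fun η => (⟨g η η.2, hg1 η η.2⟩ : axes L v)) fun η η' h => ?_
      have e : (η : Fin 3 → F) ⬝ᵥ v = (η' : Fin 3 → F) ⬝ᵥ v := by
        have h' := hg2 η η.2
        rw [show g η η.2 = g η' η'.2 from congrArg Subtype.val h, hg2 η' η'.2] at h'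
        exact ((div_left_inj' hp.left).1 (mul_right_cancel₀ hp.right h')).symm
      by_contra hne
      have hne' : (η : Fin 3 → F) - η' ≠ 0 := fun e' => hne (Subtype.ext (sub_eq_zero.1 e'))
      obtain ⟨a, ha⟩ := kills hs hr hr2 hind hv hp ⟨η.2.sub η'.2, hne', hr.centre_ne⟩ hv
        (by rw [sub_dotProduct, e, sub_self])
      exact hp.left (by rw [ha, dotProduct_smul, hr.root.dot, smul_zero])
  obtain rfl : k = kv := (subfield_eq_of_card (hv1.trans (hcard.trans hk1.symm))).symm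
  -- translate `w` along `v`
  set γ := χ ⬝ᵥ w * (φ ⬝ᵥ v) / (φ ⬝ᵥ w) with hγ
  have centre : ∀ s ∈ k, ∃ α z, NRoot L α z ∧ (∀ a : F, z ≠ a • u) ∧
      ∀ η : Fin 3 → F, η ⬝ᵥ z = η ⬝ᵥ w + s * (χ ⬝ᵥ w) * (η ⬝ᵥ v) := by
    intro s hsk
    obtain ⟨η', hη', e⟩ := hv3 s hsk
    refine ⟨_, _, ((IsConjRoot.refl ξ w).trans_root hη').nroot hw, fun a ha => hfw ?_, fun η => ?_⟩
    · have := congrArg (fun x => f ⬝ᵥ x) ha
      simpa [dotProduct_add, dotProduct_smul, hfu, hfv] using this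
    · rw [dotProduct_add, dotProduct_smul, e, smul_eq_mul]
  -- an axis with distinct ratios
  obtain ⟨η₀, hη₀, hab⟩ : ∃ η ∈ axes L u, η ⬝ᵥ v / (φ ⬝ᵥ v) ≠ η ⬝ᵥ w / (φ ⬝ᵥ w) := by
    by_contra! hall
    have e := hall ψ hr2.root
    have ha := hk2 ψ hr2.root
    obtain ⟨η', hη', he⟩ := hk3 _ ha
    set a := ψ ⬝ᵥ v / (φ ⬝ᵥ v)
    obtain ⟨C, hC⟩ := exists_frame hp hr.root.dot hv.root.dot (w := (exists_common_zero φ χ).choose)
      (exists_common_zero φ χ).choose_spec.2.1 (exists_common_zero φ χ).choose_spec.2.2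
      (exists_common_zero φ χ).choose_spec.1
    have hψ : ψ = a • φ := by
      refine eq_of_dot fun y => ?_
      -- `u, v, w` span
      have hd : (colMat u v w).det ≠ 0 := by
        intro h0
        obtain ⟨x, hx0, hx⟩ := Matrix.exists_mulVec_eq_zero_iff.2 h0
        rw [colMat_mulVec] at hx
        have e2 := congrArg (fun z => f ⬝ᵥ z) hx
        simp [dotProduct_add, dotProduct_smul, hfu, hfv, hfw] at e2
        rw [e2, zero_smul, add_zero] at hx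
        have e3 := congrArg (fun z => φ ⬝ᵥ z) hx
        simp [dotProduct_add, dotProduct_smul, hr.root.dot, hp.left] at e3
        rw [e3, zero_smul, add_zero, smul_eq_zero] at hx
        exact hx0 (funext fun i => by fin_cases i <;> simp [e2, e3, hx.resolve_right hr.centre_ne])
      set D := Matrix.GeneralLinearGroup.mkOfDetNeZero _ hd
      rw [show y = (D : Matrix (Fin 3) (Fin 3) F) *ᵥ
        (((D⁻¹ : Matrix.GeneralLinearGroup (Fin 3) F) : Matrix (Fin 3) (Fin 3) F) *ᵥ y) from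
          (mulVec_cancel_right D y).symm,
        show (D : Matrix (Fin 3) (Fin 3) F) = colMat u v w from rfl, colMat_mulVec]
      simp only [dotProduct_add, dotProduct_smul, smul_dotProduct, hr.root.dot, hr2.root.dot, smul_eq_mul]
      have ev : ψ ⬝ᵥ v = a * (φ ⬝ᵥ v) := (div_mul_cancel₀ _ hp.left).symm
      have ew : ψ ⬝ᵥ w = a * (φ ⬝ᵥ w) := by rw [e]; exact (div_mul_cancel₀ _ hpw.left).symm
      rw [ev, ew]; ring
    exact hind a hψ
  set a₀ := η₀ ⬝ᵥ v / (φ ⬝ᵥ v)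
  set b₀ := η₀ ⬝ᵥ w / (φ ⬝ᵥ w)
  have ha₀ : a₀ ∈ k := hk2 η₀ hη₀
  have hb₀ : b₀ ∈ k := hk2' η₀ hη₀
  have eq : ∀ (η : Fin 3 → F) (s : F), η ⬝ᵥ w + s * (χ ⬝ᵥ w) * (η ⬝ᵥ v) =
      (φ ⬝ᵥ w) * (η ⬝ᵥ w / (φ ⬝ᵥ w) + s * γ * (η ⬝ᵥ v / (φ ⬝ᵥ v))) := fun η s => by
    rw [hγ]; field_simp [hpw.left, hp.left]
  have hγk : γ ∈ k := by
    obtain ⟨α, z, hz, hzu, hzv⟩ := centre 1 k.one_mem
    obtain ⟨kz, hz1, hz2, -, -⟩ := axes_line h2 hs hr hr2 hind hz (partnerU hz hzu)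
    obtain rfl : k = kz := (subfield_eq_of_card (hz1.trans hk1.symm)).symm
    have hr' := hz2 η₀ hη₀
    rw [hzv, hzv, eq, eq, div_self hpw.left, div_self hp.left, one_mul, mul_one,
      mul_div_mul_left _ _ hpw.left] at hr'
    set r := (b₀ + γ * a₀) / (1 + γ) with hr_def
    have hd : 1 + γ ≠ 0 := by
      have h0 := (partnerU hz hzu).left
      rw [hzv, eq, div_self hpw.left, div_self hp.left, one_mul, mul_one] at h0
      exact right_ne_zero_of_mul h0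
    have e : γ * (a₀ - r) = r - b₀ := by
      have := div_mul_cancel₀ (b₀ + γ * a₀) hd
      rw [← hr_def] at this
      linear_combination -this
    have har : a₀ - r ≠ 0 := fun e' => hab (by
      rw [e', mul_zero] at e
      linear_combination e' - e)
    have := k.div_mem (k.sub_mem hr' hb₀) (k.sub_mem ha₀ hr')
    rwa [← e, mul_div_cancel_right₀ _ har] at this
  have hγ0 : γ ≠ 0 := div_ne_zero (mul_ne_zero hvw.left hp.left) hpw.left
  have ha0 : a₀ ≠ 0 := fun e => by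
    have hne : η₀ ≠ 0 := fun e' => hab (by simp [a₀, b₀, e'])
    rw [show a₀ = η₀ ⬝ᵥ v / (φ ⬝ᵥ v) from rfl, div_eq_zero_iff] at e
    obtain ⟨a, ha⟩ := kills hs hr hr2 hind hv hp ⟨hη₀, hne, hr.centre_ne⟩ hv (e.resolve_right hp.left)
    exact hp.left (by rw [ha, dotProduct_smul, hr.root.dot, smul_zero])
  obtain ⟨α, z, hz, hzu, hzv⟩ := centre (b₀ / (γ * a₀)) (k.div_mem hb₀ (k.mul_mem hγk ha₀))
  have h0 : η₀ ⬝ᵥ z = 0 := by
    rw [hzv, eq]
    have e : b₀ / (γ * a₀) * γ * a₀ = b₀ := by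
      rw [mul_assoc, div_mul_cancel₀ _ (mul_ne_zero hγ0 ha0)]
    show φ ⬝ᵥ w * (b₀ + b₀ / (γ * a₀) * γ * a₀) = 0
    rw [e, CharTwo.add_self_eq_zero, mul_zero]
  have hne : η₀ ≠ 0 := fun e => ha0 (by simp [a₀, e])
  obtain ⟨a, ha⟩ := kills hs hr hr2 hind hv hp ⟨hη₀, hne, hr.centre_ne⟩ hz h0
  exact hzu a ha

end CfsgLib.Geo.SL3.Trans
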