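/-
Characteristic two, root groups of order two: there is a one-sided pair.
-/
import Cfsg.Agent.Lib.Geo.SL3.Trans.TwoAxes
import Cfsg.Agent.Lib.ZStar.Main

set_option autoImplicit false

namespace CfsgLib.Geo.SL3.Trans

open Matrix CfsgLib.Geo.Roots

variable {F : Type*} [Field F] {L : Subgroup (Matrix.GeneralLinearGroup (Fin 3) F)}

/-- Inverse transpose. -/
def invTr : Matrix.GeneralLinearGroup (Fin 3) F →* Matrix.GeneralLinearGroup (Fin 3) F where
  toFun g :=
    { val := ((g⁻¹ : Matrix.GeneralLinearGroup (Fin 3) F) : Matrix (Fin 3) (Fin 3) F)ᵀ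
      inv := (g : Matrix (Fin 3) (Fin 3) F)ᵀ
      val_inv := by rw [← Matrix.transpose_mul, Units.mul_inv, Matrix.transpose_one]
      inv_val := by rw [← Matrix.transpose_mul, Units.inv_mul, Matrix.transpose_one] }
  map_one' := Units.ext (by simp)
  map_mul' g h := Units.ext (by simp [_root_.mul_inv_rev, Matrix.transpose_mul])

theorem invTr_invTr (g : Matrix.GeneralLinearGroup (Fin 3) F) : invTr (invTr g) = g :=
  Units.ext (Matrix.transpose_transpose _)

/-- The dual group. -/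
def dualL (L : Subgroup (Matrix.GeneralLinearGroup (Fin 3) F)) : Subgroup (Matrix.GeneralLinearGroup (Fin 3) F) :=
  L.map invTr

theorem dualL_dualL : dualL (dualL L) = L := by
  rw [dualL, dualL, Subgroup.map_map]
  conv_rhs => rw [← Subgroup.map_id L]
  exact congrArg (fun f => L.map f) (MonoidHom.ext invTr_invTr)

theorem root_dual_of {φ u : Fin 3 → F} (h : Root L φ u) : Root (dualL L) u φ := by
  obtain ⟨e, m⟩ := h.neg
  have e' : u ⬝ᵥ φ = 0 := by rw [dotProduct_comm, h.dot]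
  refine ⟨e', ?_⟩
  have := Subgroup.mem_map_of_mem invTr m
  rw [show transvectionGL u φ e' = invTr (transvectionGL (-φ) u e) from ?_]
  · exact this
  refine Units.ext ?_
  show (1 : Matrix (Fin 3) (Fin 3) F) + Matrix.vecMulVec φ u = ((1 : Matrix (Fin 3) (Fin 3) F) - Matrix.vecMulVec u (-φ))ᵀ
  rw [Matrix.transpose_sub, Matrix.transpose_one, Matrix.transpose_vecMulVec, Matrix.neg_vecMulVec, sub_neg_eq_add]

theorem root_dual {φ u : Fin 3 → F} : Root (dualL L) φ u ↔ Root L u φ :=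
  ⟨fun h => dualL_dualL (L := L) ▸ root_dual_of h, root_dual_of⟩

theorem nroot_dual {φ u : Fin 3 → F} : NRoot (dualL L) φ u ↔ NRoot L u φ :=
  ⟨fun h => ⟨root_dual.1 h.root, h.centre_ne, h.axis_ne⟩, fun h => ⟨root_dual.2 h.root, h.centre_ne, h.axis_ne⟩⟩

/-- The hypotheses of this case. -/
def SmallTwo (L : Subgroup (Matrix.GeneralLinearGroup (Fin 3) F)) : Prop :=
  ∀ φ u, NRoot L φ u → ∀ l : F, Root L (l • φ) u → l = 0 ∨ l = 1

theorem NoSide.dual (hs : NoSide L) : NoSide (dualL L) := by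
  intro φ u χ c hr hr' h
  rw [dotProduct_comm]
  exact hs _ _ _ _ (nroot_dual.1 hr') (nroot_dual.1 hr) (by rwa [dotProduct_comm])

theorem SmallTwo.dual (hsm : SmallTwo L) : SmallTwo (dualL L) := by
  intro φ u hr l hl
  by_cases h0 : l = 0
  · exact Or.inl h0
  exact hsm _ _ (nroot_dual.1 hr) l ((root_smul_iff h0).1 (root_dual.1 hl))

/-- There is a one-sided pair. -/
theorem not_noSide_two [Fintype F] (hL : IsCore L) (hT : ¬ NoTransvection L) (h2 : (2 : F) = 0)
    (hsm : SmallTwo L) : ¬ NoSide L := by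
  intro hs
  have axis1 : ∀ {φ u ψ : Fin 3 → F}, NRoot L φ u → NRoot L ψ u → ∃ a : F, ψ = a • φ := by
    intro φ u ψ hr hr2
    by_contra hind
    push Not at hind
    obtain ⟨χ, v, hc, hp⟩ := exists_partner_conj hL hr
    refine false_of_two_axes h2 hs hsm (fun f hf => ?_) hr hr2 hind (hc.nroot hr) hp
    obtain ⟨w, ⟨ξ, hw⟩, h⟩ := exists_dot_ne_left hL (P := fun w => ∃ ξ, NRoot L ξ w)
      (fun g hg w ⟨ξ, hw⟩ => ⟨_, hw.conj hg⟩) ⟨u, ⟨φ, hr⟩, hr.centre_ne⟩ hf
    exact ⟨ξ, w, hw, h⟩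
  have centre1 : ∀ {φ u c : Fin 3 → F}, NRoot L φ u → NRoot L φ c → ∃ a : F, c = a • u := by
    intro φ u c hr hr2
    by_contra hind
    push Not at hind
    obtain ⟨χ, v, hc, hp⟩ := exists_partner_conj hL hr
    refine false_of_two_axes h2 hs.dual hsm.dual (fun f hf => ?_) (nroot_dual.2 hr) (nroot_dual.2 hr2) hind
      (nroot_dual.2 (hc.nroot hr)) ⟨by rw [dotProduct_comm]; exact hp.right, by rw [dotProduct_comm]; exact hp.left⟩
    obtain ⟨ξ, ⟨w, hw⟩, h⟩ := exists_dot_ne_right hL (P := fun ξ => ∃ w, NRoot L ξ w)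
      (fun g hg ξ ⟨w, hw⟩ => ⟨_, hw.conj hg⟩) ⟨φ, ⟨u, hr⟩, hr.axis_ne⟩ hf
    exact ⟨w, ξ, nroot_dual.2 hw, by rwa [dotProduct_comm]⟩
  obtain ⟨φ, u, hr⟩ := exists_nroot hT
  obtain ⟨e, hm⟩ := id hr.root
  let T : L := ⟨transvectionGL φ u e, hm⟩
  have hsame : ∀ {ψ : Fin 3 → F} (a : F) (e' : ψ ⬝ᵥ (a • u) = 0), NRoot L ψ (a • u) →
      transvectionGL ψ (a • u) e' = transvectionGL φ u e := by
    intro ψ a e' hψ
    have ha : a ≠ 0 := fun h => hψ.centre_ne (by rw [h, zero_smul])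
    obtain ⟨b, hb⟩ := axis1 hr (⟨(root_smul_iff ha).1 hψ.root, smul_ne_zero ha hψ.axis_ne, hr.centre_ne⟩ :
      NRoot L (a • ψ) u)
    have hb1 : b = 1 := by
      rcases hsm _ _ hr b (hb ▸ (root_smul_iff ha).1 hψ.root) with h | h
      · exact absurd (by rw [hb, h, zero_smul]) (smul_ne_zero ha hψ.axis_ne)
      · exact h
    rw [hb1, one_smul] at hb
    refine ext_mulVec fun x => ?_
    rw [transvectionGL_mulVec, transvectionGL_mulVec, smul_smul, ← hb, smul_dotProduct, smul_eq_mul, mul_comm]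
  have hT2 : orderOf T = 2 := by
    refine orderOf_eq_prime (p := 2) (Subtype.ext (ext_mulVec fun x => ?_)) fun h => ?_
    · rw [sq, Subgroup.coe_mul, Units.val_mul, ← Matrix.mulVec_mulVec, transvectionGL_mulVec, transvectionGL_mulVec,
        dotProduct_add, dotProduct_smul, e, smul_zero, add_zero, OneMemClass.coe_one, Units.val_one,
        Matrix.one_mulVec, add_assoc, ← add_smul, ← two_mul, h2, zero_mul, zero_smul, add_zero]
    · exact transvection_not_scalar hr.axis_ne hr.centre_ne e (by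
        show (T : Matrix.GeneralLinearGroup (Fin 3) F) ∈ _
        rw [h]; exact one_mem _)
  have hiso : Cfsg.IsIsolatedInvolution T := by
    refine ⟨hT2, fun g hg => ?_⟩
    obtain ⟨g, hgL⟩ := g
    have hψ := hr.conj hgL
    set ψ := φ ᵥ* ((g⁻¹ : Matrix.GeneralLinearGroup (Fin 3) F) : Matrix (Fin 3) (Fin 3) F)
    set v := (g : Matrix (Fin 3) (Fin 3) F) *ᵥ u
    obtain ⟨e', -⟩ := id hψ.root
    have hconj : g * transvectionGL φ u e * g⁻¹ = transvectionGL ψ v e' := by
      refine ext_mulVec fun y => ?_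
      rw [Units.val_mul, Units.val_mul, ← Matrix.mulVec_mulVec, ← Matrix.mulVec_mulVec, transvectionGL_mulVec,
        transvectionGL_mulVec, Matrix.mulVec_add, Matrix.mulVec_smul, Matrix.dotProduct_mulVec,
        Matrix.mulVec_mulVec, Units.mul_inv, Matrix.one_mulVec]
    refine Subtype.ext (?_ : g * transvectionGL φ u e * g⁻¹ = transvectionGL φ u e)
    have hcomm : Commute (transvectionGL φ u e) (transvectionGL ψ v e') := by
      have := congrArg Subtype.val hg.eq
      rw [← hconj]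
      exact this
    rw [hconj]
    suffices hpar : ∃ a : F, v = a • u by
      obtain ⟨a, ha⟩ := hpar
      have key : ∀ (w : Fin 3 → F) (e'' : ψ ⬝ᵥ w = 0), NRoot L ψ w → w = a • u →
          transvectionGL ψ w e'' = transvectionGL φ u e := by
        rintro w e'' hw rfl
        exact hsame a e'' hw
      exact key v e' hψ ha
    by_contra hpar
    push Not at hpar
    -- commuting: both cross products vanish
    have h00 : φ ⬝ᵥ v = 0 ∧ ψ ⬝ᵥ u = 0 := by
      have hc : ∀ x, (φ ⬝ᵥ v * (ψ ⬝ᵥ x)) • u = (ψ ⬝ᵥ u * (φ ⬝ᵥ x)) • v := fun x => by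
        have := congrArg (fun m : Matrix.GeneralLinearGroup (Fin 3) F => (m : Matrix (Fin 3) (Fin 3) F) *ᵥ x) hcomm.eq
        simp only [Units.val_mul, ← Matrix.mulVec_mulVec, transvectionGL_mulVec, dotProduct_add, dotProduct_smul,
          smul_eq_mul] at this
        linear_combination (norm := module) this
      by_contra hne
      have hp : φ ⬝ᵥ v ≠ 0 ∧ ψ ⬝ᵥ u ≠ 0 := by
        refine ⟨fun h => hne ⟨h, hs _ _ _ _ hr hψ h⟩, fun h => hne ⟨hs _ _ _ _ hψ hr h, h⟩⟩
      have := congrArg (fun z => φ ⬝ᵥ z) (hc v)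
      simp only [dotProduct_smul, e, e', smul_eq_mul, mul_zero, zero_mul] at this
      exact mul_ne_zero (mul_ne_zero hp.2 hp.1) hp.1 this.symm
    obtain ⟨χ, w, hc, hp⟩ := exists_partner_conj hL hr
    obtain ⟨z, hz, hz1, hz2⟩ := exists_common_zero φ χ
    have hw' := hc.nroot hr
    obtain ⟨C, hC⟩ := exists_frame hp hr.root.dot hw'.root.dot hz1 hz2 hz
    set x := ((C⁻¹ : Matrix.GeneralLinearGroup (Fin 3) F) : Matrix (Fin 3) (Fin 3) F) *ᵥ v
    have hx : v = x 0 • u + x 1 • w + x 2 • z := by rw [← colMat_mulVec, ← hC, mulVec_cancel_right]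
    have hx1 : x 1 = 0 := by
      have := h00.1
      rw [hx] at this
      simp only [dotProduct_add, dotProduct_smul, hr.root.dot, hz1, smul_eq_mul, mul_zero, zero_add,
        add_zero] at this
      exact (mul_eq_zero.1 this).resolve_right hp.left
    rw [hx1, zero_smul, add_zero] at hx
    have hx2 : x 2 ≠ 0 := fun h => hpar _ (by rw [hx, h, zero_smul, add_zero])
    have hψz : ψ ⬝ᵥ z = 0 := by
      have := hψ.root.dot
      rw [hx] at this
      simpa [dotProduct_add, dotProduct_smul, h00.2, hx2] using this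
    have hψφ : ψ = (ψ ⬝ᵥ w / (φ ⬝ᵥ w)) • φ := by
      refine sub_eq_zero.1 (eq_zero_of_frame hp hr.root.dot hw'.root.dot hz1 hz2 hz ?_ ?_ ?_)
      · simp [sub_dotProduct, smul_dotProduct, h00.2, hr.root.dot]
      · simp [sub_dotProduct, smul_dotProduct, hp.left]
      · simp [sub_dotProduct, smul_dotProduct, hψz, hz1]
    set t := ψ ⬝ᵥ w / (φ ⬝ᵥ w)
    have ht : t ≠ 0 := fun h => hψ.axis_ne (by rw [hψφ, h, zero_smul])
    obtain ⟨a, ha⟩ := centre1 hr (⟨(root_smul_iff ht).2 (hψφ ▸ hψ.root), hr.axis_ne,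
      smul_ne_zero ht hψ.centre_ne⟩ : NRoot L φ (t • v))
    exact hpar (t⁻¹ * a) (by rw [mul_smul, ← ha, smul_smul, inv_mul_cancel₀ ht, one_smul])
  -- the commutators lie in the odd core
  have hodd := fun g => ZStar.mem_oddCore_of_isolated hiso g
  by_cases hsc : ∀ g : L, ((T * g * T⁻¹ * g⁻¹ : L) : Matrix.GeneralLinearGroup (Fin 3) F) ∈ Cfsg.Geo.scalars (Fin 3) F
  · haveI := hL.simple
    have hz : (QuotientGroup.mk T : L ⧸ (Cfsg.Geo.scalars (Fin 3) F).subgroupOf L) ∈ Subgroup.center _ := by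
      refine Subgroup.mem_center_iff.2 fun q => ?_
      induction q using QuotientGroup.induction_on with
      | H g =>
        have := (QuotientGroup.eq_one_iff (N := (Cfsg.Geo.scalars (Fin 3) F).subgroupOf L) (T * g * T⁻¹ * g⁻¹)).2
          (Subgroup.mem_subgroupOf.2 (hsc g))
        simp only [QuotientGroup.mk_mul, QuotientGroup.mk_inv] at this
        rw [mul_inv_eq_one, mul_inv_eq_iff_eq_mul] at this
        exact this.symm
    rcases Subgroup.Normal.eq_bot_or_eq_top (inferInstance :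
        (Subgroup.center (L ⧸ (Cfsg.Geo.scalars (Fin 3) F).subgroupOf L)).Normal) with h | h
    · rw [h, Subgroup.mem_bot, QuotientGroup.eq_one_iff] at hz
      exact transvection_not_scalar hr.axis_ne hr.centre_ne e hz
    · exact hL.nonabelian ⟨⟨fun a b => (Subgroup.mem_center_iff.1 (h.ge (Subgroup.mem_top a)) b).symm⟩⟩
  push Not at hsc
  obtain ⟨g, hg⟩ := hsc
  haveI hn : (Cfsg.oddCore L).Normal := inferInstanceAs (Cfsg.pPrimeCore 2 L).Normal
  have hinv : ∀ a ∈ L, ∀ x ∈ L, x ∈ (Cfsg.oddCore L).map L.subtype → a * x * a⁻¹ ∈ (Cfsg.oddCore L).map L.subtype := by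
    intro a ha x _ hx
    obtain ⟨n, hn', rfl⟩ := Subgroup.mem_map.1 hx
    have hc := Subgroup.mem_map_of_mem L.subtype (hn.conj_mem n hn' (⟨a, ha⟩ : L))
    rw [map_mul, map_mul, map_inv] at hc
    exact hc
  have hle := le_of_invariant hL hinv (T * g * T⁻¹ * g⁻¹).2 (Subgroup.mem_map_of_mem L.subtype (hodd g)) hg
  have hcard : Odd (Nat.card L) := by
    have h1 : Nat.card L ∣ Nat.card ((Cfsg.oddCore L).map L.subtype) := Subgroup.card_dvd_of_le hle
    rw [← Nat.card_congr ((Cfsg.oddCore L).equivMapOfInjective _ L.subtype_injective).toEquiv] at h1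
    exact ZStar.odd_of_dvd h1 (ZStar.odd_card_oddCore L)
  have h2' : (2 : ℕ) ∣ Nat.card L := hT2 ▸ orderOf_dvd_natCard T
  exact Nat.not_even_iff_odd.2 hcard (even_iff_two_dvd.2 h2')

end CfsgLib.Geo.SL3.Trans
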