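/-
Irreducible subgroups of SL(3) with transvections.
-/
import Cfsg.Agent.Lib.Geo.SL3.Trans.Three
import Cfsg.Agent.Lib.Geo.SL3.Trans.Hermitian
import Cfsg.Agent.Lib.Geo.SL3.Trans.TwoSide
import Cfsg.Agent.Lib.Geo.SL3.Trans.TwoDihedral

set_option autoImplicit false

namespace CfsgLib.Geo.SL3.Trans

open Matrix CfsgLib.Geo.Roots

variable {F : Type*} [Field F] {L : Subgroup (Matrix.GeneralLinearGroup (Fin 3) F)}

theorem exists_one_sided (h : ¬ NoSide L) :
    ∃ φ u χ c, NRoot L φ u ∧ NRoot L χ c ∧ φ ⬝ᵥ c = 0 ∧ χ ⬝ᵥ u ≠ 0 := by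
  simpa [NoSide] using h

/-- A perfect irreducible group containing a transvection is SL(3,k), a unitary group, or 3.A6. -/
theorem classification [Fintype F] (hL : IsCore L) (hT : ¬ NoTransvection L) :
    (∃ (k : Subfield F) (B : Matrix.GeneralLinearGroup (Fin 3) F), conjL B L = slRat k) ∨
    (∃ (B : Matrix.GeneralLinearGroup (Fin 3) F) (k k2 : Subfield F) (σ : F →+* F) (η : F),
      (∃ l ∈ k, l ≠ 0 ∧ l ≠ 1) ∧ UnitaryType (conjL B L) k k2 σ η) ∨
    ((2 : F) = 0 ∧
      Nonempty ((L ⧸ (Cfsg.Geo.scalars (Fin 3) F).subgroupOf L) ≃* alternatingGroup (Fin 6)) ∧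
      ∃ ω : F, ω ^ 2 + ω + 1 = 0) := by
  classical
  rcases trichotomy hL hT with ⟨k, hg⟩ | ⟨h3, hsmall, φ, u, ψ, v, hr, hr', hex⟩ | ⟨h2, hsmall⟩
  · by_cases hs : NoSide L
    · by_cases hbig : ∃ l ∈ k, l ≠ 0 ∧ l ≠ 1
      · obtain ⟨B, k2, σ, η, h⟩ := unitary_of_noSide hL hT hg hs hbig
        exact Or.inr (Or.inl ⟨B, k, k2, σ, η, hbig, h⟩)
      · push Not at hbig
        exfalso
        have h2 : (2 : F) = 0 := by
          have h := hbig (-1) (k.neg_mem k.one_mem) (neg_ne_zero.2 one_ne_zero)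
          linear_combination -h
        refine not_noSide_two hL hT h2 (fun φ u hr l hl => ?_) hs
        by_cases h0 : l = 0
        · exact Or.inl h0
        · exact Or.inr (hbig l ((hg.line _ _ hr l).1 hl) h0)
    · obtain ⟨φ, u, χ, c, hr, hr', h0, h1⟩ := exists_one_sided hs
      obtain ⟨B, hB⟩ := linear_of_one_sided hL hg hr hr' h0 h1
      exact Or.inl ⟨k, B, hB⟩
  · exact absurd (SmallThree.false_of_pair ⟨hL, h3, hsmall⟩ hr hr' hex) not_false
  · have hsm : SmallTwo L := by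
      intro φ u hr l hl
      by_contra! hc
      have h1 : (({0, 1, l} : Finset F) : Set F) ⊆ lineSet L φ u := by
        intro x hx
        simp at hx
        rcases hx with rfl | rfl | rfl
        exacts [(lineSet L φ u).zero_mem, one_mem_lineSet hr.root, hl]
      have h := Set.ncard_le_ncard h1
      rw [Set.ncard_coe_finset, ← Nat.card_coe_set_eq, Finset.card_insert_of_notMem (by simp [hc.1.symm]),
        Finset.card_pair hc.2.symm] at h
      exact absurd (h.trans (hsmall _ _ hr).le) (by norm_num)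
    obtain ⟨φ, u, χ, c, hr, hr', h0, h1⟩ := exists_one_sided (not_noSide_two hL hT h2 hsm)
    rcases dihedral_case hL h2 hsm hr hr' h0 h1 with hall | ⟨he, hω⟩
    swap
    · exact Or.inr (Or.inr ⟨h2, he, hω⟩)
    haveI : CharP F 2 := CharTwo.of_one_ne_zero_of_two_eq_zero one_ne_zero h2
    let k : Subfield F := (ZMod.castHom (dvd_refl 2) F).fieldRange
    have z2 : ∀ a : ZMod 2, a = 0 ∨ a = 1 := by decide
    have hk : ∀ {x : F}, x ∈ k ↔ x = 0 ∨ x = 1 := fun {x} => by
      refine ⟨?_, ?_⟩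
      · rintro ⟨a, rfl⟩
        rcases z2 a with rfl | rfl
        · exact Or.inl (map_zero _)
        · exact Or.inr (map_one _)
      · rintro (rfl | rfl)
        exacts [k.zero_mem, k.one_mem]
    have hg : Good L k := by
      refine ⟨fun φ u hr l => ⟨fun hl => hk.2 (hsm _ _ hr l hl), fun hl => ?_⟩,
        fun φ u ψ v hr hr' => hk.2 (hall φ u ψ v hr hr')⟩
      rcases hk.1 hl with rfl | rfl
      · rw [zero_smul]; exact Root.zero u
      · rw [one_smul]; exact hr.root
    obtain ⟨B, hB⟩ := linear_of_one_sided hL hg hr hr' h0 h1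
    exact Or.inl ⟨k, B, hB⟩

end CfsgLib.Geo.SL3.Trans
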